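import Groth.Agent.GrassLib.SchFun
import Groth.Agent.OmegaAffLib.AffHom
import Groth.Agent.KFlatLib.AffinePull
import Groth.Agent.FittLib.Generated
import Mathlib.RingTheory.OrzechProperty

/-!
# Sections and frames of locally free quotients over an affine open of the base
-/

set_option autoImplicit false
set_option linter.style.haveILetI false
set_option linter.unusedSectionVars false

universe u

open AlgebraicGeometry CategoryTheory CategoryTheory.Limits Opposite TopologicalSpace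
open KFlatLib (pb puSec puSecLE)
open ProjFormLib (ger ger_res ger_smul ger_map exists_ger IsFrame)
open scoped TensorProduct

noncomputable section

namespace GrassSch

variable {X T T' : Scheme.{u}}

section Algebra

variable {A B N N' : Type u} [CommRing A] [CommRing B] [AddCommGroup N] [Module A N] {r : ℕ}

theorem lincomb_map [AddCommGroup N'] [Module A N'] (α : N →ₗ[A] N') (v : Fin r → N) :
    ⇑(Fintype.linearCombination A fun j => α (v j)) = α ∘ ⇑(Fintype.linearCombination A v) := by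
  funext c
  simp [Fintype.linearCombination_apply, map_sum, map_smul]

/-- A family is a basis exactly when its matrix in a basis is invertible. -/
theorem bijective_comb_iff {b v : Fin r → N} (hb : Function.Bijective (Fintype.linearCombination A b))
    (G : Matrix (Fin r) (Fin r) A) (h : ∀ j, v j = ∑ i, G i j • b i) :
    Function.Bijective (Fintype.linearCombination A v) ↔ IsUnit G.det := by
  have e : ⇑(Fintype.linearCombination A v) = ⇑(Fintype.linearCombination A b) ∘ G.mulVec := funext fun c => by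
    simp only [Function.comp_apply, Fintype.linearCombination_apply]
    exact comb_mulVec b v G h c
  rw [e, Function.Bijective.of_comp_iff' hb, ← Matrix.isUnit_iff_isUnit_det]
  exact ⟨fun h => Matrix.mulVec_surjective_iff_isUnit.mp h.2, fun hG =>
    ⟨Matrix.mulVec_injective_of_isUnit hG, Matrix.mulVec_surjective_iff_isUnit.mpr hG⟩⟩

/-- In a free module of rank `r` over a local ring a spanning set contains a basis. -/
theorem exists_comb_bijective [IsLocalRing A] {ι : Type*} {b : Fin r → N}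
    (hb : Function.Bijective (Fintype.linearCombination A b)) (v : ι → N) (hv : Submodule.span A (Set.range v) = ⊤) :
    ∃ x : Fin r → ι, Function.Bijective (Fintype.linearCombination A fun j => v (x j)) := by
  classical
  let e := LinearEquiv.ofBijective _ hb
  let κ := IsLocalRing.ResidueField A
  let ρ : N →ₗ[A] (Fin r → κ) := ((Algebra.linearMap A κ).compLeft (Fin r)).comp e.symm.toLinearMap
  have hρ : Function.Surjective ρ := fun c => by
    refine ⟨e fun i => (IsLocalRing.residue_surjective (c i)).choose, funext fun i => ?_⟩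
    show algebraMap A κ (e.symm (e fun i => (IsLocalRing.residue_surjective (c i)).choose) i) = c i
    rw [LinearEquiv.symm_apply_apply]
    exact (IsLocalRing.residue_surjective (c i)).choose_spec
  have hspan : Submodule.span κ (Set.range (ρ ∘ v)) = ⊤ := by
    refine eq_top_iff.2 fun c hc => ?_
    clear hc
    obtain ⟨m, rfl⟩ := hρ c
    have hm : m ∈ Submodule.span A (Set.range v) := by rw [hv]; trivial
    induction hm using Submodule.span_induction with
    | mem y hy => obtain ⟨i, rfl⟩ := hy; exact Submodule.subset_span ⟨i, rfl⟩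
    | zero => rw [map_zero]; exact zero_mem _
    | add y z _ _ hy hz => rw [map_add]; exact add_mem hy hz
    | smul a y _ hy =>
      rw [map_smul, algebra_compatible_smul κ a]
      exact Submodule.smul_mem _ _ hy
  obtain ⟨w, hw, hw', -⟩ := Submodule.exists_fun_fin_finrank_span_eq κ (Set.range (ρ ∘ v))
  have hd : Module.finrank κ (Submodule.span κ (Set.range (ρ ∘ v))) = r := by
    rw [hspan, finrank_top, Module.finrank_fin_fun]
  choose x hx using hw
  let x' : Fin r → ι := fun j => x (Fin.cast hd.symm j)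
  refine ⟨x', ?_⟩
  let G : Matrix (Fin r) (Fin r) A := Matrix.of fun i j => e.symm (v (x' j)) i
  refine (bijective_comb_iff hb G fun j => ?_).2 ?_
  · refine ((e.apply_symm_apply (v (x' j))).symm.trans ?_)
    show Fintype.linearCombination A b (e.symm (v (x' j))) = _
    rw [Fintype.linearCombination_apply]
    rfl
  · refine (isUnit_map_iff (IsLocalRing.residue A) G.det).1 ?_
    rw [RingHom.map_det]
    let Gk : Matrix (Fin r) (Fin r) κ := (IsLocalRing.residue A).mapMatrix G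
    show IsUnit Gk.det
    rw [← Matrix.isUnit_iff_isUnit_det, ← Matrix.mulVec_surjective_iff_isUnit]
    show Function.Surjective Gk.toLin'
    rw [← LinearMap.range_eq_top, Matrix.range_toLin', eq_top_iff, ← hspan, ← hw']
    refine Submodule.span_mono ?_
    rintro _ ⟨i, rfl⟩
    refine ⟨Fin.cast hd i, ?_⟩
    rw [← hx i]
    rfl

end Algebra

section Frame

/-- The map out of a free module with given values. -/
def combHom {r : ℕ} (L : T.Modules) (s : Fin r → Γ(L, ⊤)) : FlatMod.freeMod T r ⟶ L :=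
  Sigma.desc fun j => QCohLib.unitHom L (s j)

theorem combHom_std {r : ℕ} (L : T.Modules) (s : Fin r → Γ(L, ⊤)) (j : Fin r) :
    (combHom L s).app ⊤ (FittLib.stdSec T r ⊤ j) = s j := by
  refine (congrArg (fun φ => Scheme.Modules.Hom.app φ ⊤ (1 : Γ(T, ⊤)))
    (Sigma.ι_desc (fun i => QCohLib.unitHom L (s i)) j)).trans ?_
  refine (QCohLib.unitHom_app L (s j) ⊤ (1 : Γ(T, ⊤))).trans ((one_smul _ _).trans ?_)
  exact congr($(L.presheaf.map_id _) (s j))

theorem isFrame_std (T : Scheme.{u}) (r : ℕ) :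
    IsFrame (FlatMod.freeMod T r) fun j => FittLib.stdSec T r ⊤ j := by
  obtain ⟨t, ht⟩ := ProjFormLib.isFrame_freeMod T r
  intro y hy
  let e := LinearEquiv.ofBijective _ (ht y hy)
  let L := Fintype.linearCombination (T.presheaf.stalk y) fun j =>
    ger (FlatMod.freeMod T r) y (U := ⊤) hy (FittLib.stdSec T r ⊤ j)
  have hsurj : Function.Surjective L := fun a => by
    obtain ⟨W, hW, w, rfl⟩ := exists_ger _ y a
    refine ⟨fun j => T.presheaf.germ W y hW (FittLib.coord w j), ?_⟩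
    conv_rhs => rw [FittLib.sum_coord w]
    rw [SeesawLib.ger_sum_smul, Fintype.linearCombination_apply]
    refine Finset.sum_congr rfl fun j _ => congrArg (T.presheaf.germ W y hW (FittLib.coord w j) • ·) ?_
    refine ((ger_res _ (le_top : W ≤ ⊤) y hW _).symm.trans (congrArg (ger _ y hW) ?_))
    refine (QCohLib.app_map (Sigma.ι (fun _ : Fin r => Coh.structureModule T) j) (homOfLE (le_top : W ≤ ⊤)) _).symm.trans ?_
    exact congrArg _ (map_one (T.presheaf.map (homOfLE (le_top : W ≤ ⊤)).op).hom)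
  exact (Function.Bijective.of_comp_iff' e.symm.bijective _).1
    (OrzechProperty.bijective_of_surjective_endomorphism (e.symm.toLinearMap.comp L) (e.symm.surjective.comp hsurj))

theorem bijAt_combHom_iff {r : ℕ} (L : T.Modules) (s : Fin r → Γ(L, ⊤)) (y : T) :
    y ∈ SeesawLib.BijAt (combHom L s) ↔
      Function.Bijective (Fintype.linearCombination (T.presheaf.stalk y) fun j => ger L y (U := ⊤) trivial (s j)) := by
  let α := ((DerSch.stalkFunctor T y).map (combHom L s)).hom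
  have h : (fun j => ger L y (U := ⊤) trivial (s j)) =
      fun j => α (ger (FlatMod.freeMod T r) y (U := ⊤) trivial (FittLib.stdSec T r ⊤ j)) := funext fun j =>
    ((ger_map (combHom L s) y (U := ⊤) trivial _).trans (congrArg (ger L y (U := ⊤) trivial) (combHom_std L s j))).symm
  rw [h, lincomb_map, Function.Bijective.of_comp_iff _ (isFrame_std T r y trivial)]
  rfl

theorem isOpen_bij_top {r : ℕ} {L : T.Modules} (hL : FlatMod.IsFinLocFree L) (s : Fin r → Γ(L, ⊤)) :
    IsOpen {y : T | Function.Bijective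
      (Fintype.linearCombination (T.presheaf.stalk y) fun j => ger L y (U := ⊤) trivial (s j))} := by
  simp only [← bijAt_combHom_iff]
  exact SeesawLib.isOpen_bijAt _ (finLocFree_of_rank (rank_of_frames fun y =>
    ⟨⊤, _, trivial, isFrame_std T r⟩)) hL

/-- The isomorphism of a frame. -/
def frameIso {r : ℕ} {L : T.Modules} {s : Fin r → Γ(L, ⊤)} (hs : IsFrame L s) : FlatMod.freeMod T r ≅ L :=
  haveI := SeesawLib.isIso_of_bijAt (combHom L s) fun y => (bijAt_combHom_iff L s y).2 (hs y trivial)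
  asIso (combHom L s)

theorem frameIso_std {r : ℕ} {L : T.Modules} {s : Fin r → Γ(L, ⊤)} (hs : IsFrame L s) (j : Fin r) :
    (frameIso hs).hom.app ⊤ (FittLib.stdSec T r ⊤ j) = s j := combHom_std L s j

/-- A frame gives a basis of the sections. -/
theorem bijective_comb_top {r : ℕ} {L : T.Modules} {s : Fin r → Γ(L, ⊤)} (hs : IsFrame L s) :
    Function.Bijective (Fintype.linearCombination Γ(T, ⊤) s) := by
  let ψ := frameIso hs
  have h1 : Function.Bijective (fun c : Fin r → Γ(T, ⊤) => ∑ i, c i • FittLib.stdSec T r ⊤ i) :=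
    ⟨fun c c' h => funext fun j => by
      rw [← FittLib.coord_sum_smul c j, ← FittLib.coord_sum_smul c' j]
      exact congrArg (FittLib.coord · j) h,
      fun e => ⟨FittLib.coord e, (FittLib.sum_coord e).symm⟩⟩
  have h2 : Function.Bijective (ψ.hom.app (⊤ : T.Opens)) :=
    Function.bijective_iff_has_inverse.2 ⟨ψ.inv.app ⊤, fun a => congr($(ψ.hom_inv_id).app ⊤ a),
      fun a => congr($(ψ.inv_hom_id).app ⊤ a)⟩
  have h3 : ⇑(Fintype.linearCombination Γ(T, ⊤) s) =
      ψ.hom.app ⊤ ∘ fun c : Fin r → Γ(T, ⊤) => ∑ i, c i • FittLib.stdSec T r ⊤ i := funext fun c => by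
    refine Eq.trans ?_ (map_sum (ψ.hom.app ⊤).hom _ _).symm
    rw [Fintype.linearCombination_apply]
    refine Finset.sum_congr rfl fun i _ => ?_
    exact ((QCohLib.app_smul ψ.hom ⊤ (c i) _).trans (congrArg (c i • ·) (frameIso_std hs i))).symm
  rw [h3]
  exact h2.comp h1

/-- Coordinates in a frame. -/
def coords' {r : ℕ} {L : T.Modules} {s : Fin r → Γ(L, ⊤)} (hs : IsFrame L s) :
    Γ(L, ⊤) ≃ₗ[Γ(T, ⊤)] (Fin r → Γ(T, ⊤)) :=
  (LinearEquiv.ofBijective _ (bijective_comb_top hs)).symm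

theorem sum_coords' {r : ℕ} {L : T.Modules} {s : Fin r → Γ(L, ⊤)} (hs : IsFrame L s) (m : Γ(L, ⊤)) :
    ∑ j, coords' hs m j • s j = m :=
  (Fintype.linearCombination_apply _ _ _).symm.trans ((LinearEquiv.ofBijective _ (bijective_comb_top hs)).apply_symm_apply m)

end Frame

section Pull

/-- Pullback of global sections. -/
def puTop (h : T' ⟶ T) (L : T.Modules) : Γ(L, ⊤) →+ Γ(pb h L, ⊤) := puSecLE h L (U := ⊤) (U' := ⊤) le_rfl

theorem puTop_smul (h : T' ⟶ T) {L : T.Modules} (c : Γ(T, ⊤)) (m : Γ(L, ⊤)) :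
    puTop h L (c • m) = h.appTop c • puTop h L m := by
  refine (KFlatLib.puSecLE_smul h L (U := ⊤) (U' := ⊤) le_rfl c m).trans ?_
  refine congrArg (fun a : Γ(T', ⊤) => a • puTop h L m) ?_
  exact congr($((Scheme.Hom.app_eq_appLE (f := h) (U := ⊤)).symm) c)

theorem isFrame_puTop (h : T' ⟶ T) {r : ℕ} {L : T.Modules} {s : Fin r → Γ(L, ⊤)} (hs : IsFrame L s) :
    IsFrame (pb h L) fun j => puTop h L (s j) :=
  CohCmpLib.isFrame_puSecLE h hs (V := ⊤) le_rfl

variable {E : X.Modules} {U : X.Opens}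

/-- The stalks of a pullback are spanned by the sections over an affine open of the base. -/
theorem span_ger_puSecLE [Coh.IsQCoh E] (hU : IsAffineOpen U) (g : T ⟶ X) (y : T) (hy : g y ∈ U) :
    Submodule.span (T.presheaf.stalk y)
      (Set.range fun m : Γ(E, U) => ger (pb g E) y (U := g ⁻¹ᵁ U) hy (puSec g m)) = ⊤ := by
  let φ : Γ(X, U) →+* T.presheaf.stalk y := (X.presheaf.germ U (g y) hy ≫ g.stalkMap y).hom
  letI : Algebra Γ(X, U) (T.presheaf.stalk y) := φ.toAlgebra
  letI : Module Γ(X, U) ((pb g E).presheaf.stalk y) := Module.compHom ((pb g E).presheaf.stalk y) φ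
  haveI : IsScalarTower Γ(X, U) (T.presheaf.stalk y) ((pb g E).presheaf.stalk y) :=
    IsScalarTower.of_algebraMap_smul fun _ _ => rfl
  let l : Γ(E, U) →ₗ[Γ(X, U)] (pb g E).presheaf.stalk y :=
    { toFun := fun m => (pb g E).presheaf.germ (g ⁻¹ᵁ U) y hy (puSec g m)
      map_add' := fun a b => by
        rw [← map_add]
        exact congrArg _ (map_add (((Scheme.Modules.pullbackPushforwardAdjunction g).unit.app E).app U).hom a b)
      map_smul' := fun c m => by
        rw [KFlatLib.puSec_smul]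
        refine (ger_smul (pb g E) y (U := g ⁻¹ᵁ U) hy _ _).trans ?_
        show _ = φ c • ger (pb g E) y (U := g ⁻¹ᵁ U) hy (puSec g m)
        refine congrArg (· • ger (pb g E) y (U := g ⁻¹ᵁ U) hy (puSec g m)) ?_
        exact (Scheme.Hom.germ_stalkMap_apply g U y hy c).symm }
  have hl := KFlatLib.isBaseChange_germ_puSec g E hU y hy (fun _ => rfl) l fun _ => rfl
  refine eq_top_iff.2 fun v hv => ?_
  clear hv
  induction v using hl.inductionOn with
  | zero => exact zero_mem _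
  | tmul m => exact Submodule.subset_span ⟨m, rfl⟩
  | smul a v hv => exact Submodule.smul_mem _ a hv
  | add v w hv hw => exact add_mem hv hw

/-- Maps out of a pullback are determined by the sections over an affine open of the base. -/
theorem hom_ext_top [Coh.IsQCoh E] (hU : IsAffineOpen U) {g : T ⟶ X} (hg : ⊤ ≤ g ⁻¹ᵁ U) {L : T.Modules}
    (a b : pb g E ⟶ L)
    (h : ∀ m, a.app ⊤ (puSecLE g E hg m) = b.app ⊤ (puSecLE g E hg m)) : a = b := by
  refine Scheme.Modules.hom_ext _ _ fun W => ConcreteCategory.hom_ext _ _ fun w =>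
    ProjFormLib.section_ext _ _ fun y hy => ?_
  rw [← ger_map, ← ger_map]
  have hy' : g y ∈ U := hg (Opens.mem_top y)
  have key : ((DerSch.stalkFunctor T y).map a).hom = ((DerSch.stalkFunctor T y).map b).hom := by
    refine LinearMap.ext_on_range (span_ger_puSecLE hU g y hy') fun m => ?_
    have e : ∀ c : pb g E ⟶ L, ((DerSch.stalkFunctor T y).map c).hom (ger (pb g E) y (U := g ⁻¹ᵁ U) hy' (puSec g m)) =
        ger L y (U := ⊤) trivial (c.app ⊤ (puSecLE g E hg m)) := fun c => by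
      refine (ger_map c y (U := g ⁻¹ᵁ U) hy' _).trans ?_
      exact (ger_res L hg y trivial _).symm.trans
        (congrArg (ger L y (U := ⊤) trivial) (QCohLib.app_map c (homOfLE hg) _).symm)
    rw [e a, e b, h]
  rw [key]

/-- A map out of the pullback to an affine scheme with prescribed values. -/
theorem exists_hom_top [IsAffine T] [Coh.IsQCoh E] (hU : IsAffineOpen U) {g : T ⟶ X} (hg : ⊤ ≤ g ⁻¹ᵁ U)
    (L : T.Modules) (ψ : Γ(E, U) →+ Γ(L, ⊤))
    (hψ : ∀ (c : Γ(X, U)) (m : Γ(E, U)), ψ (c • m) = g.appLE U ⊤ hg c • ψ m) :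
    ∃ t : pb g E ⟶ L, ∀ m, t.app ⊤ (puSecLE g E hg m) = ψ m := by
  haveI := KFlatLib.isQCoh_pullback g E
  let φ : Γ(X, U) →+* Γ(T, ⊤) := (g.appLE U ⊤ hg).hom
  letI : Algebra Γ(X, U) Γ(T, ⊤) := φ.toAlgebra
  letI : Module Γ(X, U) Γ(pb g E, ⊤) := Module.compHom Γ(pb g E, ⊤) φ
  haveI : IsScalarTower Γ(X, U) Γ(T, ⊤) Γ(pb g E, ⊤) := IsScalarTower.of_algebraMap_smul fun _ _ => rfl
  letI : Module Γ(X, U) Γ(L, ⊤) := Module.compHom Γ(L, ⊤) φ
  haveI : IsScalarTower Γ(X, U) Γ(T, ⊤) Γ(L, ⊤) := IsScalarTower.of_algebraMap_smul fun _ _ => rfl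
  let p : Γ(E, U) →ₗ[Γ(X, U)] Γ(pb g E, ⊤) :=
    { toFun := puSecLE g E hg
      map_add' := map_add _
      map_smul' := fun c m => KFlatLib.puSecLE_smul g E hg c m }
  have hbc := KFlatLib.isBaseChange_puSec g E hU (isAffineOpen_top T) hg (fun _ => rfl) p fun _ => rfl
  let ψ' : Γ(E, U) →ₗ[Γ(X, U)] Γ(L, ⊤) := { toFun := ψ, map_add' := map_add ψ, map_smul' := hψ }
  let Ψ : Γ(pb g E, ⊤) →ₗ[Γ(T, ⊤)] Γ(L, ⊤) := hbc.lift ψ'
  obtain ⟨t, ht, -⟩ := OmegaAffLib.exists_hom_of_top (pb g E) L Ψ.toAddMonoidHom fun a x => Ψ.map_smul a x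
  exact ⟨t, fun m => (ht _).trans (hbc.lift_eq ψ' m)⟩

end Pull

section Quot

variable {E : X.Modules} {r : ℕ} {U : X.Opens}

/-- The image of a section over `U` in a quotient. -/
def QPt.sec0 (P : QPt E r T) (m : Γ(E, U)) : Γ(P.L, P.g ⁻¹ᵁ U) := P.s.app (P.g ⁻¹ᵁ U) (puSec P.g m)

/-- The image of a section over `U` in a quotient, as a global section. -/
def QPt.secT (P : QPt E r T) (hg : ⊤ ≤ P.g ⁻¹ᵁ U) : Γ(E, U) →+ Γ(P.L, ⊤) :=
  (P.s.app ⊤).hom.comp (puSecLE P.g E hg)

theorem QPt.secT_eq (P : QPt E r T) (hg : ⊤ ≤ P.g ⁻¹ᵁ U) (m : Γ(E, U)) :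
    P.secT hg m = P.L.presheaf.map (homOfLE hg).op (P.sec0 m) :=
  QCohLib.app_map P.s (homOfLE hg) (puSec P.g m)

theorem QPt.secT_smul (P : QPt E r T) (hg : ⊤ ≤ P.g ⁻¹ᵁ U) (c : Γ(X, U)) (m : Γ(E, U)) :
    P.secT hg (c • m) = P.g.appLE U ⊤ hg c • P.secT hg m :=
  (congrArg (P.s.app ⊤) (KFlatLib.puSecLE_smul P.g E hg c m)).trans (QCohLib.app_smul P.s ⊤ _ _)

theorem QPt.ger_secT (P : QPt E r T) (hg : ⊤ ≤ P.g ⁻¹ᵁ U) (m : Γ(E, U)) (y : T) (hy : P.g y ∈ U) :
    ger P.L y (U := ⊤) trivial (P.secT hg m) = ger P.L y (U := P.g ⁻¹ᵁ U) hy (P.sec0 m) := by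
  rw [QPt.secT_eq]
  exact ger_res P.L hg y trivial _

theorem QPt.secT_map (h : T' ⟶ T) (P : QPt E r T) (hg : ⊤ ≤ P.g ⁻¹ᵁ U) (hg' : ⊤ ≤ (P.map h).g ⁻¹ᵁ U)
    (m : Γ(E, U)) : (P.map h).secT hg' m = puTop h P.L (P.secT hg m) := by
  rw [QPt.secT_eq, QPt.secT_eq]
  show (pb h P.L).presheaf.map _ ((P.map h).s.app ((h ≫ P.g) ⁻¹ᵁ U) (puSec (h ≫ P.g) m)) = _
  rw [QPt.map_s_puSec]
  refine Eq.trans ?_ (congrArg (fun w => (pb h P.L).presheaf.map
    (homOfLE (le_rfl : (⊤ : T'.Opens) ≤ h ⁻¹ᵁ (⊤ : T.Opens))).op w) (TwistLib.puSec_res h hg (P.sec0 m)).symm)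
  exact (QCohLib.map_map' (pb h P.L) _ _ _).symm

/-- Isomorphic quotients have corresponding sections. -/
theorem QPt.secT_rel {P Q : QPt E r T} (h : P.Rel Q) : P.g = Q.g ∧ ∃ e : P.L ≅ Q.L,
    ∀ (hP : ⊤ ≤ P.g ⁻¹ᵁ U) (hQ : ⊤ ≤ Q.g ⁻¹ᵁ U) (m : Γ(E, U)), e.hom.app ⊤ (P.secT hP m) = Q.secT hQ m := by
  obtain ⟨g, L, hL, s, hs⟩ := P
  obtain ⟨g', L', hL', s', hs'⟩ := Q
  obtain ⟨hg, e, he⟩ := h
  dsimp only at hg
  subst hg
  change L ≅ L' at e
  have he' : s ≫ e.hom = s' := by simpa [Scheme.Modules.pullbackCongr] using he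
  refine ⟨rfl, e, fun hP hQ m => ?_⟩
  subst he'
  rfl

/-- Quotients with corresponding sections over an affine open are isomorphic. -/
theorem QPt.rel_of_secT [Coh.IsQCoh E] (hU : IsAffineOpen U) {P Q : QPt E r T} (hgg : P.g = Q.g)
    (hP : ⊤ ≤ P.g ⁻¹ᵁ U) (hQ : ⊤ ≤ Q.g ⁻¹ᵁ U) (e : P.L ≅ Q.L)
    (h : ∀ m : Γ(E, U), e.hom.app ⊤ (P.secT hP m) = Q.secT hQ m) : P.Rel Q := by
  obtain ⟨g, L, hL, s, hs⟩ := P
  obtain ⟨g', L', hL', s', hs'⟩ := Q
  dsimp only at hgg
  subst hgg
  refine ⟨rfl, e, ?_⟩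
  have he : s ≫ e.hom = s' := hom_ext_top hU hP _ _ h
  simpa [Scheme.Modules.pullbackCongr] using he

/-- The chosen sections form a basis of the quotient at `z`. -/
def QPt.InLoc (P : QPt E r T) (x : Fin r → Γ(E, U)) (z : T) : Prop :=
  ∃ hz : P.g z ∈ U, Function.Bijective
    (Fintype.linearCombination (T.presheaf.stalk z) fun j => ger P.L z (U := P.g ⁻¹ᵁ U) hz (P.sec0 (x j)))

theorem QPt.inLoc_map_iff (h : T' ⟶ T) (P : QPt E r T) (x : Fin r → Γ(E, U)) (z : T') :
    (P.map h).InLoc x z ↔ P.InLoc x (h z) := by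
  refine exists_congr fun (hz : P.g (h z) ∈ U) => ?_
  obtain ⟨V, b, hV, hb⟩ := SeesawLib.rankSet_of_rank P.inv (h z)
  let β : Fin r → CohCmpLib.stk P.L (h z) := fun i => ger P.L (h z) hV (b i)
  choose G hG using fun j => (hb (h z) hV).2 (ger P.L (h z) (U := P.g ⁻¹ᵁ U) hz (P.sec0 (x j)))
  letI := (h.stalkMap z).hom.toAlgebra
  obtain ⟨e, he⟩ := CohCmpLib.exists_stalkPullEquiv h P.L z
  have hb' : Function.Bijective (Fintype.linearCombination (T'.presheaf.stalk z) fun i =>
      ger (pb h P.L) z (U := h ⁻¹ᵁ V) hV (puSec h (b i))) := CohCmpLib.isFrame_puSec h hb z hV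
  have hs : ∀ j, ger (P.map h).L z (U := (P.map h).g ⁻¹ᵁ U) hz ((P.map h).sec0 (x j)) =
      ∑ i, ((h.stalkMap z).hom.mapMatrix (Matrix.of fun i j => G j i)) i j •
        ger (pb h P.L) z (U := h ⁻¹ᵁ V) hV (puSec h (b i)) := fun j => by
    refine (congrArg (ger (pb h P.L) z (U := (h ≫ P.g) ⁻¹ᵁ U) hz) (QPt.map_s_puSec h P (x j))).trans ?_
    refine (he (P.g ⁻¹ᵁ U) hz (P.sec0 (x j))).symm.trans ?_
    rw [← hG j, Fintype.linearCombination_apply, TensorProduct.tmul_sum, map_sum]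
    refine Finset.sum_congr rfl fun i _ => ?_
    rw [TensorProduct.tmul_smul, algebra_compatible_smul (T'.presheaf.stalk z) (G j i), map_smul, he V hV]
    rfl
  have hs0 : ∀ j, ger P.L (h z) (U := P.g ⁻¹ᵁ U) hz (P.sec0 (x j)) =
      ∑ i, (Matrix.of fun i j => G j i : Matrix (Fin r) (Fin r) (T.presheaf.stalk (h z))) i j • β i := fun j => by
    rw [← hG j, Fintype.linearCombination_apply]
    rfl
  refine (bijective_comb_iff hb' _ hs).trans (Iff.trans ?_ (bijective_comb_iff (hb (h z) hV) _ hs0).symm)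
  rw [← RingHom.map_det]
  exact isUnit_map_iff (h.stalkMap z).hom _

theorem QPt.inLoc_of_rel {P Q : QPt E r T} (h : P.Rel Q) {x : Fin r → Γ(E, U)} {z : T} (hz : P.InLoc x z) :
    Q.InLoc x z := by
  obtain ⟨g, L, hL, s, hs⟩ := P
  obtain ⟨g', L', hL', s', hs'⟩ := Q
  obtain ⟨hg, e, he⟩ := h
  dsimp only at hg
  subst hg
  change L ≅ L' at e
  have he' : s ≫ e.hom = s' := by simpa [Scheme.Modules.pullbackCongr] using he
  subst he'
  obtain ⟨hz, hb⟩ := hz
  refine ⟨hz, ?_⟩
  let α := ((DerSch.stalkFunctor T z).mapIso e).toLinearEquiv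
  have h2 := lincomb_map α.toLinearMap fun j => ger L z (U := g ⁻¹ᵁ U) hz (s.app (g ⁻¹ᵁ U) (puSec g (x j)))
  have h3 : (fun j => ger L' z (U := g ⁻¹ᵁ U) hz ((s ≫ e.hom).app (g ⁻¹ᵁ U) (puSec g (x j)))) =
      fun j => α.toLinearMap (ger L z (U := g ⁻¹ᵁ U) hz (s.app (g ⁻¹ᵁ U) (puSec g (x j)))) := funext fun j =>
    (ger_map e.hom z hz _).symm
  show Function.Bijective (Fintype.linearCombination (T.presheaf.stalk z) fun j =>
    ger L' z (U := g ⁻¹ᵁ U) hz ((s ≫ e.hom).app (g ⁻¹ᵁ U) (puSec g (x j))))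
  rw [h3, h2]
  exact α.bijective.comp hb

theorem QPt.isFrame_secT (P : QPt E r T) {x : Fin r → Γ(E, U)} (h : ∀ z, P.InLoc x z) (hg : ⊤ ≤ P.g ⁻¹ᵁ U) :
    IsFrame P.L fun j => P.secT hg (x j) := fun z _ => by
  obtain ⟨hz, hb⟩ := h z
  simpa only [P.ger_secT hg _ z hz] using hb

theorem QPt.isOpen_inLoc (P : QPt E r T) (x : Fin r → Γ(E, U)) : IsOpen {z | P.InLoc x z} := by
  let W : T.Opens := P.g ⁻¹ᵁ U
  let P' := P.map W.ι
  have hg : ⊤ ≤ P'.g ⁻¹ᵁ U := fun y _ => y.2
  have hopen := isOpen_bij_top (finLocFree_of_rank P'.inv) fun j => P'.secT hg (x j)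
  have heq : {z | P.InLoc x z} = W.ι '' {y | Function.Bijective (Fintype.linearCombination
      (W.toScheme.presheaf.stalk y) fun j => ger P'.L y (U := ⊤) trivial (P'.secT hg (x j)))} := by
    ext z
    constructor
    · intro hz
      refine ⟨⟨z, hz.1⟩, ?_, rfl⟩
      obtain ⟨hz', hb⟩ := (QPt.inLoc_map_iff W.ι P x (⟨z, hz.1⟩ : W.toScheme)).2 hz
      show Function.Bijective _
      simpa only [P'.ger_secT hg _ _ hz'] using hb
    · rintro ⟨y, hy, rfl⟩
      refine (QPt.inLoc_map_iff W.ι P x y).1 ⟨hg (Opens.mem_top y), ?_⟩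
      change Function.Bijective _ at hy
      simpa only [P'.ger_secT hg _ _ (hg (Opens.mem_top y))] using hy
  rw [heq]
  exact W.ι.isOpenEmbedding.isOpenMap _ hopen

/-- The open where the chosen sections form a basis of the quotient. -/
def QPt.locOpen (P : QPt E r T) (x : Fin r → Γ(E, U)) : T.Opens := ⟨_, P.isOpen_inLoc x⟩

theorem QPt.mem_locOpen {P : QPt E r T} {x : Fin r → Γ(E, U)} {z : T} : z ∈ P.locOpen x ↔ P.InLoc x z := Iff.rfl

/-- At every point some sections over an affine open form a basis of the quotient. -/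
theorem QPt.exists_inLoc [Coh.IsQCoh E] (hU : IsAffineOpen U) (P : QPt E r T) {z : T} (hz : P.g z ∈ U) :
    ∃ x : Fin r → Γ(E, U), P.InLoc x z := by
  obtain ⟨V, b, hV, hb⟩ := SeesawLib.rankSet_of_rank P.inv z
  let v : Γ(E, U) → (DerSch.stalkFunctor T z).obj P.L := fun m => ger P.L z (U := P.g ⁻¹ᵁ U) hz (P.sec0 m)
  have hv : Submodule.span (T.presheaf.stalk z) (Set.range v) = ⊤ := by
    let α := ((DerSch.stalkFunctor T z).map P.s).hom
    have hα : Function.Surjective α := by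
      haveI := P.epi
      exact (ModuleCat.epi_iff_surjective ((DerSch.stalkFunctor T z).map P.s)).1 inferInstance
    have : Set.range v = α '' (Set.range fun m : Γ(E, U) => ger (pb P.g E) z (U := P.g ⁻¹ᵁ U) hz (puSec P.g m)) := by
      rw [← Set.range_comp]
      exact congrArg Set.range (funext fun m => (ger_map P.s z (U := P.g ⁻¹ᵁ U) hz _).symm)
    rw [this, Submodule.span_image, span_ger_puSecLE hU P.g z hz, Submodule.map_top, LinearMap.range_eq_top.2 hα]
  obtain ⟨x, hx⟩ := exists_comb_bijective (hb z hV) v hv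
  exact ⟨x, hz, hx⟩

end Quot

end GrassSch

end
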