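import Groth.Prelude.Def_ExtPow2
import Groth.Agent.GrassLib.SchSec
import Groth.Agent.FittLib.Generated
import Mathlib.LinearAlgebra.ExteriorPower.Basis
import Mathlib.LinearAlgebra.Matrix.Determinant.Basic

/-!
# Exterior powers of free modules
-/

set_option autoImplicit false
set_option linter.style.haveILetI false
set_option linter.unusedSectionVars false

universe u

open AlgebraicGeometry CategoryTheory CategoryTheory.Limits Opposite TopologicalSpace
open KFlatLib (pb puSec puSecLE)
open ProjFormLib (ger ger_res ger_smul exists_ger IsFrame)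
open FittLib (stdSec coord sum_coord coord_sum_smul)

noncomputable section

namespace GrassSch

variable {Z : Scheme.{u}} {n : ℕ} {U W : Z.Opens}

theorem stdSec_res (h : W ≤ U) (j : Fin n) :
    (FlatMod.freeMod Z n).presheaf.map (homOfLE h).op (stdSec Z n U j) = stdSec Z n W j := by
  refine (QCohLib.app_map (Sigma.ι (fun _ : Fin n => Coh.structureModule Z) j) (homOfLE h) _).symm.trans ?_
  exact congrArg _ (map_one (Z.presheaf.map (homOfLE h).op).hom)

theorem coord_res (h : W ≤ U) (e : Γ(FlatMod.freeMod Z n, U)) (j : Fin n) :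
    coord ((FlatMod.freeMod Z n).presheaf.map (homOfLE h).op e) j = Z.presheaf.map (homOfLE h).op (coord e j) :=
  QCohLib.app_map (Sigma.desc fun i => if i = j then 𝟙 (Coh.structureModule Z) else 0 :
    FlatMod.freeMod Z n ⟶ Coh.structureModule Z) (homOfLE h) e

variable (Z n) in
/-- The coordinates of a free module over an open set. -/
def coordEquiv (U : Z.Opens) : ((FlatMod.freeMod Z n).val.obj (op U)) ≃ₗ[Γ(Z, U)] (Fin n → Γ(Z, U)) where
  toFun e j := coord (e : Γ(FlatMod.freeMod Z n, U)) j
  map_add' a b := funext fun j => map_add ((Sigma.desc fun i => if i = j then 𝟙 (Coh.structureModule Z) else 0 :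
    FlatMod.freeMod Z n ⟶ Coh.structureModule Z).app U).hom (a : Γ(FlatMod.freeMod Z n, U)) b
  map_smul' c a := funext fun j => QCohLib.app_smul (Sigma.desc fun i => if i = j then 𝟙 (Coh.structureModule Z) else 0 :
    FlatMod.freeMod Z n ⟶ Coh.structureModule Z) U c (a : Γ(FlatMod.freeMod Z n, U))
  invFun c := (∑ i, c i • stdSec Z n U i : Γ(FlatMod.freeMod Z n, U))
  left_inv e := (sum_coord (e : Γ(FlatMod.freeMod Z n, U))).symm
  right_inv c := funext fun j => coord_sum_smul c j

variable (Z n) in
/-- The standard basis of a free module over an open set. -/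
def stdBasis (U : Z.Opens) : Module.Basis (Fin n) Γ(Z, U) ((FlatMod.freeMod Z n).val.obj (op U)) :=
  Module.Basis.ofEquivFun (coordEquiv Z n U)

theorem stdBasis_repr (U : Z.Opens) (e : Γ(FlatMod.freeMod Z n, U)) (j : Fin n) :
    (stdBasis Z n U).repr e j = coord e j := rfl

/-- An enumeration of the subsets of given cardinality. -/
def chooseEquiv (n r : ℕ) : Fin (n.choose r) ≃ Set.powersetCard (Fin n) r :=
  (Finite.equivFinOfCardEq (by rw [Set.powersetCard.card, Nat.card_fin])).symm

variable (Z n) in
/-- The exterior power of a free module, over an open set. -/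
def extEquiv (r : ℕ) (U : Z.Opens) : ((FlatMod.freeMod Z (n.choose r)).val.obj (op U)) ≃ₗ[Γ(Z, U)]
    ↥(⋀[Γ(Z, U)]^r ((FlatMod.freeMod Z n).val.obj (op U))) :=
  (stdBasis Z (n.choose r) U).repr ≪≫ₗ (((stdBasis Z n U).exteriorPower r).reindex (chooseEquiv n r).symm).repr.symm

theorem coord_extEquiv_symm (r : ℕ) (U : Z.Opens) (e : Fin r → (FlatMod.freeMod Z n).val.obj (op U))
    (j : Fin (n.choose r)) :
    coord ((extEquiv Z n r U).symm (exteriorPower.ιMulti Γ(Z, U) r e) : Γ(FlatMod.freeMod Z (n.choose r), U)) j =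
      (Matrix.of fun a c => coord (e a : Γ(FlatMod.freeMod Z n, U))
        (Set.powersetCard.ofFinEmbEquiv.symm (chooseEquiv n r j) c)).det := by
  refine (stdBasis_repr (n := n.choose r) U _ j).symm.trans ?_
  simp only [extEquiv, LinearEquiv.trans_symm, LinearEquiv.trans_apply, LinearEquiv.symm_symm,
    LinearEquiv.apply_symm_apply]
  rw [Module.Basis.repr_reindex_apply, Equiv.symm_symm, exteriorPower.basis_repr_apply,
    exteriorPower.ιMultiDual_apply_ιMulti]
  rfl

/-- The exterior power of a free module is free. -/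
theorem isExtPow_free (Z : Scheme.{u}) (n r : ℕ) :
    ExtPow.IsExtPow r (FlatMod.freeMod Z n) (FlatMod.freeMod Z (n.choose r)) := by
  refine ⟨fun U => extEquiv Z n r U.1, fun U W h e => ?_⟩
  let a : Γ(FlatMod.freeMod Z (n.choose r), U.1) := (extEquiv Z n r U.1).symm (exteriorPower.ιMulti Γ(Z, U.1) r e)
  let b : Γ(FlatMod.freeMod Z (n.choose r), W.1) := (extEquiv Z n r W.1).symm (exteriorPower.ιMulti Γ(Z, W.1) r
    fun j => (FlatMod.freeMod Z n).val.map (homOfLE h).op (e j))
  show (FlatMod.freeMod Z (n.choose r)).presheaf.map (homOfLE h).op a = b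
  rw [sum_coord ((FlatMod.freeMod Z (n.choose r)).presheaf.map (homOfLE h).op a), sum_coord b]
  refine Finset.sum_congr rfl fun j _ => congrArg (· • stdSec Z (n.choose r) W.1 j) ?_
  rw [coord_res]
  refine (congrArg (Z.presheaf.map (homOfLE h).op) (coord_extEquiv_symm r U.1 e j)).trans ?_
  refine Eq.trans ?_ (coord_extEquiv_symm r W.1 _ j).symm
  show (Z.presheaf.map (homOfLE h).op).hom (Matrix.det _) = _
  rw [RingHom.map_det]
  refine congrArg Matrix.det (Matrix.ext fun a c => ?_)
  exact (coord_res h _ _).symm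

section Rank

variable {X : Scheme.{u}}

/-- A frame gives bases of the sections over smaller opens. -/
theorem bijective_comb_open {E : X.Modules} {n : ℕ} {U V : X.Opens} {e : Fin n → Γ(E, U)} (he : IsFrame E e)
    (hV : V ≤ U) : Function.Bijective (Fintype.linearCombination Γ(X, V) fun i => AmpleLib.res E hV (e i)) := by
  have h : (⊤ : V.toScheme.Opens) ≤ V.ι ⁻¹ᵁ V := fun z _ => z.2
  let s : Fin n → Γ(pb V.ι E, ⊤) := fun i => puSecLE V.ι E h (AmpleLib.res E hV (e i))
  have hs : IsFrame (pb V.ι E) s := CohCmpLib.isFrame_puSecLE V.ι (he.res hV) h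
  have hb : Function.Bijective (puSecLE V.ι E h) := by
    have h1 := puSec_bijective V.ι E (W := V) (by rw [Scheme.Opens.opensRange_ι])
    haveI : IsIso (homOfLE h) := ⟨⟨homOfLE le_top, Subsingleton.elim _ _, Subsingleton.elim _ _⟩⟩
    exact (ConcreteCategory.bijective_of_isIso ((pb V.ι E).presheaf.map (homOfLE h).op)).comp h1
  let ρ := V.ι.appLE V ⊤ h
  have hρ : Function.Bijective ρ := by
    haveI : IsIso ρ := by
      have e1 : ρ = V.topIso.inv := by
        simp [ρ, Scheme.Hom.appLE, Scheme.Opens.topIso_inv]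
        exact congrArg _ (Subsingleton.elim _ _)
      rw [e1]
      infer_instance
    exact ConcreteCategory.bijective_of_isIso ρ
  have hc : ∀ c : Fin n → Γ(X, V), puSecLE V.ι E h (Fintype.linearCombination Γ(X, V)
      (fun i => AmpleLib.res E hV (e i)) c) = Fintype.linearCombination Γ(V.toScheme, ⊤) s (ρ ∘ c) := fun c => by
    rw [Fintype.linearCombination_apply, Fintype.linearCombination_apply, map_sum]
    exact Finset.sum_congr rfl fun i _ => KFlatLib.puSecLE_smul V.ι E h (c i) _
  refine (Function.Bijective.of_comp_iff' hb _).1 ?_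
  rw [show (puSecLE V.ι E h) ∘ ⇑(Fintype.linearCombination Γ(X, V) fun i => AmpleLib.res E hV (e i)) =
    ⇑(Fintype.linearCombination Γ(V.toScheme, ⊤) s) ∘ fun c => ρ ∘ c from funext hc]
  exact (bijective_comb_top hs).comp hρ.comp_left

/-- A family which is a basis of the sections over all small affine opens is a frame. -/
theorem isFrame_of_bijective {E : X.Modules} {n : ℕ} {U : X.Opens} {e : Fin n → Γ(E, U)}
    (he : ∀ (V : X.affineOpens) (hV : V.1 ≤ U),
      Function.Bijective (Fintype.linearCombination Γ(X, V.1) fun i => AmpleLib.res E hV (e i))) : IsFrame E e := by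
  intro y hy
  have hev : ∀ (V : X.Opens) (hV : V ≤ U) (hyV : y ∈ V) (c : Fin n → Γ(X, V)),
      Fintype.linearCombination (X.presheaf.stalk y) (fun i => ger E y hy (e i))
          (fun i => X.presheaf.germ V y hyV (c i)) =
        ger E y hyV (Fintype.linearCombination Γ(X, V) (fun i => AmpleLib.res E hV (e i)) c) := fun V hV hyV c => by
    rw [Fintype.linearCombination_apply, Fintype.linearCombination_apply, SeesawLib.ger_sum_smul]
    exact Finset.sum_congr rfl fun i _ => congrArg (_ • ·) (ger_res E hV y hyV (e i)).symm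
  constructor
  · refine (injective_iff_map_eq_zero _).2 fun a ha => ?_
    choose W hW r hr using fun i => X.presheaf.exists_germ_eq (x := y) (a i)
    let Wi : X.Opens := ⟨⋂ i, (W i : Set X), isOpen_iInter_of_finite fun i => (W i).isOpen⟩
    obtain ⟨V, hVa, hyV, hle⟩ := exists_isAffineOpen_mem_and_subset (X := X) (x := y)
      (U := U ⊓ Wi) ⟨hy, Set.mem_iInter.2 hW⟩
    have hi : ∀ i, V ≤ W i := fun i => fun z hz => Set.mem_iInter.1 (hle hz).2 i
    have hV : V ≤ U := hle.trans inf_le_left
    let c : Fin n → Γ(X, V) := fun i => X.presheaf.map (homOfLE (hi i)).op (r i)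
    have hca : ∀ i, X.presheaf.germ V y hyV (c i) = a i := fun i => by
      rw [← hr i]
      exact X.presheaf.germ_res_apply (homOfLE (hi i)) y hyV (r i)
    let t := Fintype.linearCombination Γ(X, V) (fun i => AmpleLib.res E hV (e i)) c
    have ht : ger E y hyV t = ger E y hyV (0 : Γ(E, V)) := by
      rw [← hev V hV hyV c, funext hca, ha]
      exact (map_zero (E.presheaf.germ V y hyV).hom).symm
    obtain ⟨W', hyW', i₁, i₂, heq⟩ := E.presheaf.germ_eq y hyV hyV t 0 ht
    obtain ⟨V', hV'a, hyV', hle'⟩ := exists_isAffineOpen_mem_and_subset (X := X) (x := y) (U := W') hyW'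
    have hV'V : V' ≤ V := hle'.trans i₁.le
    have h0 : Fintype.linearCombination Γ(X, V') (fun i => AmpleLib.res E (hV'V.trans hV) (e i))
        (fun i => X.presheaf.map (homOfLE hV'V).op (c i)) = 0 := by
      have h1 := congrArg (E.presheaf.map (homOfLE hle').op) heq
      rw [map_zero (E.presheaf.map i₂.op).hom, map_zero] at h1
      refine Eq.trans ?_ ((QCohLib.map_map' E (homOfLE hle') i₁ t).symm.trans h1)
      rw [Fintype.linearCombination_apply, show t = ∑ i, c i • AmpleLib.res E hV (e i) from
        Fintype.linearCombination_apply _ _ _, map_sum]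
      refine Finset.sum_congr rfl fun i _ => ?_
      refine Eq.trans ?_ (E.map_smul (homOfLE hle' ≫ i₁) (c i) _).symm
      exact congrArg (_ • ·) (QCohLib.map_map' E (homOfLE hV'V) (homOfLE hV) (e i)).symm
    have h2 := (he ⟨V', hV'a⟩ (hV'V.trans hV)).1 (h0.trans (map_zero _).symm)
    funext i
    rw [← hca i, ← X.presheaf.germ_res_apply (homOfLE hV'V) y hyV' (c i),
      show X.presheaf.map (homOfLE hV'V).op (c i) = 0 from congrFun h2 i, map_zero]
    rfl
  · intro a
    obtain ⟨W, hW, t, rfl⟩ := exists_ger E y a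
    obtain ⟨V, hVa, hyV, hle⟩ := exists_isAffineOpen_mem_and_subset (X := X) (x := y) (U := U ⊓ W) ⟨hy, hW⟩
    obtain ⟨c, hc⟩ := (he ⟨V, hVa⟩ (hle.trans inf_le_left)).2 (AmpleLib.res E (hle.trans inf_le_right) t)
    refine ⟨fun i => X.presheaf.germ V y hyV (c i), ?_⟩
    rw [hev V (hle.trans inf_le_left) hyV c, hc]
    exact ger_res E (hle.trans inf_le_right) y hyV t

/-- An exterior power of a locally free module is locally free. -/
theorem rank_extPow {V L : X.Modules} {n q : ℕ} (hV : FlatMod.IsFinLocFreeOfRank n V)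
    (hL : ExtPow.IsExtPow q V L) : FlatMod.IsFinLocFreeOfRank (n.choose q) L := by
  classical
  obtain ⟨φ, hφ⟩ := hL
  refine rank_of_frames fun x => ?_
  obtain ⟨O, b, hO, hb⟩ := SeesawLib.rankSet_of_rank hV x
  obtain ⟨U, hUa, hxU, hle⟩ := exists_isAffineOpen_mem_and_subset (X := X) (x := x) (U := O) hO
  let B : ∀ (W : X.Opens) (hW : W ≤ O), Module.Basis (Fin n) Γ(X, W) (V.val.obj (op W)) := fun W hW =>
    Module.Basis.ofEquivFun (LinearEquiv.ofBijective (Fintype.linearCombination Γ(X, W) (M := V.val.obj (op W))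
      fun i => AmpleLib.res V hW (b i)) (bijective_comb_open hb hW)).symm
  have hB : ∀ W hW i, B W hW i = AmpleLib.res V hW (b i) := fun W hW i => by
    simp only [B, Module.Basis.coe_ofEquivFun, LinearEquiv.symm_symm]
    exact (Fintype.linearCombination_apply_single _ _ _ _).trans (one_smul _ _)
  let w : Fin (n.choose q) → Γ(L, U) := fun j =>
    (φ ⟨U, hUa⟩).symm (exteriorPower.ιMulti_family Γ(X, U) q (B U hle) (chooseEquiv n q j))
  refine ⟨U, w, hxU, isFrame_of_bijective fun W hW => ?_⟩
  let C : Module.Basis (Fin (n.choose q)) Γ(X, W.1) (L.val.obj (op W.1)) :=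
    (((B W.1 (hW.trans hle)).exteriorPower q).map (φ W).symm).reindex (chooseEquiv n q).symm
  have hw : ∀ j, AmpleLib.res L hW (w j) = C j := fun j => by
    show L.val.map (homOfLE hW).op ((φ ⟨U, hUa⟩).symm _) = _
    rw [exteriorPower.ιMulti_family, hφ ⟨U, hUa⟩ W hW, Module.Basis.reindex_apply, Equiv.symm_symm,
      Module.Basis.map_apply, exteriorPower.basis_apply, exteriorPower.ιMulti_family]
    refine congrArg (fun v => (φ W).symm (exteriorPower.ιMulti _ q v)) (funext fun i => ?_)
    simp only [Function.comp_apply]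
    refine (congrArg (V.val.map (homOfLE hW).op) (hB U hle _)).trans (Eq.trans ?_ (hB W.1 (hW.trans hle) _).symm)
    exact QCohLib.map_map' V (homOfLE hW) (homOfLE hle) _
  rw [show (fun i => AmpleLib.res L hW (w i)) = fun i => C i from funext hw]
  have hC : ⇑(Fintype.linearCombination Γ(X, W.1) (M := L.val.obj (op W.1)) fun i => C i) = C.equivFun.symm :=
    funext fun c => by rw [Fintype.linearCombination_apply, Module.Basis.equivFun_symm_apply]
  exact Eq.mpr (congrArg Function.Bijective hC) C.equivFun.symm.bijective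

end Rank

end GrassSch

end
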