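import Groth.Agent.GrassLib.SchBase
import Groth.Prelude.Def_GrassD

/-!
# Base change of a Grassmannian and change of the module
-/

set_option autoImplicit false
set_option linter.style.haveILetI false
set_option linter.unusedSectionVars false

universe u

open AlgebraicGeometry CategoryTheory CategoryTheory.Limits Opposite TopologicalSpace
open KFlatLib (pb puSec)

noncomputable section

namespace GrassSch

variable {X Y P P' T : Scheme.{u}}

theorem congr_hom_puSec {f f' : T ⟶ X} (h : f = f') (M : X.Modules) {U : X.Opens} (m : Γ(M, U)) :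
    ((Scheme.Modules.pullbackCongr h).hom.app M).app (f ⁻¹ᵁ U) (puSec f m) =
      (pb f' M).presheaf.map (eqToHom (by rw [h])).op (puSec f' m) := by
  subst h
  exact (congr($((pb f M).presheaf.map_id _) (puSec f m))).symm

theorem quotBC_comp {π : P ⟶ Y} {E : Y.Modules} {Q : P.Modules} (q : pb π E ⟶ Q) {g : T ⟶ Y} {h : T ⟶ P}
    (hg : h ≫ π = g) {L : T.Modules} (i : pb h Q ⟶ L) : Grass.quotBC hg q ≫ i = compQ q hg i := by
  simp only [compQ, Grass.quotBC, Category.assoc]

section BC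

variable {π : P ⟶ Y} {E : Y.Modules} {O1 : P.Modules} (q : pb π E ⟶ O1) {f : X ⟶ Y} {f' : P' ⟶ P} {π' : P' ⟶ X}

/-- The universal quotient of the base changed bundle. -/
def bcQuot (w : f' ≫ π = π' ≫ f) : pb π' (pb f E) ⟶ pb f' O1 :=
  (Scheme.Modules.pullbackComp π' f).hom.app E ≫ (Scheme.Modules.pullbackCongr w.symm).hom.app E ≫
    (Scheme.Modules.pullbackComp f' π).inv.app E ≫ (Scheme.Modules.pullback f').map q

theorem bcQuot_puSec (w : f' ≫ π = π' ≫ f) {U : Y.Opens} (m : Γ(E, U)) :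
    (bcQuot q w).app (π' ⁻¹ᵁ (f ⁻¹ᵁ U)) (puSec π' (puSec f m)) =
      (pb f' O1).presheaf.map (eqToHom (show π' ⁻¹ᵁ (f ⁻¹ᵁ U) = f' ⁻¹ᵁ (π ⁻¹ᵁ U) by
        rw [← Scheme.Hom.comp_preimage, ← w]; rfl)).op (puSec f' (q.app (π ⁻¹ᵁ U) (puSec π m))) := by
  let b : pb (f' ≫ π) E ⟶ pb f' O1 := (Scheme.Modules.pullbackComp f' π).inv.app E ≫ (Scheme.Modules.pullback f').map q
  have hb : b.app ((f' ≫ π) ⁻¹ᵁ U) (puSec (f' ≫ π) m) = puSec f' (q.app (π ⁻¹ᵁ U) (puSec π m)) := by
    show ((Scheme.Modules.pullback f').map q).app _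
      (((Scheme.Modules.pullbackComp f' π).inv.app E).app _ (puSec (f' ≫ π) m)) = _
    rw [pullbackComp_inv_puSec]
    exact KFlatLib.puSec_natural f' q (puSec π m)
  show b.app _ (((Scheme.Modules.pullbackCongr w.symm).hom.app E).app ((π' ≫ f) ⁻¹ᵁ U)
    (((Scheme.Modules.pullbackComp π' f).hom.app E).app _ (puSec π' (puSec f m)))) = _
  refine (congrArg (fun t => b.app _ (((Scheme.Modules.pullbackCongr w.symm).hom.app E).app ((π' ≫ f) ⁻¹ᵁ U) t))
    (CohCmpLib.pullbackComp_puSec π' f E m)).trans ?_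
  refine (congrArg (b.app _) (congr_hom_puSec w.symm E m)).trans ?_
  refine (QCohLib.app_map b (eqToHom (show (π' ≫ f) ⁻¹ᵁ U = (f' ≫ π) ⁻¹ᵁ U by rw [w])) _).trans ?_
  exact congrArg _ hb

theorem epi_bcQuot [Epi q] (w : f' ≫ π = π' ≫ f) : Epi (bcQuot q w) := by
  haveI : Epi ((Scheme.Modules.pullback f').map q) := by
    haveI := (Scheme.Modules.pullbackPushforwardAdjunction f').isLeftAdjoint
    exact Functor.map_epi _ _
  unfold bcQuot
  infer_instance

set_option maxHeartbeats 1000000 in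
/-- The base change of a Grassmannian. -/
theorem isGrass_bc {r : ℕ} (hP : Grass.IsGrass π E r O1 q) (hsq : IsPullback f' π' π f) :
    Grass.IsGrass π' (pb f E) r (pb f' O1) (bcQuot q hsq.w) where
  rank := SeesawLib.isFinLocFreeOfRank_pullback f' hP.rank
  epi := haveI := hP.epi; epi_bcQuot q _
  univ T g L hL s hs := by
    let s0 : pb (g ≫ f) E ⟶ L := (Scheme.Modules.pullbackComp g f).inv.app E ≫ s
    haveI : Epi s0 := inferInstance
    obtain ⟨h, ⟨hh, e, he0⟩, huniq⟩ := hP.univ T (g ≫ f) L hL s0 inferInstance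
    have he : compQ q hh e.hom = s0 := by simpa only [compQ, Grass.quotBC, Category.assoc] using he0
    -- the relation between the two composites
    have key : ∀ (h' : T ⟶ P') (hg' : h' ≫ π' = g) (hh' : (h' ≫ f') ≫ π = g ≫ f)
        (i' : pb h' (pb f' O1) ⟶ L),
        compQ (bcQuot q hsq.w) hg' i' = s ↔
          compQ q hh' ((Scheme.Modules.pullbackComp h' f').inv.app O1 ≫ i') = s0 := by
      intro h' hg' hh' i'
      subst hg'
      have hval : ∀ (U : Y.Opens) (m : Γ(E, U)),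
          (compQ q hh' ((Scheme.Modules.pullbackComp h' f').inv.app O1 ≫ i')).app (((h' ≫ π') ≫ f) ⁻¹ᵁ U)
              (puSec ((h' ≫ π') ≫ f) m) =
            (compQ (bcQuot q hsq.w) (rfl : h' ≫ π' = h' ≫ π') i').app ((h' ≫ π') ⁻¹ᵁ (f ⁻¹ᵁ U))
              (puSec (h' ≫ π') (puSec f m)) := by
        intro U m
        rw [compQ, compQ, comp_apply_puSec, comp_apply_puSec]
        rw [bcQuot_puSec, ← AmpleLib.res_refl (M := L) (V := (h' ≫ π') ⁻¹ᵁ (f ⁻¹ᵁ U))
          (L.presheaf.map (eqToHom _).op (i'.app _ _))]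
        have h1 : puSec h' ((pb f' O1).presheaf.map (eqToHom (show π' ⁻¹ᵁ (f ⁻¹ᵁ U) = f' ⁻¹ᵁ (π ⁻¹ᵁ U) by
            rw [← Scheme.Hom.comp_preimage, ← hsq.w]; rfl)).op (puSec f' (q.app (π ⁻¹ᵁ U) (puSec π m)))) =
          AmpleLib.res (pb h' (pb f' O1)) (by
            rw [show π' ⁻¹ᵁ (f ⁻¹ᵁ U) = f' ⁻¹ᵁ (π ⁻¹ᵁ U) by rw [← Scheme.Hom.comp_preimage, ← hsq.w]; rfl])
            (puSec h' (puSec f' (q.app (π ⁻¹ᵁ U) (puSec π m)))) :=
          TwistLib.puSec_res h' (le_of_eq (by rw [← Scheme.Hom.comp_preimage, ← hsq.w]; rfl)) _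
        rw [h1]
        show L.presheaf.map _ (i'.app _ (((Scheme.Modules.pullbackComp h' f').inv.app O1).app _
          (puSec (h' ≫ f') _))) = _
        rw [pullbackComp_inv_puSec]
        erw [QCohLib.app_map i']
        rw [AmpleLib.res_refl]
        exact (QCohLib.map_map' L _ _ _).symm
      have hs0 : ∀ (U : Y.Opens) (m : Γ(E, U)), s0.app (((h' ≫ π') ≫ f) ⁻¹ᵁ U) (puSec ((h' ≫ π') ≫ f) m) =
          s.app ((h' ≫ π') ⁻¹ᵁ (f ⁻¹ᵁ U)) (puSec (h' ≫ π') (puSec f m)) := fun U m =>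
        congrArg (s.app _) (pullbackComp_inv_puSec (h' ≫ π') f E m)
      constructor
      · intro hc
        refine hom_ext_pu _ _ _ fun U m => ?_
        rw [hval, hc, hs0]
      · intro hc
        refine hom_ext_pu₂ _ _ _ _ fun U m => ?_
        rw [← hval, hc, hs0]
    let h' := hsq.lift h g hh
    have h1 : h' ≫ f' = h := hsq.lift_fst _ _ _
    have h2 : h' ≫ π' = g := hsq.lift_snd _ _ _
    refine ⟨h', ⟨h2, (Scheme.Modules.pullbackComp h' f').app O1 ≪≫ (Scheme.Modules.pullbackCongr h1).app O1 ≪≫ e, ?_⟩, ?_⟩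
    · refine (quotBC_comp _ _ _).trans ((key h' h2 (by rw [h1, hh]) _).2 (Eq.trans ?_ he))
      have h3 : (Scheme.Modules.pullbackComp h' f').inv.app O1 ≫
          ((Scheme.Modules.pullbackComp h' f').app O1 ≪≫ (Scheme.Modules.pullbackCongr h1).app O1 ≪≫ e).hom =
            (Scheme.Modules.pullbackCongr h1).hom.app O1 ≫ e.hom := by simp
      rw [h3]
      clear h3
      clear_value h'
      subst h1
      simp [compQ, Scheme.Modules.pullbackCongr]
    · rintro k ⟨hk, e', he'⟩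
      have hk' : (k ≫ f') ≫ π = g ≫ f := by rw [Category.assoc, hsq.w, ← Category.assoc, hk]
      have h4 := (quotBC_comp _ _ _).trans ((key k hk hk' e'.hom).1 ((quotBC_comp _ _ _).symm.trans he'))
      have h5 := huniq (k ≫ f') ⟨hk', ((Scheme.Modules.pullbackComp k f').app O1).symm ≪≫ e', h4⟩
      refine hsq.hom_ext (h5.trans h1.symm) (hk.trans h2.symm)


end BC

/-- A Grassmannian of a module is one of an isomorphic module. -/
theorem isGrass_of_iso {π : P ⟶ Y} {E E' : Y.Modules} (e : E ≅ E') {Q : P.Modules} {q : pb π E ⟶ Q} {r : ℕ}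
    (h : Grass.IsGrass π E r Q q) : Grass.IsGrass π E' r Q ((Scheme.Modules.pullback π).map e.inv ≫ q) where
  rank := h.rank
  epi := haveI := h.epi; inferInstance
  univ T g L hL s hs := by
    obtain ⟨k, ⟨hk, i, hi⟩, huniq⟩ := h.univ T g L hL ((Scheme.Modules.pullback g).map e.hom ≫ s) inferInstance
    have key : ∀ (k : T ⟶ P) (hk : k ≫ π = g) (i : pb k Q ≅ L),
        Grass.quotBC hk ((Scheme.Modules.pullback π).map e.inv ≫ q) ≫ i.hom =
          (Scheme.Modules.pullback g).map e.inv ≫ Grass.quotBC hk q ≫ i.hom := fun k hk i => by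
      simp only [Grass.quotBC, Functor.map_comp, Category.assoc]
      have h1 := (Scheme.Modules.pullbackCongr hk).inv.naturality e.inv
      have h2 := (Scheme.Modules.pullbackComp k π).inv.naturality e.inv
      simp only [Functor.comp_map] at h1 h2
      rw [reassoc_of% h1, reassoc_of% h2]
    refine ⟨k, ⟨hk, i, ?_⟩, fun k' hk' => huniq k' ?_⟩
    · rw [key, hi, ← Category.assoc, ← Functor.map_comp, e.inv_hom_id, CategoryTheory.Functor.map_id, Category.id_comp]
    · obtain ⟨hg', i', hi'⟩ := hk'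
      refine ⟨hg', i', ?_⟩
      rw [← hi', key, ← Category.assoc, ← Functor.map_comp, e.hom_inv_id, CategoryTheory.Functor.map_id, Category.id_comp]

end GrassSch

end
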