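import Groth.Agent.GrassLib.SchClosed
import Groth.Prelude.Def_ExtPow2
import Mathlib.LinearAlgebra.Matrix.Determinant.Basic

/-!
# The Plücker morphism of a Grassmannian of a quasi-coherent module

The determinants of the coordinates of a rank `q` quotient form an invertible quotient of a `q`-th exterior power;
the morphism it classifies is a closed immersion.
-/

set_option autoImplicit false
set_option linter.style.haveILetI false
set_option linter.unusedSectionVars false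

universe u

open AlgebraicGeometry CategoryTheory CategoryTheory.Limits Opposite TopologicalSpace
open KFlatLib (pb puSec puSecLE)
open ProjFormLib (ger ger_res ger_smul IsFrame)
open GrassLib (ChartRing chartVar univCoord normal_univCoord)

noncomputable section

namespace GrassSch

variable {X : Scheme.{u}} {V L : X.Modules} {q : ℕ} {T T' : Scheme.{u}}

/-- The data of an exterior power. -/
structure ExtData (q : ℕ) (V L : X.Modules) where
  φ : ∀ U : X.affineOpens, (L.val.obj (op U.1)) ≃ₗ[Γ(X, U.1)] ↥(⋀[Γ(X, U.1)]^q (V.val.obj (op U.1)))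
  hφ : ∀ (U W : X.affineOpens) (h : W.1 ≤ U.1) (e : Fin q → V.val.obj (op U.1)),
    L.val.map (homOfLE h).op ((φ U).symm (exteriorPower.ιMulti _ q e)) =
      (φ W).symm (exteriorPower.ιMulti _ q (fun j => V.val.map (homOfLE h).op (e j)))

theorem ExtData.exists_of_isExtPow (h : ExtPow.IsExtPow q V L) : Nonempty (ExtData q V L) :=
  ⟨⟨h.choose, h.choose_spec⟩⟩

variable (D : ExtData q V L) {U : X.affineOpens}

/-- The wedge of sections over an affine open. -/
def ExtData.wedge (U : X.affineOpens) (e : Fin q → Γ(V, U.1)) : Γ(L, U.1) :=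
  (D.φ U).symm (exteriorPower.ιMulti Γ(X, U.1) q (M := V.val.obj (op U.1)) e)

theorem ExtData.wedge_res {U W : X.affineOpens} (h : W.1 ≤ U.1) (e : Fin q → Γ(V, U.1)) :
    L.presheaf.map (homOfLE h).op (D.wedge U e) = D.wedge W fun j => V.presheaf.map (homOfLE h).op (e j) :=
  D.hφ U W h e

theorem ExtData.induction_wedge {p : Γ(L, U.1) → Prop} (h0 : p 0) (hadd : ∀ a b, p a → p b → p (a + b))
    (hsmul : ∀ (c : Γ(X, U.1)) a, p a → p (c • a)) (hw : ∀ e, p (D.wedge U e)) (ω : Γ(L, U.1)) : p ω := by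
  have hω : D.φ U ω ∈ Submodule.span Γ(X, U.1)
      (Set.range (exteriorPower.ιMulti Γ(X, U.1) q (M := V.val.obj (op U.1)))) := by
    rw [exteriorPower.ιMulti_span]
    trivial
  have key : ∀ z : ↥(⋀[Γ(X, U.1)]^q (V.val.obj (op U.1))), z ∈ Submodule.span Γ(X, U.1)
      (Set.range (exteriorPower.ιMulti Γ(X, U.1) q (M := V.val.obj (op U.1)))) → p ((D.φ U).symm z) := by
    intro z hz
    induction hz using Submodule.span_induction with
    | mem y hy => obtain ⟨e, rfl⟩ := hy; exact hw e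
    | zero => exact (map_zero (D.φ U).symm).symm ▸ h0
    | add y z _ _ hy hz => exact (map_add (D.φ U).symm y z).symm ▸ hadd _ _ hy hz
    | smul c y _ hy => exact (map_smul (D.φ U).symm c y).symm ▸ hsmul _ _ hy
  exact Eq.mp (congrArg p (LinearEquiv.symm_apply_apply (D.φ U) ω)) (key _ hω)

/-- The determinant of the coordinates of a family of sections. -/
def QPt.detCrd (P : QPt V q T) {x : Fin q → Γ(V, U.1)} (h : ∀ z, P.InLoc x z) (hg : ⊤ ≤ P.g ⁻¹ᵁ U.1)
    (e : Fin q → Γ(V, U.1)) : Γ(T, ⊤) :=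
  (Matrix.of fun i j => P.crd h hg (e i) j).det

theorem QPt.detCrd_self (P : QPt V q T) {x : Fin q → Γ(V, U.1)} (h : ∀ z, P.InLoc x z) (hg : ⊤ ≤ P.g ⁻¹ᵁ U.1) :
    P.detCrd h hg x = 1 := by
  rw [QPt.detCrd, show (Matrix.of fun i j => P.crd h hg (x i) j : Matrix (Fin q) (Fin q) Γ(T, ⊤)) = 1 from
    Matrix.ext fun i j => by
      rw [Matrix.of_apply, P.crd_self h hg, Matrix.one_apply, Pi.single_apply]
      exact if_congr eq_comm rfl rfl, Matrix.det_one]

theorem QPt.detCrd_mul (P : QPt V q T) {x x' : Fin q → Γ(V, U.1)} (h : ∀ z, P.InLoc x z) (h' : ∀ z, P.InLoc x' z)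
    (hg : ⊤ ≤ P.g ⁻¹ᵁ U.1) (e : Fin q → Γ(V, U.1)) :
    P.detCrd h hg e = P.detCrd h' hg e * P.detCrd h hg x' := by
  rw [QPt.detCrd, QPt.detCrd, QPt.detCrd, ← Matrix.det_mul]
  refine congrArg Matrix.det (Matrix.ext fun i j => ?_)
  have key : P.crd h hg (e i) = fun j => ∑ k, P.crd h' hg (e i) k * P.crd h hg (x' k) j := by
    refine P.crd_unique h hg ?_
    rw [← P.sum_crd h' hg (e i)]
    simp only [Finset.sum_smul, mul_smul]
    rw [Finset.sum_comm]
    refine Finset.sum_congr rfl fun k _ => ?_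
    rw [← Finset.smul_sum, P.sum_crd h hg]
  simp only [Matrix.of_apply, Matrix.mul_apply, key]

theorem QPt.detCrd_isUnit (P : QPt V q T) {x x' : Fin q → Γ(V, U.1)} (h : ∀ z, P.InLoc x z)
    (h' : ∀ z, P.InLoc x' z) (hg : ⊤ ≤ P.g ⁻¹ᵁ U.1) : IsUnit (P.detCrd h hg x') := by
  have e := (P.detCrd_mul h h' hg x).symm.trans (P.detCrd_self h hg)
  exact IsUnit.of_mul_eq_one_right _ e

/-- `A` is the Plücker quotient of `P` seen in the chart of `x`. -/
def IsPl (P : QPt V q T) (A : QPt L 1 T) (U : X.affineOpens) (x : Fin q → Γ(V, U.1)) : Prop :=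
  ∃ (hP : ∀ z, P.InLoc x z) (hg : ⊤ ≤ P.g ⁻¹ᵁ U.1) (hA : ⊤ ≤ A.g ⁻¹ᵁ U.1),
    A.g = P.g ∧ (∀ z, A.InLoc (fun _ : Fin 1 => D.wedge U x) z) ∧
      ∀ e, A.secT hA (D.wedge U e) = P.detCrd hP hg e • A.secT hA (D.wedge U x)

variable {D}

theorem secT_res {E : X.Modules} {r : ℕ} (P : QPt E r T) {U W : X.Opens} (h : W ≤ U) (hg : ⊤ ≤ P.g ⁻¹ᵁ W)
    (hg' : ⊤ ≤ P.g ⁻¹ᵁ U) (m : Γ(E, U)) : P.secT hg (E.presheaf.map (homOfLE h).op m) = P.secT hg' m := by
  rw [QPt.secT_eq, QPt.secT_eq]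
  have h1 : P.sec0 (E.presheaf.map (homOfLE h).op m) =
      P.L.presheaf.map (homOfLE (P.g.preimage_mono h)).op (P.sec0 m) := by
    show P.s.app (P.g ⁻¹ᵁ W) (puSec P.g (AmpleLib.res E h m)) = _
    rw [TwistLib.puSec_res]
    exact QCohLib.app_map P.s (homOfLE (P.g.preimage_mono h)) _
  rw [h1]
  exact QCohLib.map_map' P.L _ _ _

theorem inLoc_res {E : X.Modules} {r : ℕ} (P : QPt E r T) {U W : X.Opens} (h : W ≤ U) (hg : ⊤ ≤ P.g ⁻¹ᵁ W)
    {x : Fin r → Γ(E, U)} {z : T} (hz : P.InLoc x z) :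
    P.InLoc (fun j => E.presheaf.map (homOfLE h).op (x j)) z := by
  obtain ⟨hzU, hb⟩ := hz
  refine ⟨hg (Opens.mem_top z), ?_⟩
  have hg' : ⊤ ≤ P.g ⁻¹ᵁ U := hg.trans (P.g.preimage_mono h)
  simp only [← P.ger_secT hg _ z (hg (Opens.mem_top z)), secT_res P h hg hg']
  simpa only [P.ger_secT hg' _ z hzU] using hb

theorem crd_res {E : X.Modules} {r : ℕ} (P : QPt E r T) {U W : X.Opens} (h : W ≤ U) (hg : ⊤ ≤ P.g ⁻¹ᵁ W)
    (hg' : ⊤ ≤ P.g ⁻¹ᵁ U) {x : Fin r → Γ(E, U)} (hx : ∀ z, P.InLoc x z)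
    (hxW : ∀ z, P.InLoc (fun j => E.presheaf.map (homOfLE h).op (x j)) z) (m : Γ(E, U)) :
    P.crd hxW hg (E.presheaf.map (homOfLE h).op m) = P.crd hx hg' m := by
  refine P.crd_unique hxW hg ?_
  simp only [secT_res P h hg hg']
  exact (P.sum_crd hx hg' m).symm

theorem appLE_congr_g {U : X.Opens} {g g' : T ⟶ X} (h : g = g') (hg : ⊤ ≤ g ⁻¹ᵁ U) (hg' : ⊤ ≤ g' ⁻¹ᵁ U)
    (c : Γ(X, U)) : g.appLE U ⊤ hg c = g'.appLE U ⊤ hg' c := by
  subst h
  rfl

theorem IsPl.of_rel {P : QPt V q T} {A B : QPt L 1 T} {x : Fin q → Γ(V, U.1)} (h : IsPl D P A U x)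
    (hAB : A.Rel B) : IsPl D P B U x := by
  obtain ⟨hP, hg, hA, hAg, hAloc, hAe⟩ := h
  obtain ⟨hgg, ε, hε⟩ := A.secT_rel (U := U.1) hAB
  have hB : ⊤ ≤ B.g ⁻¹ᵁ U.1 := hgg ▸ hA
  refine ⟨hP, hg, hB, hgg ▸ hAg, fun z => QPt.inLoc_of_rel hAB (hAloc z), fun e => ?_⟩
  rw [← hε hA hB, ← hε hA hB, hAe e]
  exact QCohLib.app_smul ε.hom ⊤ _ _

theorem IsPl.of_rel_left {P P' : QPt V q T} {A : QPt L 1 T} {x : Fin q → Γ(V, U.1)} (h : IsPl D P A U x)
    (hPP : P.Rel P') : IsPl D P' A U x := by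
  obtain ⟨hP, hg, hA, hAg, hAloc, hAe⟩ := h
  have hg' : ⊤ ≤ P'.g ⁻¹ᵁ U.1 := hPP.1 ▸ hg
  refine ⟨fun z => QPt.inLoc_of_rel hPP (hP z), hg', hA, hAg.trans hPP.1, hAloc, fun e => ?_⟩
  rw [hAe e]
  refine congrArg (· • A.secT hA (D.wedge U x)) (congrArg Matrix.det (Matrix.ext fun i j => ?_))
  exact congrFun (QPt.crd_rel hPP hP (fun z => QPt.inLoc_of_rel hPP (hP z)) hg hg' (e i)) j

theorem IsPl.map {P : QPt V q T} {A : QPt L 1 T} {x : Fin q → Γ(V, U.1)} (h : IsPl D P A U x) (f : T' ⟶ T) :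
    IsPl D (P.map f) (A.map f) U x := by
  obtain ⟨hP, hg, hA, hAg, hAloc, hAe⟩ := h
  have hP' : ∀ z, (P.map f).InLoc x z := fun z => (QPt.inLoc_map_iff f P x z).2 (hP _)
  have hg' : ⊤ ≤ (P.map f).g ⁻¹ᵁ U.1 := fun z _ => hg (Opens.mem_top (f z))
  have hA' : ⊤ ≤ (A.map f).g ⁻¹ᵁ U.1 := fun z _ => hA (Opens.mem_top (f z))
  refine ⟨hP', hg', hA', congrArg (f ≫ ·) hAg, fun z => (QPt.inLoc_map_iff f A _ z).2 (hAloc _), fun e => ?_⟩
  rw [QPt.secT_map f A hA hA', QPt.secT_map f A hA hA', hAe e, puTop_smul]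
  refine congrArg (· • puTop f A.L (A.secT hA (D.wedge U x))) ?_
  rw [QPt.detCrd, RingHom.map_det]
  refine congrArg Matrix.det (Matrix.ext fun i j => ?_)
  exact (congrFun (QPt.crd_map f P hP hP' hg hg' (e i)) j).symm

/-- Two Plücker quotients in the same chart are isomorphic. -/
theorem IsPl.rel [Coh.IsQCoh L] {P : QPt V q T} {A B : QPt L 1 T} {x : Fin q → Γ(V, U.1)}
    (h : IsPl D P A U x) (h' : IsPl D P B U x) : A.Rel B := by
  obtain ⟨hP, hg, hA, hAg, hAloc, hAe⟩ := h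
  obtain ⟨hP', hg', hB, hBg, hBloc, hBe⟩ := h'
  have fA : IsFrame A.L fun _ : Fin 1 => A.secT hA (D.wedge U x) := A.isFrame_secT hAloc hA
  have fB : IsFrame B.L fun _ : Fin 1 => B.secT hB (D.wedge U x) := B.isFrame_secT hBloc hB
  let ε : A.L ≅ B.L := (frameIso fA).symm ≪≫ frameIso fB
  have hε : ε.hom.app ⊤ (A.secT hA (D.wedge U x)) = B.secT hB (D.wedge U x) := by
    have e1 := frameIso_std fA 0
    refine (congrArg (ε.hom.app ⊤) e1.symm).trans (Eq.trans ?_ (frameIso_std fB 0))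
    exact congrArg ((frameIso fB).hom.app ⊤) (congr($((frameIso fA).hom_inv_id).app ⊤ (FittLib.stdSec T 1 ⊤ 0)))
  refine QPt.rel_of_secT U.2 (hAg.trans hBg.symm) hA hB ε fun ω => ?_
  induction ω using D.induction_wedge with
  | h0 => rw [map_zero, map_zero, map_zero]
  | hadd a b ha hb => rw [map_add, map_add, map_add, ha, hb]
  | hsmul c a ha =>
    rw [QPt.secT_smul, QPt.secT_smul, ← ha]
    refine (QCohLib.app_smul ε.hom ⊤ _ _).trans ?_
    rw [appLE_congr_g (hAg.trans hBg.symm) hA hB c]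
  | hw e =>
    rw [hAe e, hBe e, ← hε]
    exact QCohLib.app_smul ε.hom ⊤ _ _

variable [Coh.IsQCoh V] [Coh.IsQCoh L]

variable (D) in
/-- The determinant of the universal coordinates, as an alternating map. -/
def chDet (U : X.affineOpens) (x : Fin q → Γ(V, U.1)) :
    (V.val.obj (op U.1)) [⋀^Fin q]→ₗ[Γ(X, U.1)] ChartRing Γ(X, U.1) Γ(V, U.1) x where
  toFun e := (Matrix.of fun i j => univCoord (R := Γ(X, U.1)) x (e i : Γ(V, U.1)) j).det
  map_update_add' := by
    intro inst e i a b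
    obtain rfl : inst = instDecidableEqFin q := Subsingleton.elim _ _
    have h : ∀ w : Γ(V, U.1), (Matrix.of fun k j => univCoord (R := Γ(X, U.1)) x (Function.update e i w k : Γ(V, U.1)) j) =
        (Matrix.of fun k j => univCoord (R := Γ(X, U.1)) x (e k : Γ(V, U.1)) j).updateRow i (univCoord x w) := fun w => by
      refine Matrix.ext fun k j => ?_
      obtain rfl | hk := eq_or_ne k i
      · rw [Matrix.updateRow_self, Matrix.of_apply]
        exact congrArg (fun v : Γ(V, U.1) => univCoord x v j) (Function.update_self _ _ _)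
      · rw [Matrix.updateRow_ne hk, Matrix.of_apply, Matrix.of_apply]
        exact congrArg (fun v : Γ(V, U.1) => univCoord x v j) (Function.update_of_ne hk _ _)
    show Matrix.det _ = Matrix.det _ + Matrix.det _
    refine (congrArg Matrix.det (h _)).trans (Eq.trans ?_
      (congrArg₂ (· + ·) (congrArg Matrix.det (h a)).symm (congrArg Matrix.det (h b)).symm))
    exact (congrArg Matrix.det (congrArg (Matrix.updateRow _ i) (map_add (univCoord x) (show Γ(V, U.1) from a) b))).trans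
      (Matrix.det_updateRow_add _ i _ _)
  map_update_smul' := by
    intro inst e i c a
    obtain rfl : inst = instDecidableEqFin q := Subsingleton.elim _ _
    have h : ∀ w : Γ(V, U.1), (Matrix.of fun k j => univCoord (R := Γ(X, U.1)) x (Function.update e i w k : Γ(V, U.1)) j) =
        (Matrix.of fun k j => univCoord (R := Γ(X, U.1)) x (e k : Γ(V, U.1)) j).updateRow i (univCoord x w) := fun w => by
      refine Matrix.ext fun k j => ?_
      obtain rfl | hk := eq_or_ne k i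
      · rw [Matrix.updateRow_self, Matrix.of_apply]
        exact congrArg (fun v : Γ(V, U.1) => univCoord x v j) (Function.update_self _ _ _)
      · rw [Matrix.updateRow_ne hk, Matrix.of_apply, Matrix.of_apply]
        exact congrArg (fun v : Γ(V, U.1) => univCoord x v j) (Function.update_of_ne hk _ _)
    show Matrix.det _ = c • Matrix.det _
    refine (congrArg Matrix.det (h _)).trans (Eq.trans ?_ (congrArg (c • ·) (congrArg Matrix.det (h a)).symm))
    refine (congrArg Matrix.det (congrArg (Matrix.updateRow _ i) (map_smul (univCoord x) c (show Γ(V, U.1) from a)))).trans ?_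
    refine (congrArg Matrix.det (congrArg (Matrix.updateRow _ i)
      (algebraMap_smul (ChartRing Γ(X, U.1) Γ(V, U.1) x) c (univCoord (R := Γ(X, U.1)) x (show Γ(V, U.1) from a))).symm)).trans ?_
    exact (Matrix.det_updateRow_smul _ i _ _).trans (Algebra.smul_def c _).symm
  map_eq_zero_of_eq' e i j hij hne := by
    refine Matrix.det_zero_of_row_eq hne (funext fun k => ?_)
    simp only [Matrix.of_apply, hij]

set_option maxHeartbeats 1000000 in
variable (D) in
/-- The Plücker quotient of a chart. -/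
theorem exists_chPl (x : Fin q → Γ(V, U.1)) : ∃ A : QPt L 1 (chSch V x),
    IsPl D (chPt x U.2) A U x := by
  classical
  let e := Scheme.ΓSpecIso (CommRingCat.of (ChartRing Γ(X, U.1) Γ(V, U.1) x))
  let l := exteriorPower.alternatingMapLinearEquiv (chDet U x)
  let σ : Γ(FlatMod.freeMod (chSch V x) 1, ⊤) := FittLib.stdSec (chSch V x) 1 ⊤ 0
  let ψ : Γ(L, U.1) →+ Γ(FlatMod.freeMod (chSch V x) 1, ⊤) :=
    AddMonoidHom.mk' (fun ω => (e.inv (l (D.φ U ω)) : Γ(chSch V x, ⊤)) • σ) fun a b => by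
      rw [show D.φ U (a + b) = D.φ U a + D.φ U b from map_add (D.φ U) _ _, map_add, map_add, add_smul]
  obtain ⟨t, ht⟩ := exists_hom_top U.2 (chStr_le x U.2) (FlatMod.freeMod (chSch V x) 1) ψ fun c ω => by
    show (e.inv (l (D.φ U (c • ω))) : Γ(chSch V x, ⊤)) • σ = _ • (e.inv (l (D.φ U ω)) : Γ(chSch V x, ⊤)) • σ
    rw [smul_smul, show D.φ U (c • ω) = c • D.φ U ω from map_smul (D.φ U) _ _, map_smul]
    refine congrArg (· • σ) ?_
    refine (congrArg (fun a => e.inv a) (Algebra.smul_def c (l (D.φ U ω)))).trans ?_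
    exact (map_mul e.inv.hom _ _).trans
      (congrArg (fun a : Γ(chSch V x, ⊤) => a * e.inv (l (D.φ U ω))) (chStr_appLE x U.2 c).symm)
  have hval : ∀ m : Fin q → Γ(V, U.1), t.app ⊤ (puSecLE (chStr x U.2) L (chStr_le x U.2) (D.wedge U m)) =
      (chPt x U.2).detCrd (chPt_inLoc x U.2) (chPt_le x U.2) m • σ := fun m => by
    refine (ht _).trans ?_
    show (e.inv (l (D.φ U ((D.φ U).symm _))) : Γ(chSch V x, ⊤)) • σ = _
    refine congrArg (· • σ) ?_
    rw [LinearEquiv.apply_symm_apply, QPt.detCrd]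
    refine (congrArg (fun a => e.inv a) (exteriorPower.alternatingMapLinearEquiv_apply_ιMulti (chDet U x) m)).trans ?_
    show e.inv.hom (Matrix.det _) = _
    rw [RingHom.map_det]
    refine congrArg Matrix.det (Matrix.ext fun i j => ?_)
    exact (congrFun (chPt_crd x U.2 (m i)) j).symm
  have h1 : t.app ⊤ (puSecLE (chStr x U.2) L (chStr_le x U.2) (D.wedge U x)) = σ := by
    rw [hval, QPt.detCrd_self, one_smul]
  have hfr : IsFrame (FlatMod.freeMod (chSch V x) 1)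
      fun _ : Fin 1 => t.app ⊤ (puSecLE (chStr x U.2) L (chStr_le x U.2) (D.wedge U x)) := by
    have : (fun _ : Fin 1 => t.app ⊤ (puSecLE (chStr x U.2) L (chStr_le x U.2) (D.wedge U x))) =
        fun j => FittLib.stdSec (chSch V x) 1 ⊤ j := funext fun j => by rw [h1, Subsingleton.elim j 0]
    rw [this]
    exact isFrame_std _ 1
  let A : QPt L 1 (chSch V x) := ⟨chStr x U.2, FlatMod.freeMod (chSch V x) 1,
    rank_of_frames fun y => ⟨⊤, _, trivial, isFrame_std _ 1⟩, t, epi_of_isFrame (hg := chStr_le x U.2) t _ hfr⟩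
  refine ⟨A, chPt_inLoc x U.2, chPt_le x U.2, chStr_le x U.2, rfl, fun z => ?_, fun m => ?_⟩
  · refine ⟨chStr_le x U.2 (Opens.mem_top z), ?_⟩
    simp only [← A.ger_secT (chStr_le x U.2) _ z (chStr_le x U.2 (Opens.mem_top z))]
    exact hfr z trivial
  · exact (hval m).trans (congrArg _ h1.symm)

variable (D) in
/-- Plücker quotients exist in every chart. -/
theorem exists_isPl {P : QPt V q T} {x : Fin q → Γ(V, U.1)} (h : ∀ z, P.InLoc x z) :
    ∃ A : QPt L 1 T, IsPl D P A U x := by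
  obtain ⟨A, hA⟩ := exists_chPl D x
  obtain ⟨a, ha⟩ := exists_ch x U.2 P h
  exact ⟨A.map a, (hA.map a).of_rel_left ha⟩

theorem IsPl.shrink {P : QPt V q T} {A : QPt L 1 T} {x : Fin q → Γ(V, U.1)} (h : IsPl D P A U x)
    {W : X.affineOpens} (hW : W.1 ≤ U.1) (hgW : ⊤ ≤ P.g ⁻¹ᵁ W.1) :
    IsPl D P A W fun j => V.presheaf.map (homOfLE hW).op (x j) := by
  have hP := h.choose
  have hxW : ∀ z, P.InLoc (fun j => V.presheaf.map (homOfLE hW).op (x j)) z := fun z => inLoc_res P hW hgW (hP z)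
  obtain ⟨B, hB⟩ := exists_isPl D (U := W) hxW
  refine hB.of_rel (IsPl.rel (x := x) ?_ h)
  obtain ⟨hPW, hgW', hBW, hBg, hBloc, hBe⟩ := hB
  have hg : ⊤ ≤ P.g ⁻¹ᵁ U.1 := hgW.trans (P.g.preimage_mono hW)
  have hBU : ⊤ ≤ B.g ⁻¹ᵁ U.1 := hBg ▸ hg
  refine ⟨hP, hg, hBU, hBg, fun z => ?_, fun e => ?_⟩
  · refine ⟨hBU (Opens.mem_top z), ?_⟩
    simp only [← B.ger_secT hBU _ z (hBU (Opens.mem_top z)), ← secT_res B hW hBW hBU, D.wedge_res hW]
    exact B.isFrame_secT hBloc hBW z trivial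
  · rw [← secT_res B hW hBW hBU, ← secT_res B hW hBW hBU, D.wedge_res hW, D.wedge_res hW, hBe]
    refine congrArg (· • B.secT hBW (D.wedge W _)) (congrArg Matrix.det (Matrix.ext fun i j => ?_))
    exact congrFun (crd_res P hW hgW hg hP hxW (e i)) j

theorem IsPl.change {P : QPt V q T} {A : QPt L 1 T} {x x' : Fin q → Γ(V, U.1)} (h : IsPl D P A U x)
    (h' : ∀ z, P.InLoc x' z) : IsPl D P A U x' := by
  obtain ⟨hP, hg, hA, hAg, hAloc, hAe⟩ := h
  refine ⟨h', hg, hA, hAg, fun z => ?_, fun e => ?_⟩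
  · have hz := hA (Opens.mem_top z)
    refine ⟨hz, ?_⟩
    simp only [← A.ger_secT hA _ z hz]
    rw [bijective_comb_iff (A.isFrame_secT hAloc hA z trivial)
      (Matrix.of fun _ _ => T.presheaf.germ ⊤ z trivial (P.detCrd hP hg x')) fun _ => by
        rw [Fin.sum_univ_one, hAe x']
        exact ger_smul A.L z (U := ⊤) trivial _ _]
    rw [Matrix.det_fin_one, Matrix.of_apply]
    exact (P.detCrd_isUnit hP h' hg).map (T.presheaf.germ ⊤ z trivial).hom
  · rw [hAe e, hAe x', smul_smul, ← P.detCrd_mul hP h' hg]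

/-- Plücker quotients in any two charts are isomorphic. -/
theorem IsPl.rel_any {P : QPt V q T} {A B : QPt L 1 T} {U' : X.affineOpens} {x : Fin q → Γ(V, U.1)}
    {x' : Fin q → Γ(V, U'.1)} (h : IsPl D P A U x) (h' : IsPl D P B U' x') : A.Rel B := by
  classical
  have hg : ⊤ ≤ P.g ⁻¹ᵁ U.1 := h.choose_spec.choose
  have hg' : ⊤ ≤ P.g ⁻¹ᵁ U'.1 := h'.choose_spec.choose
  have hW : ∀ z : T, ∃ W : X.affineOpens, W.1 ≤ U.1 ⊓ U'.1 ∧ P.g z ∈ W.1 := fun z => by
    obtain ⟨W, hWa, hz, hle⟩ := exists_isAffineOpen_mem_and_subset (X := X) (x := P.g z) (U := U.1 ⊓ U'.1)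
      ⟨hg (Opens.mem_top z), hg' (Opens.mem_top z)⟩
    exact ⟨⟨W, hWa⟩, hle, hz⟩
  choose W hle hzW using hW
  refine rel_of_cover (fun z => P.g ⁻¹ᵁ (W z).1) (fun z => ⟨z, hzW z⟩) (fun z => ?_)
    (h.choose_spec.choose_spec.choose_spec.1.trans h'.choose_spec.choose_spec.choose_spec.1.symm)
  let ι := (P.g ⁻¹ᵁ (W z).1).ι
  have hgW : ⊤ ≤ (P.map ι).g ⁻¹ᵁ (W z).1 := fun y _ => y.2
  have h1 := (h.map ι).shrink ((hle z).trans inf_le_left) hgW
  have h2 := (h'.map ι).shrink ((hle z).trans inf_le_right) hgW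
  exact (h1.change h2.choose).rel h2

variable (D) in
/-- The Plücker quotient of a quotient. -/
theorem exists_pl (P : QPt V q T) : ∃ A : QPt L 1 T, A.g = P.g ∧
    ∀ {T' : Scheme.{u}} (h : T' ⟶ T) (U : X.affineOpens) (x : Fin q → Γ(V, U.1)),
      (∀ z, (P.map h).InLoc x z) → IsPl D (P.map h) (A.map h) U x := by
  classical
  let I : Type u := Σ U : X.affineOpens, (Fin q → Γ(V, U.1))
  let W : I → T.Opens := fun i => P.locOpen i.2
  have hW : ∀ z : T, ∃ i, z ∈ W i := fun z => by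
    obtain ⟨U, hU, hz, -⟩ := exists_isAffineOpen_mem_and_subset (X := X) (x := P.g z) (U := ⊤) trivial
    obtain ⟨x, hx⟩ := QPt.exists_inLoc hU P hz
    exact ⟨⟨⟨U, hU⟩, x⟩, hx⟩
  have hin : ∀ i z, (P.map (W i).ι).InLoc i.2 z := fun i z => (QPt.inLoc_map_iff _ P i.2 z).2 z.2
  have hex : ∀ i, ∃ (M : (W i).toScheme.Modules) (hM : FlatMod.IsFinLocFreeOfRank 1 M)
      (t : pb ((W i).ι ≫ P.g) L ⟶ M) (ht : Epi t),
      IsPl D (P.map (W i).ι) ⟨(W i).ι ≫ P.g, M, hM, t, ht⟩ i.1 i.2 := fun i => by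
    obtain ⟨⟨g', M, hM, t, ht⟩, hA⟩ := exists_isPl D (hin i)
    have hg' : g' = (W i).ι ≫ P.g := hA.choose_spec.choose_spec.choose_spec.1
    subst hg'
    exact ⟨M, hM, t, ht, hA⟩
  choose M hM t ht hA using hex
  obtain ⟨A, hAr⟩ := exists_glue_cls (E := L) (r := 1) P.g W hW M hM t ht fun i j O hi hj => by
    refine IsPl.rel_any (((hA i).map _).of_rel_left ?_) (((hA j).map _).of_rel_left ?_) (P := P.map O.ι)
    · have := QPt.map_comp_rel (T.homOfLE hi) (W i).ι P
      rwa [T.homOfLE_ι hi] at this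
    · have := QPt.map_comp_rel (T.homOfLE hj) (W j).ι P
      rwa [T.homOfLE_ι hj] at this
  have hAg : A.g = P.g := (T.openCoverOfIsOpenCover W (top_le_iff.1 fun z _ =>
    TopologicalSpace.Opens.mem_iSup.2 (hW z))).hom_ext _ _ fun i => (hAr i).1
  refine ⟨A, hAg, fun {T'} h U x hx => ?_⟩
  obtain ⟨B, hB⟩ := exists_isPl D hx
  refine hB.of_rel (rel_of_cover (fun i => h ⁻¹ᵁ W i) (fun z => hW (h z)) (fun i => ?_)
    (hB.choose_spec.choose_spec.choose_spec.1.trans (congrArg (h ≫ ·) hAg.symm)))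
  let κ := (h ⁻¹ᵁ W i).ι
  let k := h ∣_ W i
  have hk : k ≫ (W i).ι = κ ≫ h := morphismRestrict_ι h (W i)
  have h1 : IsPl D ((P.map h).map κ) (B.map κ) U x := hB.map κ
  have h2 : IsPl D ((P.map h).map κ) (((A.map h).map κ)) i.1 i.2 := by
    refine (((hA i).of_rel (hAr i).symm).map k).of_rel_left ?_ |>.of_rel ?_
    · refine (QPt.map_comp_rel k (W i).ι P).trans ?_
      rw [hk]
      exact (QPt.map_comp_rel κ h P).symm
    · refine (QPt.map_comp_rel k (W i).ι A).trans ?_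
      rw [hk]
      exact (QPt.map_comp_rel κ h A).symm
  exact h1.rel_any h2

/-- Some wedge of sections over an affine open generates an invertible quotient. -/
theorem exists_inLoc_wedge (B : QPt L 1 T) {z : T} (hz : B.g z ∈ U.1) :
    ∃ x : Fin q → Γ(V, U.1), B.InLoc (fun _ : Fin 1 => D.wedge U x) z := by
  obtain ⟨O, b, hO, hb⟩ := SeesawLib.rankSet_of_rank B.inv z
  let v : (Fin q → Γ(V, U.1)) → (DerSch.stalkFunctor T z).obj B.L := fun e =>
    ger B.L z (U := B.g ⁻¹ᵁ U.1) hz (B.sec0 (D.wedge U e))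
  have hv : Submodule.span (T.presheaf.stalk z) (Set.range v) = ⊤ := by
    obtain ⟨m, hm, hmb⟩ := QPt.exists_inLoc U.2 B hz
    have hmem : ∀ ω : Γ(L, U.1), ger B.L z (U := B.g ⁻¹ᵁ U.1) hz (B.sec0 ω) ∈
        Submodule.span (T.presheaf.stalk z) (Set.range v) := fun ω => by
      induction ω using D.induction_wedge with
      | h0 =>
        have e0 : B.sec0 (0 : Γ(L, U.1)) = 0 := by
          rw [QPt.sec0, puSec_zero]
          exact map_zero _
        rw [e0]
        have e9 : ger B.L z (U := B.g ⁻¹ᵁ U.1) hz (0 : Γ(B.L, B.g ⁻¹ᵁ U.1)) = 0 := map_zero _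
        exact Eq.mpr (congrArg (· ∈ Submodule.span (T.presheaf.stalk z) (Set.range v)) e9) (Submodule.zero_mem _)
      | hadd a b ha hb =>
        have e1 : B.sec0 (a + b) = B.sec0 a + B.sec0 b :=
          (congrArg (B.s.app _) (map_add (((Scheme.Modules.pullbackPushforwardAdjunction B.g).unit.app L).app U.1).hom a b)).trans
            (map_add (B.s.app (B.g ⁻¹ᵁ U.1)).hom _ _)
        rw [e1]
        convert add_mem ha hb using 1
        exact ProjFormLib.ger_add B.L z (U := B.g ⁻¹ᵁ U.1) hz _ _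
      | hsmul c a ha =>
        have e1 : B.sec0 (c • a) = B.g.app U.1 c • B.sec0 a :=
          (congrArg (B.s.app _) (KFlatLib.puSec_smul B.g c a)).trans (QCohLib.app_smul B.s _ _ _)
        rw [e1]
        convert Submodule.smul_mem _ _ ha using 1
        exact ger_smul B.L z (U := B.g ⁻¹ᵁ U.1) hz _ _
      | hw e => exact Submodule.subset_span ⟨e, rfl⟩
    refine eq_top_iff.2 fun w _ => ?_
    obtain ⟨c, rfl⟩ := hmb.2 w
    rw [Fintype.linearCombination_apply]
    exact Submodule.sum_mem _ fun j _ => Submodule.smul_mem _ _ (hmem (m j))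
  obtain ⟨x, hx⟩ := exists_comb_bijective (hb z hO) v hv
  refine ⟨x 0, hz, ?_⟩
  have e2 : (fun _ : Fin 1 => ger B.L z (U := B.g ⁻¹ᵁ U.1) hz (B.sec0 (D.wedge U (x 0)))) = fun j => v (x j) :=
    funext fun j => by rw [Subsingleton.elim j 0]
  rw [e2]
  exact hx

/-- A generating Plücker coordinate gives a chart. -/
theorem inLoc_of_pl {P : QPt V q T} {A : QPt L 1 T}
    (hpl : ∀ {T' : Scheme.{u}} (h : T' ⟶ T) (U : X.affineOpens) (x : Fin q → Γ(V, U.1)),
      (∀ z, (P.map h).InLoc x z) → IsPl D (P.map h) (A.map h) U x)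
    (hAg : A.g = P.g) {x : Fin q → Γ(V, U.1)} {z : T} (hz : A.InLoc (fun _ : Fin 1 => D.wedge U x) z) :
    P.InLoc x z := by
  have hzU : P.g z ∈ U.1 := hAg ▸ hz.1
  obtain ⟨W, hWa, hzW, hle⟩ := exists_isAffineOpen_mem_and_subset (X := X) (x := P.g z) (U := U.1) hzU
  obtain ⟨y, hy⟩ := QPt.exists_inLoc hWa P hzW
  let O := P.locOpen y
  let z' : O.toScheme := ⟨z, hy⟩
  have hy' : ∀ w, (P.map O.ι).InLoc y w := fun w => (QPt.inLoc_map_iff _ P y w).2 w.2
  obtain ⟨hP, hg, hA, -, hloc, he⟩ := hpl O.ι ⟨W, hWa⟩ y hy'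
  have hgU : ⊤ ≤ (P.map O.ι).g ⁻¹ᵁ U.1 := hg.trans ((P.map O.ι).g.preimage_mono hle)
  have hAU : ⊤ ≤ (A.map O.ι).g ⁻¹ᵁ U.1 := hA.trans ((A.map O.ι).g.preimage_mono hle)
  let xW := fun j => V.presheaf.map (homOfLE hle).op (x j)
  obtain ⟨hzA, hbA⟩ := (QPt.inLoc_map_iff O.ι A _ z').2 hz
  simp only [← (A.map O.ι).ger_secT hAU _ z' hzA, ← secT_res (A.map O.ι) hle hA hAU,
    D.wedge_res (U := U) (W := ⟨W, hWa⟩) hle] at hbA
  have hgen := (A.map O.ι).isFrame_secT hloc hA z' trivial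
  let d := (P.map O.ι).detCrd hP hg xW
  have hd : IsUnit (O.toScheme.presheaf.germ ⊤ z' trivial d) := by
    have h1 := (bijective_comb_iff hgen
      (Matrix.of fun _ _ => O.toScheme.presheaf.germ ⊤ z' trivial d) fun _ => by
        rw [Fin.sum_univ_one]
        exact (congrArg _ (he xW)).trans (ger_smul (A.map O.ι).L z' (U := ⊤) trivial _ _)).1 hbA
    rwa [Matrix.det_fin_one, Matrix.of_apply] at h1
  refine (QPt.inLoc_map_iff O.ι P x z').1 ⟨hgU (Opens.mem_top z'), ?_⟩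
  simp only [← (P.map O.ι).ger_secT hgU _ z' (hgU (Opens.mem_top z')), ← secT_res (P.map O.ι) hle hg hgU]
  refine (bijective_comb_iff ((P.map O.ι).isFrame_secT hP hg z' trivial)
    ((O.toScheme.presheaf.germ ⊤ z' trivial).hom.mapMatrix
      (Matrix.of fun i j => (P.map O.ι).crd hP hg (xW j) i)) fun j => ?_).2 ?_
  · show ger (P.map O.ι).L z' (U := ⊤) trivial ((P.map O.ι).secT hg (xW j)) = _
    exact (congrArg _ ((P.map O.ι).sum_crd hP hg (xW j)).symm).trans
      (SeesawLib.ger_sum_smul (P.map O.ι).L (U := ⊤) z' trivial _ _)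
  · rw [← RingHom.map_det]
    have e3 : (Matrix.of fun i j => (P.map O.ι).crd hP hg (xW j) i).det = d := by
      rw [← Matrix.det_transpose]
      rfl
    rw [e3]
    exact hd

variable (D) in
/-- The Plücker morphism of charts is a closed immersion. -/
theorem exists_chart_plucker (x : Fin q → Γ(V, U.1)) (A : QPt L 1 (chSch V x)) (hA : IsPl D (chPt x U.2) A U x) :
    ∃ K : chSch V x ⟶ chSch L (fun _ : Fin 1 => D.wedge U x),
      IsClosedImmersion K ∧ ((chPt (fun _ : Fin 1 => D.wedge U x) U.2).map K).Rel A := by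
  classical
  let ω : Fin 1 → Γ(L, U.1) := fun _ => D.wedge U x
  obtain ⟨hP, hg, hA', hAg, hloc, he⟩ := hA
  obtain ⟨K, hK⟩ := exists_ch ω U.2 A hloc
  refine ⟨K, ?_, hK⟩
  have hval : ∀ e, K.appTop (chVal ω (D.wedge U e) 0) = (chPt x U.2).detCrd hP hg e := fun e => by
    have h1 := (map_crd ω U.2 K (D.wedge U e)).symm.trans
      (QPt.crd_rel hK (map_inLoc ω U.2 K) hloc (map_le ω U.2 K) hA' (D.wedge U e))
    have h2 : A.crd hloc hA' (D.wedge U e) = fun _ => (chPt x U.2).detCrd hP hg e :=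
      A.crd_unique hloc hA' (by rw [Fin.sum_univ_one, he e])
    rw [h2] at h1
    exact congrFun h1 0
  have hb : K ≫ chStr ω U.2 = chStr x U.2 := hK.1.trans hAg
  obtain ⟨κ, hκ⟩ := Spec.map_surjective K
  subst hκ
  refine IsClosedImmersion.spec_of_surjective κ fun a => ?_
  have hC : CommRingCat.ofHom (algebraMap Γ(X, U.1) (ChartRing Γ(X, U.1) Γ(L, U.1) ω)) ≫ κ =
      CommRingCat.ofHom (algebraMap Γ(X, U.1) (ChartRing Γ(X, U.1) Γ(V, U.1) x)) := by
    haveI : Mono (IsAffineOpen.fromSpec U.2) := by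
      haveI := IsAffineOpen.isOpenImmersion_fromSpec U.2
      infer_instance
    refine Spec.map_injective ((cancel_mono (IsAffineOpen.fromSpec U.2)).1 ?_)
    rw [Spec.map_comp, Category.assoc]
    exact hb
  have hvar : ∀ m j, κ.hom (chartVar ω (D.wedge U (Function.update x j m)) 0) = chartVar x m j := fun m j => by
    have h1 := hval (Function.update x j m)
    rw [chVal, ← CommRingCat.comp_apply, ← Scheme.ΓSpecIso_inv_naturality, CommRingCat.comp_apply] at h1
    have h2 : (chPt x U.2).detCrd hP hg (Function.update x j m) = chVal x m j := by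
      rw [QPt.detCrd, show (Matrix.of fun i k => (chPt x U.2).crd hP hg (Function.update x j m i) k :
          Matrix (Fin q) (Fin q) Γ(chSch V x, ⊤)) =
        (1 : Matrix (Fin q) (Fin q) Γ(chSch V x, ⊤)).updateRow j
          (∑ k, chVal x m k • (1 : Matrix (Fin q) (Fin q) Γ(chSch V x, ⊤)) k) from Matrix.ext fun i k => by
          obtain rfl | hi := eq_or_ne i j
          · rw [Matrix.of_apply, Function.update_self, Matrix.updateRow_self, Finset.sum_apply,
              Finset.sum_eq_single k (fun l _ hl => by simp [Matrix.one_apply, hl]) (fun h => absurd (Finset.mem_univ k) h)]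
            simp only [Pi.smul_apply, Matrix.one_apply_eq, smul_eq_mul, mul_one]
            exact congrFun (chPt_crd x U.2 m) k
          · rw [Matrix.of_apply, Function.update_of_ne hi, Matrix.updateRow_ne hi, (chPt x U.2).crd_self hP hg,
              Matrix.one_apply, Pi.single_apply]
            exact if_congr eq_comm rfl rfl,
        Matrix.det_updateRow_sum, Matrix.det_one, smul_eq_mul, mul_one]
    rw [h2] at h1
    exact (ConcreteCategory.bijective_of_isIso
      (Scheme.ΓSpecIso (CommRingCat.of (ChartRing Γ(X, U.1) Γ(V, U.1) x))).inv).1 h1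
  obtain ⟨p, rfl⟩ := Ideal.Quotient.mk_surjective a
  show Ideal.Quotient.mk _ p ∈ κ.hom.range
  induction p using MvPolynomial.induction_on with
  | C c => exact ⟨algebraMap Γ(X, U.1) _ c, congr($hC c)⟩
  | add p p' hp hp' => rw [map_add]; exact add_mem hp hp'
  | mul_X p i hp =>
    rw [map_mul]
    obtain ⟨m, j⟩ := i
    exact mul_mem hp ⟨_, hvar m j⟩

variable {G B : Scheme.{u}} {π : G ⟶ X} {Q : G.Modules} {qu : pb π V ⟶ Q} {p : B ⟶ X} {O1 : B.Modules}
  {w : pb p L ⟶ O1}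

include D in
/-- The Plücker morphism is a closed immersion. -/
theorem exists_plucker_closed (hG : Grass.IsGrass π V q Q qu) (hB : Grass.IsGrass p L 1 O1 w) :
    ∃ c : G ⟶ B, IsClosedImmersion c ∧ c ≫ p = π := by
  classical
  obtain ⟨A, hAg, hpl⟩ := exists_pl D (univPt hG)
  obtain ⟨c, hc⟩ := exists_classify hB A
  refine ⟨c, ?_, hc.1.trans hAg⟩
  let O : (Σ U : X.affineOpens, (Fin q → Γ(V, U.1))) → B.Opens := fun i =>
    (univPt hB).locOpen fun _ : Fin 1 => D.wedge i.1 i.2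
  have hO : iSup O = ⊤ := top_le_iff.1 fun z _ => by
    obtain ⟨U, hU, hz, -⟩ := exists_isAffineOpen_mem_and_subset (X := X) (x := p z) (U := ⊤) trivial
    obtain ⟨x, hx⟩ := exists_inLoc_wedge (D := D) (U := ⟨U, hU⟩) (univPt hB) (z := z) hz
    exact TopologicalSpace.Opens.mem_iSup.2 ⟨⟨⟨U, hU⟩, x⟩, hx⟩
  rw [IsZariskiLocalAtTarget.iff_of_iSup_eq_top (P := @IsClosedImmersion) O hO]
  rintro ⟨U, x⟩
  let ω : Fin 1 → Γ(L, U.1) := fun _ => D.wedge U x
  let O₁ := (univPt hB).locOpen ω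
  show IsClosedImmersion (c ∣_ O₁)
  have hloc : ∀ z : G, c z ∈ O₁ ↔ (univPt hG).InLoc x z := fun z => by
    refine (QPt.inLoc_map_iff c (univPt hB) ω z).symm.trans (Iff.trans
      ⟨QPt.inLoc_of_rel hc, QPt.inLoc_of_rel hc.symm⟩ ⟨fun h => inLoc_of_pl hpl hAg h, fun h => ?_⟩)
    let Dx := (univPt hG).locOpen x
    obtain ⟨-, -, -, -, hl, -⟩ := hpl Dx.ι U x fun w => (QPt.inLoc_map_iff _ _ x w).2 w.2
    exact (QPt.inLoc_map_iff Dx.ι A ω ⟨z, h⟩).1 (hl ⟨z, h⟩)
  have hpre : c ⁻¹ᵁ O₁ = (univPt hG).locOpen x := Opens.ext (Set.ext hloc)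
  obtain ⟨a₁, ha₁⟩ := exists_locIso U.2 hB ω
  obtain ⟨a₂, ha₂⟩ := exists_locIso U.2 hG x
  let b : (c ⁻¹ᵁ O₁).toScheme ≅ chSch V x := G.isoOfEq hpre ≪≫ a₂
  have hb : ((chPt x U.2).map b.hom).Rel ((univPt hG).map (c ⁻¹ᵁ O₁).ι) := by
    refine (QPt.map_comp_rel (G.isoOfEq hpre).hom a₂.hom _).symm.trans ((QPt.map_rel _ ha₂).trans ?_)
    refine (QPt.map_comp_rel _ _ _).trans ?_
    rw [Scheme.isoOfEq_hom_ι]
    exact QPt.Rel.refl _
  let j := b.inv ≫ (c ⁻¹ᵁ O₁).ι
  have hj : ((univPt hG).map j).Rel (chPt x U.2) := by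
    refine (QPt.map_comp_rel _ _ _).symm.trans ((QPt.map_rel _ hb.symm).trans ?_)
    refine (QPt.map_comp_rel _ _ _).trans ?_
    rw [b.inv_hom_id]
    exact (chPt x U.2).map_id_rel
  have hAj : IsPl D (chPt x U.2) (A.map j) U x :=
    (hpl j U x fun w => QPt.inLoc_of_rel hj.symm (chPt_inLoc x U.2 w)).of_rel_left hj
  obtain ⟨K, hK, hKrel⟩ := exists_chart_plucker D x (A.map j) hAj
  have key : (c ∣_ O₁) ≫ a₁.hom = b.hom ≫ K := by
    refine ch_ext ω U.2 ?_
    refine ((QPt.map_comp_rel _ _ _).symm.trans ((QPt.map_rel _ ha₁).trans (QPt.map_comp_rel _ _ _))).trans ?_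
    rw [morphismRestrict_ι]
    refine (QPt.map_comp_rel _ _ _).symm.trans ((QPt.map_rel _ hc).trans ?_)
    refine Eq.subst (motive := fun k => (A.map k).Rel _) (b.hom_inv_id_assoc (c ⁻¹ᵁ O₁).ι) ?_
    exact (QPt.map_comp_rel b.hom j A).symm.trans ((QPt.map_rel _ hKrel.symm).trans (QPt.map_comp_rel _ _ _))
  haveI : IsClosedImmersion (b.hom ≫ K) := inferInstance
  rw [show c ∣_ O₁ = (b.hom ≫ K) ≫ a₁.inv by rw [← key, Category.assoc, a₁.hom_inv_id, Category.comp_id]]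
  infer_instance

end GrassSch

end
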