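import Groth.Agent.GrassLib.SchClosed
import Groth.Agent.AmpleThLib.ToPn
import Groth.Agent.FinLFAnnLib.Main

/-!
# The bundle of invertible quotients of a free module over an affine base is closed in projective space
-/

set_option autoImplicit false
set_option linter.style.haveILetI false
set_option linter.unusedSectionVars false

universe u

open AlgebraicGeometry CategoryTheory CategoryTheory.Limits Opposite TopologicalSpace
open KFlatLib (pb puSec)
open ProjFormLib (ger ger_res IsFrame)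
open GrassLib (ChartRing chartVar univCoord)
open ChowLib (PZ Dplus toPZ poLift)
open AmpleThLib (cj)
open TwistLib (genSet)
open FittLib (stdSec coord sum_coord)

noncomputable section

namespace GrassSch

theorem isInvertible_of_rank_one {T : Scheme.{u}} {L : T.Modules} (h : FlatMod.IsFinLocFreeOfRank 1 L) :
    PicF.IsInvertible L := fun x => by
  obtain ⟨U, hU, ⟨e⟩⟩ := h x
  exact ⟨U, hU, ⟨e ≪≫ Limits.coproductUniqueIso fun _ : Fin 1 => Coh.structureModule (U : Scheme.{u})⟩⟩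

theorem qcoh_free (X : Scheme.{u}) (n : ℕ) : Coh.IsQCoh (FlatMod.freeMod X n) :=
  FinLFAnn.isQCoh_of_isFinLocFree (finLocFree_of_rank (rank_of_frames fun _ => ⟨⊤, _, trivial, isFrame_std X n⟩))

theorem appLE_congr_hom {A B : Scheme.{u}} {f g : A ⟶ B} (h : f = g) {W : B.Opens} {V : A.Opens} (a : V ≤ f ⁻¹ᵁ W)
    (b : V ≤ g ⁻¹ᵁ W) (c : Γ(B, W)) : f.appLE W V a c = g.appLE W V b c := by
  subst h; rfl

/-- An element whose value factors through a morphism is in the range. -/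
theorem mem_range_appTop {A B C : Scheme.{u}} (φ : A ⟶ B) (ψ : B ⟶ C) {W : C.Opens} (hψ : ⊤ ≤ ψ ⁻¹ᵁ W)
    {g : A ⟶ C} (hg : φ ≫ ψ = g) (hgW : ⊤ ≤ g ⁻¹ᵁ W) (c : Γ(C, W)) :
    g.appLE W ⊤ hgW c ∈ φ.appTop.hom.range := by
  refine ⟨ψ.appLE W ⊤ hψ c, ?_⟩
  subst hg
  rw [← Scheme.Hom.appLE_comp_appLE φ ψ W ⊤ ⊤ hψ le_top, CommRingCat.comp_apply,
    show φ.appLE ⊤ ⊤ le_top = φ.appTop from (Scheme.Hom.app_eq_appLE (f := φ) (U := ⊤)).symm]

variable {S B : Scheme.{u}} {p : B ⟶ S} {O1 : B.Modules} {m : ℕ} {w : pb p (FlatMod.freeMod S (m + 1)) ⟶ O1}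

set_option maxHeartbeats 1000000 in
/-- Over an affine base the bundle of invertible quotients of a free module is closed in projective space. -/
theorem exists_closedImmersion_projSpace [IsAffine S] (hB : Grass.IsGrass p (FlatMod.freeMod S (m + 1)) 1 O1 w) :
    ∃ j : B ⟶ CohB1.ProjSpaceOver m S, IsClosedImmersion j ∧ j ≫ CohB1.ProjSpaceOver.toBase m S = p := by
  classical
  haveI := qcoh_free S (m + 1)
  have hS : IsAffineOpen (⊤ : S.Opens) := isAffineOpen_top S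
  let P := univPt hB
  have hg : ⊤ ≤ P.g ⁻¹ᵁ (⊤ : S.Opens) := fun z _ => trivial
  let e : Fin (m + 1) → Γ(FlatMod.freeMod S (m + 1), ⊤) := fun k => stdSec S (m + 1) ⊤ k
  let v : Fin (m + 1) → Γ(P.L, ⊤) := fun k => P.secT hg (e k)
  have hM : PicF.IsInvertible P.L := isInvertible_of_rank_one P.inv
  -- the generating loci
  have hgs : ∀ (k : Fin (m + 1)) (z : B), z ∈ genSet hM (v k) ↔ P.InLoc (fun _ : Fin 1 => e k) z := fun k z => by
    let g0 := ger P.L z (U := ⊤) trivial (v k)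
    have e1 : ⇑(Fintype.linearCombination (B.presheaf.stalk z) fun _ : Fin 1 => g0) =
        (fun c : B.presheaf.stalk z => c • g0) ∘ (Equiv.funUnique (Fin 1) (B.presheaf.stalk z)) := funext fun f => by
      rw [Fintype.linearCombination_apply, Fin.sum_univ_one]
      rfl
    have e2 : Function.Bijective ⇑(Fintype.linearCombination (B.presheaf.stalk z) fun _ : Fin 1 => g0) ↔
        Function.Bijective fun c : B.presheaf.stalk z => c • g0 := by
      rw [e1]
      exact Function.Bijective.of_comp_iff _ (Equiv.bijective _)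
    refine (show z ∈ genSet hM (v k) ↔ Function.Bijective fun c : B.presheaf.stalk z => c • g0 from Iff.rfl).trans
      (e2.symm.trans ?_)
    simp only [g0, v, P.ger_secT hg _ z trivial]
    exact ⟨fun h => ⟨trivial, h⟩, fun h => h.2⟩
  have hgen : ∀ z : B, ∃ k, z ∈ genSet hM (v k) := fun z => by
    obtain ⟨O, b, hO, hb⟩ := SeesawLib.rankSet_of_rank P.inv z
    let u : Fin (m + 1) → (DerSch.stalkFunctor B z).obj P.L := fun k => ger P.L z (U := ⊤) trivial (v k)
    have hu : Submodule.span (B.presheaf.stalk z) (Set.range u) = ⊤ := by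
      obtain ⟨x, hx, hxb⟩ := QPt.exists_inLoc hS P (z := z) trivial
      refine eq_top_iff.2 fun a _ => ?_
      obtain ⟨c, rfl⟩ := hxb.2 a
      rw [Fintype.linearCombination_apply]
      refine Submodule.sum_mem _ fun j _ => Submodule.smul_mem _ _ ?_
      rw [← P.ger_secT hg _ z hx, sum_coord (x j), map_sum]
      simp only [P.secT_smul]
      refine Eq.mpr (congrArg (· ∈ Submodule.span (B.presheaf.stalk z) (Set.range u))
        (SeesawLib.ger_sum_smul P.L (U := ⊤) z trivial _ _)) ?_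
      exact Submodule.sum_mem _ fun i _ => Submodule.smul_mem _ _ (Submodule.subset_span ⟨i, rfl⟩)
    obtain ⟨x, hx⟩ := exists_comb_bijective (hb z hO) u hu
    refine ⟨x 0, (hgs (x 0) z).2 ⟨trivial, ?_⟩⟩
    have e3 : (fun _ : Fin 1 => ger P.L z (U := P.g ⁻¹ᵁ (⊤ : S.Opens)) trivial (P.sec0 (e (x 0)))) = fun j => u (x j) :=
      funext fun j => by rw [Subsingleton.elim j 0]; exact (P.ger_secT hg (e (x 0)) z trivial).symm
    rw [e3]
    exact hx
  obtain ⟨r, -, hr, hcj⟩ := AmpleThLib.exists_toPZ hM v hgen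
  let j : B ⟶ CohB1.ProjSpaceOver m S := poLift r p
  have hjr : j ≫ toPZ m S = r := ChowLib.poLift_toPZ _ _
  have hjp : j ≫ CohB1.ProjSpaceOver.toBase m S = p := ChowLib.poLift_toBase _ _
  refine ⟨j, ?_, hjp⟩
  let V : Fin (m + 1) → (CohB1.ProjSpaceOver m S).Opens := fun k => toPZ m S ⁻¹ᵁ Dplus k
  have hV : iSup V = ⊤ := top_le_iff.1 fun y _ => by
    obtain ⟨k, hk⟩ := (TopologicalSpace.Opens.mem_iSup).1 ((ChowLib.iSup_Dplus (n := m)).ge (Opens.mem_top (toPZ m S y)))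
    exact TopologicalSpace.Opens.mem_iSup.2 ⟨k, hk⟩
  rw [IsZariskiLocalAtTarget.iff_of_iSup_eq_top (P := @IsClosedImmersion) V hV]
  intro k
  haveI : IsAffineHom (toPZ m S) := by
    haveI : IsAffineHom (specULiftZIsTerminal.from S) := isAffineHom_of_isAffine _
    exact MorphismProperty.of_isPullback (P := @IsAffineHom) (ChowLib.isPullback_po m S).flip ‹_›
  haveI : IsAffine (V k).toScheme := (ChowLib.isAffineOpen_Dplus k).preimage (toPZ m S)
  let O : B.Opens := j ⁻¹ᵁ V k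
  have hO : O = r ⁻¹ᵁ Dplus k := by
    show (j ≫ toPZ m S) ⁻¹ᵁ Dplus k = _
    rw [hjr]
  have hOP : O = P.locOpen fun _ : Fin 1 => e k := by
    rw [hO, hr k]
    exact Opens.ext (Set.ext (hgs k))
  obtain ⟨a₀, ha₀⟩ := exists_locIso hS hB fun _ : Fin 1 => e k
  let a : O.toScheme ≅ chSch (FlatMod.freeMod S (m + 1)) (fun _ : Fin 1 => e k) := B.isoOfEq hOP ≪≫ a₀
  haveI : IsAffine O.toScheme := .of_isIso a.hom
  let Q0 := P.map O.ι
  have hQ0 : ∀ z, Q0.InLoc (fun _ : Fin 1 => e k) z := fun z =>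
    (QPt.inLoc_map_iff O.ι P _ z).2 (hOP.le z.2)
  have hgQ : ⊤ ≤ Q0.g ⁻¹ᵁ (⊤ : S.Opens) := fun z _ => trivial
  have harel : ((chPt (fun _ : Fin 1 => e k) hS).map a.hom).Rel Q0 := by
    refine (QPt.map_comp_rel (B.isoOfEq hOP).hom a₀.hom _).symm.trans ((QPt.map_rel _ ha₀).trans ?_)
    refine (QPt.map_comp_rel _ _ _).trans ?_
    rw [Scheme.isoOfEq_hom_ι]
    exact QPt.Rel.refl _
  let φ := j ∣_ V k
  have hφ : φ ≫ (V k).ι = O.ι ≫ j := morphismRestrict_ι j (V k)
  let R := φ.appTop.hom.range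
  -- constants
  have hconst : ∀ c : Γ(S, ⊤), (O.ι ≫ p).appLE ⊤ ⊤ (fun z _ => trivial) c ∈ R := fun c =>
    mem_range_appTop φ ((V k).ι ≫ CohB1.ProjSpaceOver.toBase m S) (W := ⊤) (fun z _ => trivial)
      (by rw [← Category.assoc, hφ, Category.assoc, hjp]) _ c
  -- coordinates of the standard sections
  have hcoord : ∀ l, Q0.crd hQ0 hgQ (e l) 0 ∈ R := fun l => by
    have hle : ⊤ ≤ (O.ι ≫ r) ⁻¹ᵁ Dplus k := fun z _ => hO.le z.2
    have hmem := mem_range_appTop φ ((V k).ι ≫ toPZ m S) (W := Dplus k) (fun z _ => z.2)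
      (show φ ≫ (V k).ι ≫ toPZ m S = O.ι ≫ r by rw [← Category.assoc, hφ, Category.assoc, hjr]) hle (cj k l)
    suffices h : Q0.crd hQ0 hgQ (e l) = fun _ => (O.ι ≫ r).appLE (Dplus k) ⊤ hle (cj k l) by
      rw [h]; exact hmem
    refine Q0.crd_unique hQ0 hgQ ?_
    rw [Fin.sum_univ_one, QPt.secT_map O.ι P hg hgQ, QPt.secT_map O.ι P hg hgQ]
    have hle' : (⊤ : O.toScheme.Opens) ≤ O.ι ⁻¹ᵁ (r ⁻¹ᵁ Dplus k) := hle
    have e4 : ∀ i, puTop O.ι P.L (P.secT hg (e i)) =
        KFlatLib.puSecLE O.ι P.L hle' (AmpleLib.res P.L (le_top : r ⁻¹ᵁ Dplus k ≤ ⊤) (v i)) := fun i => by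
      show (pb O.ι P.L).presheaf.map _ (puSec O.ι (v i)) = (pb O.ι P.L).presheaf.map _ (puSec O.ι _)
      rw [TwistLib.puSec_res]
      exact (QCohLib.map_map' _ _ _ _).symm
    refine (e4 l).trans (Eq.trans ?_ (congrArg _ (e4 k).symm))
    rw [← hcj k l, Scheme.Hom.app_eq_appLE]
    refine (KFlatLib.puSecLE_smul O.ι P.L hle' _ _).trans ?_
    rw [← CommRingCat.comp_apply, Scheme.Hom.appLE_comp_appLE]
    rfl
  refine IsClosedImmersion.of_surjective_of_isAffine φ (RingHom.range_eq_top.1 (top_le_iff.1 fun y hytop => ?_))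
  haveI : IsIso a.hom.appTop := inferInstanceAs (IsIso (a.hom.app ⊤))
  clear hytop
  obtain ⟨y, rfl⟩ := (ConcreteCategory.bijective_of_isIso a.hom.appTop).2 y
  obtain ⟨y, rfl⟩ := (ConcreteCategory.bijective_of_isIso (Scheme.ΓSpecIso
    (CommRingCat.of (ChartRing Γ(S, ⊤) Γ(FlatMod.freeMod S (m + 1), ⊤) fun _ : Fin 1 => e k))).inv).2 y
  obtain ⟨y, rfl⟩ := Ideal.Quotient.mk_surjective y
  let F : MvPolynomial (Γ(FlatMod.freeMod S (m + 1), ⊤) × Fin 1) Γ(S, ⊤) →+* Γ(O.toScheme, ⊤) :=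
    (a.hom.appTop.hom.comp (Scheme.ΓSpecIso _).inv.hom).comp (Ideal.Quotient.mk _)
  show F y ∈ R
  have hC : ∀ c : Γ(S, ⊤), F (MvPolynomial.C c) ∈ R := fun c => by
    refine Eq.mpr (congrArg (· ∈ R) ?_) (hconst c)
    show a.hom.appTop ((Scheme.ΓSpecIso _).inv (algebraMap Γ(S, ⊤) (ChartRing Γ(S, ⊤)
      Γ(FlatMod.freeMod S (m + 1), ⊤) fun _ : Fin 1 => e k) c)) = _
    rw [← chStr_appLE (fun _ : Fin 1 => e k) hS c,
      show a.hom.appTop = a.hom.appLE ⊤ ⊤ (show ⊤ ≤ a.hom ⁻¹ᵁ ⊤ from le_top) from Scheme.Hom.app_eq_appLE (f := a.hom) (U := ⊤),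
      ← CommRingCat.comp_apply, Scheme.Hom.appLE_comp_appLE]
    exact appLE_congr_hom harel.1 _ _ c
  induction y using MvPolynomial.induction_on with
  | C c => exact hC c
  | add y y' hy hy' => rw [map_add]; exact add_mem hy hy'
  | mul_X y i hy =>
    rw [map_mul]
    refine mul_mem hy ?_
    obtain ⟨t, i⟩ := i
    obtain rfl : i = 0 := Subsingleton.elim _ _
    have key : ∀ t, a.hom.appTop (chVal (fun _ : Fin 1 => e k) t 0) = Q0.crd hQ0 hgQ t 0 := fun t => by
      have h1 := QPt.crd_rel harel (map_inLoc _ hS a.hom) hQ0 (map_le _ hS a.hom) hgQ t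
      exact (congrFun (map_crd _ hS a.hom t) 0).symm.trans (congrFun h1 0)
    show a.hom.appTop (chVal (fun _ : Fin 1 => e k) t 0) ∈ R
    rw [key]
    have h2 : Q0.crd hQ0 hgQ t = fun _ => ∑ l, Q0.g.appLE ⊤ ⊤ hgQ (coord t l) * Q0.crd hQ0 hgQ (e l) 0 := by
      refine Q0.crd_unique hQ0 hgQ ?_
      conv_lhs => rw [sum_coord t]
      rw [map_sum, Fin.sum_univ_one, Finset.sum_smul]
      refine Finset.sum_congr rfl fun l _ => ?_
      rw [QPt.secT_smul, ← Q0.sum_crd hQ0 hgQ (e l), Fin.sum_univ_one, smul_smul]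
    rw [h2]
    exact sum_mem fun l _ => mul_mem (hconst _) (hcoord l)

end GrassSch

end
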