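import Groth.Agent.GrassLib.SchExists
import Groth.Agent.GrassLib.SchPlucker
import Groth.Agent.GrassLib.SchExtPow
import Groth.Agent.GrassLib.SchProjSpace
import Groth.Agent.GrassLib.SchBC
import Groth.Agent.ChowLib.Embed

/-!
# The Grassmannian of a free module over any scheme is projective
-/

set_option autoImplicit false
set_option linter.style.haveILetI false
set_option linter.unusedSectionVars false

universe u

open AlgebraicGeometry CategoryTheory CategoryTheory.Limits Opposite TopologicalSpace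
open KFlatLib (pb puSec)
open ProjFormLib (ger)

noncomputable section

namespace GrassSch

/-- There are no invertible quotients of the zero module. -/
theorem isEmpty_of_quot_zero {S T : Scheme.{u}} (A : QPt (FlatMod.freeMod S 0) 1 T) : IsEmpty T := ⟨fun z => by
  haveI := qcoh_free S 0
  obtain ⟨U, hU, hz, -⟩ := exists_isAffineOpen_mem_and_subset (X := S) (x := A.g z) (U := ⊤) trivial
  obtain ⟨x, hx, hb⟩ := QPt.exists_inLoc hU A hz
  have h0 : ∀ j, ger A.L z (U := A.g ⁻¹ᵁ U) hx (A.sec0 (x j)) = 0 := fun j => by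
    have e0 : x j = 0 := (FittLib.sum_coord (x j)).trans (Finset.sum_of_isEmpty _)
    rw [e0, QPt.sec0, puSec_zero]
    have e1 : A.s.app (A.g ⁻¹ᵁ U) (0 : Γ(pb A.g (FlatMod.freeMod S 0), A.g ⁻¹ᵁ U)) = 0 := map_zero _
    rw [e1]
    exact map_zero _
  have h1 : (fun _ : Fin 1 => (1 : T.presheaf.stalk z)) = fun _ => 0 := hb.1 (by
    simp only [Fintype.linearCombination_apply, h0, smul_zero])
  exact one_ne_zero (congrFun h1 0)⟩

/-- Over an affine base the Grassmannian of a free module is closed in a projective space. -/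
theorem exists_isGrass_free_affine (S : Scheme.{u}) [IsAffine S] (N r : ℕ) :
    ∃ (G : Scheme.{u}) (π : G ⟶ S) (Q : G.Modules) (qu : pb π (FlatMod.freeMod S N) ⟶ Q),
      Grass.IsGrass π (FlatMod.freeMod S N) r Q qu ∧
        ∃ (m : ℕ) (c : G ⟶ CohB1.ProjSpaceOver m S),
          IsClosedImmersion c ∧ c ≫ CohB1.ProjSpaceOver.toBase m S = π := by
  haveI := qcoh_free S N
  obtain ⟨G, π, Q, qu, hG⟩ := exists_isGrass (FlatMod.freeMod S N) r
  refine ⟨G, π, Q, qu, hG, ?_⟩
  obtain hc | ⟨m, hm⟩ : N.choose r = 0 ∨ ∃ m, N.choose r = m + 1 := by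
    rcases N.choose r with _ | m
    · exact Or.inl rfl
    · exact Or.inr ⟨m, rfl⟩
  · obtain ⟨D⟩ := ExtData.exists_of_isExtPow (hc ▸ isExtPow_free S N r)
    haveI := qcoh_free S 0
    obtain ⟨A, -, -⟩ := exists_pl D (univPt hG)
    haveI := isEmpty_of_quot_zero A
    let c : G ⟶ CohB1.ProjSpaceOver 0 S := isInitialOfIsEmpty.to _
    exact ⟨0, c, IsClosedImmersion.of_isPreimmersion c (by rw [Set.range_eq_empty]; exact isClosed_empty),
      isInitialOfIsEmpty.hom_ext _ _⟩
  · obtain ⟨D⟩ := ExtData.exists_of_isExtPow (hm ▸ isExtPow_free S N r)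
    haveI := qcoh_free S (m + 1)
    obtain ⟨B, p, O1, w, hB⟩ := exists_isGrass (FlatMod.freeMod S (m + 1)) 1
    obtain ⟨c, hc, hcp⟩ := exists_plucker_closed (D := D) hG hB
    obtain ⟨j, hj, hjp⟩ := exists_closedImmersion_projSpace hB
    exact ⟨m, c ≫ j, inferInstance, by rw [Category.assoc, hjp, hcp]⟩

/-- The Grassmannian of a free module over any scheme, closed in a projective space and proper over the base. -/
theorem exists_isGrass_free (S : Scheme.{u}) (N r : ℕ) :
    ∃ (G : Scheme.{u}) (π : G ⟶ S) (Q : G.Modules)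
      (qu : (Scheme.Modules.pullback π).obj (FlatMod.freeMod S N) ⟶ Q),
      Grass.IsGrass π (FlatMod.freeMod S N) r Q qu ∧ IsProper π ∧
        ∃ (m : ℕ) (c : G ⟶ CohB1.ProjSpaceOver m S),
          IsClosedImmersion c ∧ c ≫ CohB1.ProjSpaceOver.toBase m S = π := by
  let Z : Scheme.{u} := Spec (CommRingCat.of (ULift.{u} ℤ))
  obtain ⟨G₀, π₀, Q₀, qu₀, hG₀, m, i, hi, hip⟩ := exists_isGrass_free_affine Z N r
  let f : S ⟶ Z := specULiftZIsTerminal.from S
  -- base change of projective space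
  let P : CohB1.ProjSpaceOver m S ⟶ CohB1.ProjSpaceOver m Z :=
    ChowLib.poLift (ChowLib.toPZ m S) (CohB1.ProjSpaceOver.toBase m S ≫ f)
  have hP1 : P ≫ ChowLib.toPZ m Z = ChowLib.toPZ m S := ChowLib.poLift_toPZ _ _
  have hP2 : P ≫ CohB1.ProjSpaceOver.toBase m Z = CohB1.ProjSpaceOver.toBase m S ≫ f := ChowLib.poLift_toBase _ _
  have hPsq : IsPullback P (CohB1.ProjSpaceOver.toBase m S) (CohB1.ProjSpaceOver.toBase m Z) f := by
    refine IsPullback.of_right ?_ hP2 (ChowLib.isPullback_po m Z)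
    rw [hP1, specULiftZIsTerminal.hom_ext (f ≫ specULiftZIsTerminal.from Z) (specULiftZIsTerminal.from S)]
    exact ChowLib.isPullback_po m S
  let G := pullback i P
  let f' : G ⟶ G₀ := pullback.fst i P
  let c : G ⟶ CohB1.ProjSpaceOver m S := pullback.snd i P
  haveI := hi
  haveI : IsClosedImmersion c := inferInstanceAs (IsClosedImmersion (pullback.snd i P))
  have hsq : IsPullback f' (c ≫ CohB1.ProjSpaceOver.toBase m S) π₀ f := by
    rw [← hip]
    exact (IsPullback.of_hasPullback i P).paste_vert hPsq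
  refine ⟨G, c ≫ CohB1.ProjSpaceOver.toBase m S, pb f' Q₀, _,
    isGrass_of_iso (KFlatLib.pullFreeIso f N) (isGrass_bc qu₀ hG₀ hsq), inferInstance, m, c, inferInstance, rfl⟩

end GrassSch

end
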