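import Mathlib
import Groth.Agent.CohCmpLib.PuSec
import Groth.Agent.DiscExtLib.Glue
import Groth.Agent.TwistLib.ProjSymExt
import Groth.Agent.TwistLib.Basic
import Groth.Agent.SeesawLib.Ranks
import Groth.Agent.KFlatLib.PerfectPull

/-!
# Pullbacks of sections and maps out of pullbacks (light imports)
-/

set_option autoImplicit false
set_option linter.style.haveILetI false
set_option linter.unusedSectionVars false

universe u

open AlgebraicGeometry CategoryTheory CategoryTheory.Limits Opposite TopologicalSpace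
open AmpleLib (res)
open KFlatLib (pb puSec)

noncomputable section

namespace GrassSch

theorem pullbackComp_inv_puSec {X Y Z : Scheme.{u}} (a : X ⟶ Y) (b : Y ⟶ Z) (M : Z.Modules) {U : Z.Opens} (m : Γ(M, U)) :
    ((Scheme.Modules.pullbackComp a b).inv.app M).app ((a ≫ b) ⁻¹ᵁ U) (puSec (a ≫ b) m) =
      puSec a (puSec b m) := by
  rw [← CohCmpLib.pullbackComp_puSec]
  exact congr(Scheme.Modules.Hom.app $((Scheme.Modules.pullbackComp a b).hom_inv_id_app M)
    (a ⁻¹ᵁ (b ⁻¹ᵁ U)) (puSec a (puSec b m)))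

theorem hom_ext_pu {X Y : Scheme.{u}} (f : X ⟶ Y) {M : Y.Modules} {L : X.Modules} (a b : pb f M ⟶ L)
    (h : ∀ (U : Y.Opens) (m : Γ(M, U)), a.app (f ⁻¹ᵁ U) (puSec f m) = b.app (f ⁻¹ᵁ U) (puSec f m)) : a = b :=
  ((Scheme.Modules.pullbackPushforwardAdjunction f).homEquiv _ _).injective
    (Scheme.Modules.hom_ext _ _ fun U => ConcreteCategory.hom_ext _ _ fun m => h U m)

theorem hom_ext_pu₂ {T X Y : Scheme.{u}} (g : T ⟶ X) (f : X ⟶ Y) {M : Y.Modules} {L : T.Modules} (a b : pb g (pb f M) ⟶ L)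
    (h : ∀ (U : Y.Opens) (m : Γ(M, U)),
      a.app (g ⁻¹ᵁ (f ⁻¹ᵁ U)) (puSec g (puSec f m)) = b.app (g ⁻¹ᵁ (f ⁻¹ᵁ U)) (puSec g (puSec f m))) :
    a = b := by
  rw [← cancel_epi ((Scheme.Modules.pullbackComp g f).inv.app M)]
  refine hom_ext_pu _ _ _ fun U m => ?_
  have e := pullbackComp_inv_puSec g f M m
  refine Eq.trans ?_ ((h U m).trans ?_)
  · exact congrArg (a.app _) e
  · exact (congrArg (b.app _) e).symm

/-- The composite of the universal property. -/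
def compQ {Y P T : Scheme.{u}} {π : P ⟶ Y} {E : Y.Modules} {O1 : P.Modules} (q : pb π E ⟶ O1) {g : T ⟶ Y} {h : T ⟶ P}
    (hg : h ≫ π = g) {L : T.Modules} (i : pb h O1 ⟶ L) : pb g E ⟶ L :=
  (Scheme.Modules.pullbackCongr hg).inv.app E ≫ (Scheme.Modules.pullbackComp h π).inv.app E ≫
    (Scheme.Modules.pullback h).map q ≫ i

theorem comp_apply_puSec {X P T : Scheme.{u}} {p : P ⟶ X} {O1 : P.Modules} {E : X.Modules} (q : pb p E ⟶ O1) {f : T ⟶ P} {g : T ⟶ X} (hf : f ≫ p = g)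
    {L : T.Modules} (i : pb f O1 ⟶ L) {W : X.Opens} (m : Γ(E, W)) :
    ((Scheme.Modules.pullbackCongr hf).inv.app E ≫ (Scheme.Modules.pullbackComp f p).inv.app E ≫
        (Scheme.Modules.pullback f).map q ≫ i).app (g ⁻¹ᵁ W) (puSec g m) =
      L.presheaf.map (eqToHom (by rw [← hf]; rfl)).op (i.app (f ⁻¹ᵁ (p ⁻¹ᵁ W)) (puSec f (q.app (p ⁻¹ᵁ W) (puSec p m)))) := by
  subst hf
  have h1 : ((Scheme.Modules.pullbackComp f p).inv.app E).app ((f ≫ p) ⁻¹ᵁ W) (puSec (f ≫ p) m) =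
      puSec f (puSec p m) := by
    rw [← CohCmpLib.pullbackComp_puSec f p E m]
    exact congr($((Scheme.Modules.pullbackComp f p).hom_inv_id_app E).app (f ⁻¹ᵁ (p ⁻¹ᵁ W)) (puSec f (puSec p m)))
  refine Eq.trans ?_ (congr($(L.presheaf.map_id _) _)).symm
  show i.app (f ⁻¹ᵁ (p ⁻¹ᵁ W)) (((Scheme.Modules.pullback f).map q).app _
    (((Scheme.Modules.pullbackComp f p).inv.app E).app ((f ≫ p) ⁻¹ᵁ W) (puSec (f ≫ p) m))) = _
  rw [h1]
  exact congrArg _ (KFlatLib.puSec_natural f q (puSec p m))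

variable {X : Scheme.{u}} {E : X.Modules} {T T' : Scheme.{u}}

/-- The universal composite on pulled sections. -/
theorem compQ_app {p : T ⟶ X} {O1 : T.Modules} (q : pb p E ⟶ O1) {f : T' ⟶ T} {g : T' ⟶ X} (hf : f ≫ p = g)
    {L : T'.Modules} (i : pb f O1 ⟶ L) {W : X.Opens} (m : Γ(E, W)) :
    (compQ q hf i).app (g ⁻¹ᵁ W) (puSec g m) = L.presheaf.map (eqToHom (by rw [← hf]; rfl)).op
      (i.app (f ⁻¹ᵁ (p ⁻¹ᵁ W)) (puSec f (q.app (p ⁻¹ᵁ W) (puSec p m)))) :=
  comp_apply_puSec q hf i m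

/-- A composite is a given map if it is so on pulled sections. -/
theorem compQ_eq_of_sec {p : T ⟶ X} {O1 : T.Modules} (q : pb p E ⟶ O1) {f : T' ⟶ T} {g : T' ⟶ X} (hf : f ≫ p = g)
    {L : T'.Modules} (i : pb f O1 ⟶ L) (t : pb g E ⟶ L) (h : ∀ (W : X.Opens) (m : Γ(E, W)),
      L.presheaf.map (eqToHom (by rw [← hf]; rfl)).op
        (i.app (f ⁻¹ᵁ (p ⁻¹ᵁ W)) (puSec f (q.app (p ⁻¹ᵁ W) (puSec p m)))) = t.app (g ⁻¹ᵁ W) (puSec g m)) :
    compQ q hf i = t :=
  hom_ext_pu _ _ _ fun W m => (compQ_app q hf i m).trans (h W m)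

/-- Two local quotients with isomorphic restrictions kill the same sections of the pullback. -/
theorem compQ_pullbackComp {A B W : Scheme.{u}} {g : T ⟶ X} {a : A ⟶ T} {b : B ⟶ T} {ka : W ⟶ A} {kb : W ⟶ B}
    {c : W ⟶ T} (hka : ka ≫ a = c) (hkb : kb ≫ b = c) {LA : A.Modules} {LB : B.Modules}
    (ta : pb (a ≫ g) E ⟶ LA) (tb : pb (b ≫ g) E ⟶ LB) {e : pb ka LA ⟶ pb kb LB}
    (hgg : ka ≫ a ≫ g = kb ≫ b ≫ g) (he : compQ ta hgg e =
      (Scheme.Modules.pullbackComp kb (b ≫ g)).inv.app E ≫ (Scheme.Modules.pullback kb).map tb) :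
    compQ ((Scheme.Modules.pullbackComp a g).hom.app E ≫ ta) hka e =
      compQ ((Scheme.Modules.pullbackComp b g).hom.app E ≫ tb) hkb (𝟙 _) := by
  have hv : ∀ {Y : Scheme.{u}} (y : Y ⟶ T) {N : Y.Modules} (t : pb (y ≫ g) E ⟶ N) (U : X.Opens) (m : Γ(E, U)),
      ((Scheme.Modules.pullbackComp y g).hom.app E ≫ t).app (y ⁻¹ᵁ (g ⁻¹ᵁ U)) (puSec y (puSec g m)) =
        t.app ((y ≫ g) ⁻¹ᵁ U) (puSec (y ≫ g) m) := fun y _ t U m =>
    congrArg (t.app _) (CohCmpLib.pullbackComp_puSec y g E m)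
  have hnat : ∀ (U : X.Opens) (m : Γ(E, U)),
      ((Scheme.Modules.pullbackComp kb (b ≫ g)).inv.app E ≫ (Scheme.Modules.pullback kb).map tb).app
        ((kb ≫ b ≫ g) ⁻¹ᵁ U) (puSec (kb ≫ b ≫ g) m) = puSec kb (tb.app ((b ≫ g) ⁻¹ᵁ U) (puSec (b ≫ g) m)) := by
    intro U m
    show ((Scheme.Modules.pullback kb).map tb).app _
      (((Scheme.Modules.pullbackComp kb (b ≫ g)).inv.app E).app _ (puSec (kb ≫ b ≫ g) m)) = _
    rw [pullbackComp_inv_puSec]
    exact KFlatLib.puSec_natural kb tb (puSec (b ≫ g) m)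
  refine hom_ext_pu₂ _ _ _ _ fun U m => ?_
  refine (compQ_app (E := pb g E) _ hka e (puSec g m)).trans
    (Eq.trans ?_ (compQ_app (E := pb g E) _ hkb (𝟙 _) (puSec g m)).symm)
  rw [hv a ta, hv b tb]
  have h1 := (compQ_app ta hgg e m).symm.trans
    ((congr($(he).app ((kb ≫ b ≫ g) ⁻¹ᵁ U) (puSec (kb ≫ b ≫ g) m))).trans (hnat U m))
  refine Eq.trans ?_ (congrArg ((pb kb LB).presheaf.map _) h1)
  exact (QCohLib.map_map' (pb kb LB) _ _ _).symm

theorem pullbackId_puSec {M : T.Modules} {U : T.Opens} (m : Γ(M, U)) :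
    ((Scheme.Modules.pullbackId T).hom.app M).app ((𝟙 T) ⁻¹ᵁ U) (puSec (𝟙 T) m) = m := by
  have h0 := unit_conjugateEquiv (Adjunction.id (C := T.Modules))
    (Scheme.Modules.pullbackPushforwardAdjunction (𝟙 T)) (Scheme.Modules.pullbackId T).hom M
  rw [Scheme.Modules.conjugateEquiv_pullbackId_hom] at h0
  exact congr(Scheme.Modules.Hom.app $h0 U m).symm

variable {S : Scheme.{u}}

/-- Two quotients killing the same sections are isomorphic. -/
theorem exists_iso_of_kills {M L L' : T.Modules} (s : M ⟶ L) (s' : M ⟶ L') [Epi s] [Epi s']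
    (h : ∀ (W : T.Opens) (m : Γ(M, W)), s.app W m = 0 ↔ s'.app W m = 0) :
    ∃ e : L ≅ L', s ≫ e.hom = s' := by
  have hk : ∀ {L₁ L₂ : T.Modules} (t₁ : M ⟶ L₁) (t₂ : M ⟶ L₂),
      (∀ (W : T.Opens) (m : Γ(M, W)), t₁.app W m = 0 → t₂.app W m = 0) → kernel.ι t₁ ≫ t₂ = 0 :=
    fun t₁ t₂ h => Scheme.Modules.hom_ext _ _ fun W => ConcreteCategory.hom_ext _ _ fun k =>
      h W _ (congr($(kernel.condition t₁).app W k))
  let d : L ⟶ L' := (Abelian.epiIsCokernelOfKernel _ (limit.isLimit (parallelPair s 0))).desc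
    (CokernelCofork.ofπ s' (hk s s' fun W m => (h W m).1))
  let d' : L' ⟶ L := (Abelian.epiIsCokernelOfKernel _ (limit.isLimit (parallelPair s' 0))).desc
    (CokernelCofork.ofπ s (hk s' s fun W m => (h W m).2))
  have e1 : s ≫ d = s' := (Abelian.epiIsCokernelOfKernel _ (limit.isLimit (parallelPair s 0))).fac
    (CokernelCofork.ofπ s' (hk s s' fun W m => (h W m).1)) WalkingParallelPair.one
  have e2 : s' ≫ d' = s := (Abelian.epiIsCokernelOfKernel _ (limit.isLimit (parallelPair s' 0))).fac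
    (CokernelCofork.ofπ s (hk s' s fun W m => (h W m).2)) WalkingParallelPair.one
  exact ⟨⟨d, d', by rw [← cancel_epi s, ← Category.assoc, e1, e2, Category.comp_id],
    by rw [← cancel_epi s', ← Category.assoc, e2, e1, Category.comp_id]⟩, e1⟩

/-- Along an open immersion, sections over opens in the image correspond. -/
theorem puSec_bijective (j : S ⟶ T) [IsOpenImmersion j] (M : T.Modules) {W : T.Opens} (hW : W ≤ j.opensRange) :
    Function.Bijective (fun m : Γ(M, W) => puSec j m) := by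
  have hW' : W ≤ j ''ᵁ j ⁻¹ᵁ W := fun x hx => by
    obtain ⟨y, rfl⟩ := hW hx
    exact ⟨y, hx, rfl⟩
  let φ : Γ(M, W) → Γ(pb j M, j ⁻¹ᵁ W) := fun m =>
    ((Scheme.Modules.restrictFunctorIsoPullback j).hom.app M).app (j ⁻¹ᵁ W)
      ((M.restrictAppIso j (j ⁻¹ᵁ W)).inv (res M (j.image_preimage_le W) m))
  have hφ : (fun m : Γ(M, W) => puSec j m) = φ := funext fun m => by
    refine Eq.trans ?_ (CohCmpLib.restrictIso_puSec j M m le_rfl).symm
    exact (congr($((pb j M).presheaf.map_id _) (puSec j m))).symm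
  rw [hφ]
  refine (ConcreteCategory.bijective_of_isIso _).comp ((ConcreteCategory.bijective_of_isIso _).comp ?_)
  refine ⟨fun a b hab => ?_, fun b => ⟨res M hW' b, by rw [AmpleLib.res_res, AmpleLib.res_refl]⟩⟩
  have := congrArg (res M hW') hab
  rwa [AmpleLib.res_res, AmpleLib.res_refl, AmpleLib.res_res, AmpleLib.res_refl] at this

theorem puSec_zero (j : S ⟶ T) (M : T.Modules) {W : T.Opens} : puSec j (0 : Γ(M, W)) = 0 :=
  map_zero (((Scheme.Modules.pullbackPushforwardAdjunction j).unit.app M).app W).hom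

theorem puSec_eq_zero_iff (j : S ⟶ T) [IsOpenImmersion j] (M : T.Modules) {W : T.Opens} (hW : W ≤ j.opensRange)
    (m : Γ(M, W)) : puSec j m = 0 ↔ m = 0 :=
  ⟨fun h => (puSec_bijective j M hW).1 (h.trans (puSec_zero j M).symm), fun h => by rw [h, puSec_zero]⟩

theorem epi_map (j : S ⟶ T) {M L : T.Modules} (s : M ⟶ L) [Epi s] : Epi ((Scheme.Modules.pullback j).map s) := by
  haveI := (Scheme.Modules.pullbackPushforwardAdjunction j).isLeftAdjoint
  exact Functor.map_epi _ _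

theorem exists_lift_kernel {Y : Scheme.{u}} {M N : Y.Modules} (φ : M ⟶ N) {V : Y.Opens} (t : Γ(M, V)) (ht : φ.app V t = 0) :
    ∃ k : Γ(kernel φ, V), (kernel.ι φ).app V k = t :=
  QCohLib.exists_of_app_eq_zero (S := ShortComplex.mk (kernel.ι φ) φ (kernel.condition φ))
    (ShortComplex.exact_of_f_is_kernel _ (kernelIsKernel φ)) inferInstance t ht

/-- Combinations after a change of basis. -/
theorem comb_mulVec {n : ℕ} {R N : Type*} [CommRing R] [AddCommGroup N] [Module R N] (v v' : Fin n → N)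
    (G : Matrix (Fin n) (Fin n) R) (h : ∀ j, v' j = ∑ i, G i j • v i) (c : Fin n → R) :
    ∑ j, c j • v' j = ∑ i, (G.mulVec c) i • v i := by
  simp only [h, Finset.smul_sum, smul_smul, Matrix.mulVec, dotProduct, Finset.sum_smul]
  rw [Finset.sum_comm]
  exact Finset.sum_congr rfl fun i _ => Finset.sum_congr rfl fun j _ => by rw [mul_comm]

theorem finLocFree_of_rank {M : T.Modules} {n : ℕ} (hM : FlatMod.IsFinLocFreeOfRank n M) :
    FlatMod.IsFinLocFree M := fun x => let ⟨U, h⟩ := hM x; ⟨U, n, h⟩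

theorem rank_of_iso {M N : T.Modules} {n : ℕ} (hM : FlatMod.IsFinLocFreeOfRank n M) (e : N ≅ M) :
    FlatMod.IsFinLocFreeOfRank n N := fun x => by
  obtain ⟨U, hU, ⟨t⟩⟩ := hM x
  exact ⟨U, hU, ⟨(Scheme.Modules.restrictFunctor U.ι).mapIso e ≪≫ t⟩⟩

/-- A module with frames of length `n` is locally free of rank `n`. -/
theorem rank_of_frames {M : T.Modules} {n : ℕ}
    (h : ∀ x : T, ∃ (U : T.Opens) (e : Fin n → Γ(M, U)), x ∈ U ∧ ProjFormLib.IsFrame M e) :
    FlatMod.IsFinLocFreeOfRank n M := fun x => by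
  obtain ⟨U, e, hx, he⟩ := h x
  obtain ⟨φ⟩ := CohCmpLib.exists_iso_freeMod_of_frame
    (CohCmpLib.isFrame_puSecLE U.ι he (V := (⊤ : (U : Scheme.{u}).Opens)) (fun z _ => z.2))
  exact ⟨U, hx, ⟨(Scheme.Modules.restrictFunctorIsoPullback U.ι).app M ≪≫ φ⟩⟩

end GrassSch

end
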