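import Groth.Agent.GrassLib.Rep
import Mathlib.AlgebraicGeometry.AffineSpace
import Mathlib.AlgebraicGeometry.Morphisms.Smooth
import Mathlib.RingTheory.Smooth.StandardSmoothOfFree
import Mathlib.RingTheory.Kaehler.Polynomial
import Mathlib.RingTheory.TensorProduct.MvPolynomial
import Mathlib.LinearAlgebra.StdBasis

/-!
# The Grassmannian of a free module: affine space charts and smoothness
-/

set_option autoImplicit false
set_option linter.style.haveILetI false
set_option linter.unusedSectionVars false

universe u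

open TensorProduct CategoryTheory AlgebraicGeometry MvPolynomial

noncomputable section

namespace GrassLib

variable {R : Type u} [CommRing R] {k : ℕ}

theorem isStandardSmooth_mvPolynomial (R : Type u) [CommRing R] (σ : Type u) [Finite σ] (m : ℕ) (e : σ ≃ Fin m) :
    Algebra.IsStandardSmoothOfRelativeDimension m R (MvPolynomial σ R) := by
  haveI hs : Algebra.IsStandardSmooth ℤ (MvPolynomial (Fin m) ℤ) :=
    Algebra.IsStandardSmooth.of_basis_kaehlerDifferential (KaehlerDifferential.mvPolynomialBasis ℤ (Fin m)) (by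
      rintro _ ⟨i, rfl⟩
      exact ⟨X i, (KaehlerDifferential.mvPolynomialBasis_apply ℤ (Fin m) i).symm⟩)
  haveI : Algebra.IsStandardSmoothOfRelativeDimension m ℤ (MvPolynomial (Fin m) ℤ) := by
    rw [Algebra.IsStandardSmoothOfRelativeDimension.iff_of_isStandardSmooth,
      rank_eq_card_basis (KaehlerDifferential.mvPolynomialBasis ℤ (Fin m)), Fintype.card_fin]
  exact Algebra.IsStandardSmoothOfRelativeDimension.of_algEquiv m
    ((MvPolynomial.algebraTensorAlgEquiv ℤ R).trans (MvPolynomial.renameEquiv R e.symm))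

/-- Over a field every point lies in a chart indexed by elements of a generating set. -/
theorem exists_isIn_of_span {M : Type u} [AddCommGroup M] [Module R M] {S : Set M} (hS : Submodule.span R S = ⊤)
    {K : Type u} [Field K] [Algebra R K] (N : Pt R M k K) : ∃ x : Fin k → M, (∀ j, x j ∈ S) ∧ IsIn x N := by
  classical
  let W : Set ((K ⊗[R] M) ⧸ N.toSubmodule) := (fun m : M => N.toSubmodule.mkQ (1 ⊗ₜ[R] m)) '' S
  have hm : ∀ m : M, N.toSubmodule.mkQ (1 ⊗ₜ[R] m) ∈ Submodule.span K W := fun m => by
    have hmem : m ∈ Submodule.span R S := by rw [hS]; trivial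
    induction hmem using Submodule.span_induction with
    | mem m hm => exact Submodule.subset_span ⟨m, hm, rfl⟩
    | zero => rw [tmul_zero, map_zero]; exact zero_mem _
    | add a b _ _ ha hb => rw [tmul_add, map_add]; exact add_mem ha hb
    | smul r a _ ha =>
      rw [tmul_smul, ← algebraMap_smul K r ((1 : K) ⊗ₜ[R] a), map_smul]
      exact Submodule.smul_mem _ _ ha
  have hspan : Submodule.span K W = ⊤ := by
    rw [eq_top_iff]
    rintro y -
    obtain ⟨y, rfl⟩ := Submodule.mkQ_surjective _ y
    induction y using TensorProduct.induction_on with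
    | zero => rw [map_zero]; exact zero_mem _
    | tmul c m =>
      rw [show c ⊗ₜ[R] m = c • ((1 : K) ⊗ₜ[R] m) by rw [smul_tmul', smul_eq_mul, mul_one], map_smul]
      exact Submodule.smul_mem _ _ (hm m)
    | add y z hy hz => rw [map_add]; exact add_mem hy hz
  have hk : Module.finrank K ((K ⊗[R] M) ⧸ N.toSubmodule) = k := by
    have := N.rankAtStalk_eq ⟨⊥, Ideal.isPrime_bot⟩
    rwa [Module.rankAtStalk_eq_finrank_of_free] at this
  obtain ⟨v, hv, hv', -⟩ := Submodule.exists_fun_fin_finrank_span_eq K W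
  have hd : Module.finrank K (Submodule.span K W) = k := by rw [hspan, finrank_top, hk]
  choose m hm hm' using hv
  refine ⟨fun j => m (Fin.cast hd.symm j), fun j => hm _, ?_⟩
  rw [IsIn, ← LinearMap.range_eq_top, psi, Fintype.range_linearCombination, eq_top_iff]
  refine (hv'.trans hspan).ge.trans ?_
  refine Submodule.span_mono ?_
  rintro _ ⟨i, rfl⟩
  exact ⟨Fin.cast hd i, by simpa using hm' i⟩

theorem injective_of_isIn {M : Type u} [AddCommGroup M] [Module R M] {K : Type u} [Field K] [Algebra R K]
    {x : Fin k → M} {N : Pt R M k K} (h : IsIn x N) : Function.Injective x := fun i j hij => by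
  by_contra hne
  have h1 : psi x N (Pi.single i 1) = psi x N (Pi.single j 1) := by simp [psi, hij]
  exact hne (by simpa [Pi.single_apply, eq_comm] using congrFun ((bijective_psi h).1 h1) i)

variable {n : ℕ}

variable (R) in
/-- The tuple of standard basis vectors of an injection. -/
abbrev stdTuple (σ : Fin k ↪ Fin n) : Fin k → (Fin n → R) := fun j => Pi.single (σ j) 1

/-- The free coordinates of a chart. -/
abbrev FreeIdx (σ : Fin k ↪ Fin n) : Type := {i : Fin n // i ∉ Set.range σ} × Fin k

theorem card_freeIdx (σ : Fin k ↪ Fin n) : Fintype.card (FreeIdx σ) = k * (n - k) := by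
  classical
  rw [Fintype.card_prod, Fintype.card_fin, Fintype.card_subtype_compl,
    Fintype.card_fin, show Fintype.card {i // i ∈ Set.range σ} = k from
      (Fintype.card_congr (Equiv.ofInjective σ σ.injective)).symm.trans (Fintype.card_fin k), mul_comm]

open Classical in
/-- The coordinates of the free chart. -/
def freeCoord (σ : Fin k ↪ Fin n) : (Fin n → R) →ₗ[R] (Fin k → MvPolynomial (ULift.{u} (FreeIdx σ)) R) :=
  (Pi.basisFun R (Fin n)).constr R fun i j =>
    if h : i ∈ Set.range σ then (if σ j = i then 1 else 0) else X ⟨(⟨i, h⟩, j)⟩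

theorem normal_freeCoord (σ : Fin k ↪ Fin n) : Normal (stdTuple R σ) (freeCoord σ) := fun a => funext fun j => by
  classical
  rw [show stdTuple R σ a = Pi.basisFun R (Fin n) (σ a) from (Pi.basisFun_apply R (Fin n) (σ a)).symm,
    freeCoord, Module.Basis.constr_basis, dif_pos (Set.mem_range_self a)]
  simp [Pi.single_apply]

/-- A chart of a free module is a polynomial ring. -/
theorem nonempty_chart_equiv (σ : Fin k ↪ Fin n) :
    Nonempty (ChartRing R (Fin n → R) (stdTuple R σ) ≃ₐ[R] MvPolynomial (ULift.{u} (Fin (k * (n - k)))) R) := by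
  classical
  let g : ChartRing R (Fin n → R) (stdTuple R σ) →ₐ[R] MvPolynomial (ULift.{u} (FreeIdx σ)) R :=
    chartLift (normal_freeCoord σ)
  let h : MvPolynomial (ULift.{u} (FreeIdx σ)) R →ₐ[R] ChartRing R (Fin n → R) (stdTuple R σ) :=
    aeval fun p => chartVar (stdTuple R σ) (Pi.single p.down.1.1 1) p.down.2
  have hgh : g.comp h = AlgHom.id R _ := MvPolynomial.algHom_ext fun ⟨⟨⟨i, hi⟩, j⟩⟩ => by
    show g (h (X _)) = X _
    rw [show h (X ⟨(⟨i, hi⟩, j)⟩) = chartVar (stdTuple R σ) (Pi.single i 1) j from aeval_X _ _]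
    show chartLift _ _ = _
    rw [chartLift_var, ← Pi.basisFun_apply, freeCoord, Module.Basis.constr_basis, dif_neg hi]
  have hhg : h.comp g = AlgHom.id R _ := chartHom_ext ((Pi.basisFun R (Fin n)).ext fun i => funext fun j => by
    show h (g (chartVar _ _ j)) = chartVar _ _ j
    rw [show g (chartVar (stdTuple R σ) (Pi.basisFun R (Fin n) i) j) = freeCoord σ (Pi.basisFun R (Fin n) i) j from
      chartLift_var _ _ _, freeCoord, Module.Basis.constr_basis, Pi.basisFun_apply]
    by_cases hi : i ∈ Set.range σ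
    · obtain ⟨a, rfl⟩ := hi
      rw [dif_pos (Set.mem_range_self a)]
      have h2 := congrFun (normal_univCoord (R := R) (stdTuple R σ) a) j
      change chartVar (stdTuple R σ) (Pi.single (σ a) 1) j = _ at h2
      rw [h2]
      simp [Pi.single_apply, apply_ite h]
    · rw [dif_neg hi]
      exact aeval_X _ _)
  refine ⟨(AlgEquiv.ofAlgHom g h hgh hhg).trans (renameEquiv R ?_)⟩
  exact Equiv.ulift.trans ((Fintype.equivFinOfCardEq (card_freeIdx σ)).trans Equiv.ulift.symm)

namespace RepPair

variable (P : RepPair R (Fin n → R) k)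

theorem exists_std_chart_iso (σ : Fin k ↪ Fin n) :
    ∃ i : (P.chartOpen (stdTuple R σ)).toScheme ≅ Spec (CommRingCat.of (MvPolynomial (ULift.{u} (Fin (k * (n - k)))) R)),
      i.hom ≫ Spec.map (CommRingCat.ofHom C) = (P.chartOpen (stdTuple R σ)).ι ≫ P.X.hom := by
  obtain ⟨i, hi, -⟩ := P.exists_chart_iso (stdTuple R σ)
  obtain ⟨q⟩ := nonempty_chart_equiv (R := R) σ
  refine ⟨i ≪≫ Scheme.Spec.mapIso q.symm.toRingEquiv.toCommRingCatIso.op, ?_⟩
  rw [← hi, Iso.trans_hom, Category.assoc]
  refine congrArg (i.hom ≫ ·) ?_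
  show Spec.map _ ≫ Spec.map _ = Spec.map _
  rw [← Spec.map_comp]
  congr 1
  ext r
  exact q.symm.commutes r

theorem iSup_std_chart : ⨆ σ : Fin k ↪ Fin n, P.chartOpen (stdTuple R σ) = ⊤ := by
  refine top_le_iff.1 fun t _ => TopologicalSpace.Opens.mem_iSup.2 ?_
  obtain ⟨x, hxS, hx⟩ := P.exists_mem_chartOpen {m | ∃ i, m = Pi.single i 1}
    (fun K _ _ N => by
      obtain ⟨x, hxS, hx⟩ := exists_isIn_of_span (Pi.basisFun R (Fin n)).span_eq N
      exact ⟨x, fun j => by obtain ⟨i, hi⟩ := hxS j; exact ⟨i, by rw [← hi, Pi.basisFun_apply]⟩, hx⟩) t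
  choose s hs using hxS
  have hxe : x = fun j => Pi.single (s j) 1 := funext hs
  obtain ⟨A, a, p, rfl, hp⟩ := hx
  have hin : IsIn x (Module.Grassmannian.map (IsScalarTower.toAlgHom R A p.asIdeal.ResidueField) (P.fam.val A a)) := by
    rw [isIn_map_iff]
    refine (Ideal.eq_bot_or_top _).resolve_left fun h => hp fun r hr => ?_
    rw [← Ideal.algebraMap_residueField_eq_zero]
    exact (Ideal.map_eq_bot_iff_le_ker _).1 h hr
  have hinj : Function.Injective s := fun i j hij => injective_of_isIn hin (by rw [hxe]; simp [hij])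
  exact ⟨⟨s, hinj⟩, by rw [show stdTuple R ⟨s, hinj⟩ = x from hxe.symm]; exact ⟨A, a, p, rfl, hp⟩⟩

theorem smoothOfRelativeDimension : SmoothOfRelativeDimension (k * (n - k)) P.X.hom := by
  rw [IsZariskiLocalAtSource.iff_of_iSup_eq_top (P := @SmoothOfRelativeDimension (k * (n - k))) _ P.iSup_std_chart]
  intro σ
  obtain ⟨i, hi⟩ := P.exists_std_chart_iso σ
  rw [← hi, MorphismProperty.cancel_left_of_respectsIso (P := @SmoothOfRelativeDimension (k * (n - k))),
    HasRingHomProperty.Spec_iff (P := @SmoothOfRelativeDimension (k * (n - k)))]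
  haveI := isStandardSmooth_mvPolynomial R (ULift.{u} (Fin (k * (n - k)))) _ Equiv.ulift
  exact RingHom.locally_of RingHom.isStandardSmoothOfRelativeDimension_respectsIso _
    ((RingHom.isStandardSmoothOfRelativeDimension_algebraMap _).mpr inferInstance)

end RepPair

end GrassLib

end
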