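import Groth.Agent.GrassLib.Plucker
import Mathlib.AlgebraicGeometry.Morphisms.ClosedImmersion

/-!
# The Plücker morphism is a closed immersion
-/

set_option autoImplicit false
set_option linter.style.haveILetI false
set_option linter.unusedSectionVars false

universe u

open TensorProduct CategoryTheory CategoryTheory.Limits AlgebraicGeometry TopologicalSpace
open ChowLib (PZ Dplus pt toSpecOf toPZ poLift)

noncomputable section

namespace GrassLib

namespace RepPair

variable {R : Type u} [CommRing R] {n q : ℕ} (hq : q ≤ n) (P : RepPair R (Fin n → R) q)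

theorem sp_eq_toSpecOf (A : CommAlgCat.{u} R) :
    sp A = toSpecOf (((Scheme.ΓSpecIso (CommRingCat.of A)).inv.hom).comp (algebraMap R A)) := by
  rw [ChowLib.toSpecOf, CommRingCat.ofHom_comp, Spec.map_comp, CommRingCat.ofHom_hom,
    ← Scheme.isoSpec_hom, Scheme.isoSpec_Spec_hom, ← Category.assoc, ← Spec.map_comp, Iso.inv_hom_id,
    Spec.map_id, Category.id_comp]

theorem exists_chartPt (s : PlIdx n q) :
    ∃ (a : APt P.fam.g (chartAlg R (tup R s)))
      (e : Spec (CommRingCat.of (chartAlg R (tup R s))) ≅ (P.chartOpen (tup R s)).toScheme),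
      e.hom ≫ (P.chartOpen (tup R s)).ι = a.hom ∧ P.fam.val _ a = chartUniv R (tup R s) := by
  obtain ⟨i, hi, hif⟩ := P.exists_chart_iso (tup R s)
  let a : APt P.fam.g (chartAlg R (tup R s)) := ⟨i.inv ≫ (P.chartOpen (tup R s)).ι, by
    show (_ ≫ _) ≫ P.X.hom = _
    rw [Category.assoc, ← hi, Iso.inv_hom_id_assoc]⟩
  refine ⟨a, i.symm, rfl, ?_⟩
  let b : APt (chartFam (R := R) (tup R s)).g (chartAlg R (tup R s)) := ⟨𝟙 _, Category.id_comp _⟩
  have h1 : (chartFam R (tup R s)).map b.hom = P.fam.map a.hom := by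
    show (chartFam R (tup R s)).map (𝟙 _) = P.fam.map (i.inv ≫ (P.chartOpen (tup R s)).ι)
    rw [← Fam.map_map, ← hif, Fam.map_map, Iso.inv_hom_id]
  rw [← Fam.val_eq_of_map_eq b a h1, chartFam_val (tup R s) (AlgHom.id R _) b (Spec.map_id _)]
  exact Module.Grassmannian.map_id _ _ _

include hq in
/-- The Plücker morphism over the base is a closed immersion. -/
theorem exists_plucker : ∃ c : P.X.left ⟶ CohB1.ProjSpaceOver (n.choose q - 1) (base R),
    IsClosedImmersion c ∧ c ≫ CohB1.ProjSpaceOver.toBase (n.choose q - 1) (base R) = P.X.hom := by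
  classical
  obtain ⟨c, hc⟩ := P.exists_plucker_toPZ hq
  refine ⟨poLift c P.X.hom, ?_, ChowLib.poLift_toBase _ _⟩
  have hpre : ∀ t : PlIdx n q, c ⁻¹ᵁ Dplus (plNum hq t) = P.chartOpen (tup R t) := fun t => by
    refine TopologicalSpace.Opens.ext (Set.ext fun x => ?_)
    obtain ⟨s, hs⟩ := Opens.mem_iSup.1 (show x ∈ ⨆ s, P.chartOpen (tup R s) by rw [P.iSup_tup_chart]; trivial)
    obtain ⟨a, e, he, hv⟩ := P.exists_chartPt s
    have hin : IsIn (tup R s) (P.fam.val _ a) := hv ▸ isIn_chartPt _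
    let p : PrimeSpectrum (chartAlg R (tup R s)) := e.inv ⟨x, hs⟩
    have hx : a.hom p = x := by
      rw [← he, Scheme.Hom.comp_apply]
      show (P.chartOpen (tup R s)).ι (e.hom (e.inv ⟨x, hs⟩)) = x
      rw [← Scheme.Hom.comp_apply e.inv, Iso.inv_hom_id]
      rfl
    rw [← hx]
    show a.hom p ∈ c ⁻¹ᵁ Dplus (plNum hq t) ↔ a.hom p ∈ locus (tup R t) P.fam
    rw [mem_locus_iff]
    have h1 : a.hom ⁻¹ᵁ (c ⁻¹ᵁ Dplus (plNum hq t)) = PrimeSpectrum.basicOpen (plk hq hin (plNum hq t)) := by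
      rw [← Scheme.Hom.comp_preimage, hc _ a s hin]
      exact (ChowLib.pt_preimage _ _ _ _).trans (basicOpen_eq_of_affine _)
    have h2 : a.hom p ∈ c ⁻¹ᵁ Dplus (plNum hq t) ↔ plk hq hin (plNum hq t) ∉ p.asIdeal := by
      show p ∈ a.hom ⁻¹ᵁ (c ⁻¹ᵁ Dplus (plNum hq t)) ↔ _
      rw [h1]
      exact Iff.rfl
    rw [h2]
    let φ : chartAlg R (tup R s) →ₐ[R] p.asIdeal.ResidueField := IsScalarTower.toAlgHom R _ _
    have h3 : IsIn (tup R t) (Module.Grassmannian.map φ (P.fam.val _ a)) ↔ plk hq hin (plNum hq t) ∉ p.asIdeal := by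
      rw [isIn_iff_isUnit_plk hq (isIn_map φ hin), plk_map hq φ hin, isUnit_iff_ne_zero]
      exact not_congr Ideal.algebraMap_residueField_eq_zero
    rw [← h3, isIn_map_iff]
    rw [← not_iff_comm.1 (Iff.rfl (a := ¬ (obstr (tup R t) (P.fam.val _ a)).map φ.toRingHom = ⊤))]
    refine not_congr ⟨fun h r hr => ?_, fun h htop => ?_⟩
    · rw [← Ideal.algebraMap_residueField_eq_zero]
      exact (Ideal.map_eq_bot_iff_le_ker _).1 ((Ideal.eq_bot_or_top _).resolve_right h) hr
    · have h5 : (obstr (tup R t) (P.fam.val _ a)).map φ.toRingHom ≤ ⊥ := Ideal.map_le_iff_le_comap.2 fun r hr => by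
        show algebraMap _ p.asIdeal.ResidueField r = 0
        exact Ideal.algebraMap_residueField_eq_zero.2 (h hr)
      exact top_ne_bot (htop.symm.trans (le_bot_iff.1 h5))
  let Q : Fin (n.choose q - 1 + 1) → (CohB1.ProjSpaceOver (n.choose q - 1) (base R)).Opens := fun j =>
    toPZ _ _ ⁻¹ᵁ Dplus j
  refine IsZariskiLocalAtTarget.of_iSup_eq_top (P := @IsClosedImmersion) Q ?_ fun j => ?_
  · rw [← Scheme.Hom.preimage_iSup, ChowLib.iSup_Dplus]
    rfl
  obtain ⟨s, rfl⟩ := (plEquiv hq).symm.surjective j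
  obtain ⟨a, e, he, hv⟩ := P.exists_chartPt s
  have hin : IsIn (tup R s) (P.fam.val _ a) := hv ▸ isIn_chartPt _
  have hU : poLift c P.X.hom ⁻¹ᵁ Q (plNum hq s) = P.chartOpen (tup R s) := by
    show poLift c P.X.hom ⁻¹ᵁ (toPZ _ _ ⁻¹ᵁ Dplus (plNum hq s)) = _
    rw [← Scheme.Hom.comp_preimage, ChowLib.poLift_toPZ, hpre]
  let j' := e ≪≫ P.X.left.isoOfEq hU.symm
  have hj' : j'.hom ≫ (poLift c P.X.hom ⁻¹ᵁ Q (plNum hq s)).ι = a.hom := by
    rw [Iso.trans_hom, Category.assoc, Scheme.isoOfEq_hom_ι, he]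
  show IsClosedImmersion (poLift c P.X.hom ∣_ Q (plNum hq s))
  rw [← MorphismProperty.cancel_left_of_respectsIso (P := @IsClosedImmersion) j'.hom]
  let g := j'.hom ≫ (poLift c P.X.hom ∣_ Q (plNum hq s))
  have hg : g ≫ (Q (plNum hq s)).ι = a.hom ≫ poLift c P.X.hom := by
    rw [Category.assoc, morphismRestrict_ι, ← Category.assoc, hj']
  haveI : IsAffine (Q (plNum hq s)).toScheme := by
    haveI : IsAffineHom (specULiftZIsTerminal.from (base R)) := inferInstance
    haveI : IsAffineHom (toPZ (n.choose q - 1) (base R)) :=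
      MorphismProperty.pullback_fst (P := @IsAffineHom) _ _ this
    exact (ChowLib.isAffineOpen_Dplus _).preimage (toPZ (n.choose q - 1) (base R))
  refine IsClosedImmersion.of_surjective_of_isAffine g ?_
  let C := chartAlg R (tup R s)
  let T : Subring (C : Type u) := (g.appTop.hom.range).comap (Scheme.ΓSpecIso (CommRingCat.of C)).inv.hom
  suffices hT : ∀ x : C, x ∈ T by
    intro y
    obtain ⟨z, hz⟩ := hT ((Scheme.ΓSpecIso (CommRingCat.of C)).hom y)
    exact ⟨z, hz.trans (congr($((Scheme.ΓSpecIso (CommRingCat.of C)).hom_inv_id) y))⟩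
  have hbase : ∀ r : R, algebraMap R C r ∈ T := fun r => by
    obtain ⟨ψ, hψ⟩ := ChowLib.toSpecOf_surjective ((Q (plNum hq s)).ι ≫ CohB1.ProjSpaceOver.toBase _ (base R))
    have h1 : g ≫ toSpecOf ψ = sp C := by
      rw [hψ, ← Category.assoc, hg, Category.assoc, ChowLib.poLift_toBase]
      exact a.over
    rw [ChowLib.comp_toSpecOf, sp_eq_toSpecOf] at h1
    exact ⟨ψ r, congr($(ChowLib.toSpecOf_injective h1) r)⟩
  have hplk : ∀ j, plk hq hin j ∈ T := fun j => by
    have hr : Set.range ((Q (plNum hq s)).ι ≫ toPZ _ (base R)) ⊆ Set.range (ChowLib.chart.{u} (plNum hq s)) := by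
      rintro _ ⟨z, rfl⟩
      have hz : toPZ _ (base R) ((Q (plNum hq s)).ι z) ∈ Dplus (plNum hq s) := z.2
      rw [← ChowLib.opensRange_chart] at hz
      exact hz
    obtain ⟨ψ, hψ⟩ := ChowLib.toSpecOf_surjective (IsOpenImmersion.lift _ _ hr)
    have h1 : (g ≫ toSpecOf ψ) ≫ ChowLib.chart (plNum hq s) = plPt hq hin := by
      rw [hψ, Category.assoc, IsOpenImmersion.lift_fac, ← Category.assoc, hg, Category.assoc, ChowLib.poLift_toPZ]
      exact hc _ a s hin
    rw [plPt, ChowLib.pt, ChowLib.comp_toSpecOf] at h1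
    have h2 := ChowLib.toSpecOf_injective ((cancel_mono (ChowLib.chart (plNum hq s))).1 h1)
    refine ⟨ψ (ChowLib.coordRing (plNum hq s) j), ?_⟩
    have h4 := congr($h2 (ChowLib.coordRing (plNum hq s) j))
    refine h4.trans ?_
    have h3 := ChowLib.awayEval_coord (fun j => (Scheme.ΓSpecIso (CommRingCat.of C)).inv (plk hq hin j))
      (plNum hq s) j (by simp [plk_self])
    have hone : (Scheme.ΓSpecIso (CommRingCat.of C)).inv (plk hq hin (plNum hq s)) = 1 := by
      rw [plk_self, map_one]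
    exact ((mul_one _).symm.trans (congrArg (_ * ·) hone.symm)).trans h3
  intro x
  have hplk' : ∀ j, plk hq (isIn_chartPt (normal_univCoord (R := R) (tup R s))) j ∈ T := by
    have : ∀ {N : Pt R (Fin n → R) q C} (h : IsIn (tup R s) N), N = chartUniv R (tup R s) →
        ∀ j, plk hq (isIn_chartPt (normal_univCoord (R := R) (tup R s))) j = plk hq h j := by
      rintro N h rfl j
      rfl
    exact fun j => this hin hv j ▸ hplk j
  have hx : x ∈ Algebra.adjoin R (Set.range (plk hq (isIn_chartPt (normal_univCoord (R := R) (tup R s))))) := by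
    rw [adjoin_plk_eq_top hq s]
    trivial
  induction hx using Algebra.adjoin_induction with
  | mem y hy => obtain ⟨j, rfl⟩ := hy; exact hplk' j
  | algebraMap r => exact hbase r
  | add y z _ _ hy hz => exact T.add_mem hy hz
  | mul y z _ _ hy hz => exact T.mul_mem hy hz

end RepPair

end GrassLib

end

noncomputable section

namespace GrassLib

open CategoryTheory AlgebraicGeometry

/-- Points of isomorphic modules. -/
def ptEquiv {R : Type u} [CommRing R] {M₁ M₂ : Type u} [AddCommGroup M₁] [Module R M₁] [AddCommGroup M₂]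
    [Module R M₂] {k : ℕ} (v : M₁ ≃ₗ[R] M₂) (A : Type u) [CommRing A] [Algebra R A] : Pt R M₂ k A ≃ Pt R M₁ k A :=
  Equiv.ofBijective (qPt (v := v.toLinearMap) v.surjective) ⟨fun _ _ h => qPt_injective _ h, fun N => by
    refine ⟨pushPt v.surjective N (ker_baseChange_le v.surjective fun m hm => ?_), qPt_pushPt _ _ _⟩
    rw [show m = 0 from v.map_eq_zero_iff.1 hm, TensorProduct.tmul_zero]
    exact zero_mem _⟩

/-- Transport of a representing pair along an isomorphism of modules. -/
def RepPair.transport {R : Type u} [CommRing R] {M₁ M₂ : Type u} [AddCommGroup M₁] [Module R M₁] [AddCommGroup M₂]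
    [Module R M₂] {k : ℕ} (v : M₁ ≃ₗ[R] M₂) (P : RepPair R M₁ k) : RepPair R M₂ k where
  X := P.X
  e A := (P.e A).trans (ptEquiv v A).symm
  he A B φ g g' hg := by
    apply (ptEquiv v B).injective
    show ptEquiv v B ((ptEquiv v B).symm (P.e B g')) =
      qPt (v := v.toLinearMap) v.surjective (Module.Grassmannian.map φ ((ptEquiv v A).symm (P.e A g)))
    rw [Equiv.apply_symm_apply, qPt_map, P.he A B φ g g' hg]
    congr 1
    exact ((ptEquiv v A).apply_symm_apply _).symm

end GrassLib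

end
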