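import Groth.Agent.GrassLib.SchBase
import Groth.Prelude.Def_GrassD

/-!
# Composing base changes of quotients
-/

set_option autoImplicit false
set_option linter.style.haveILetI false
set_option linter.unusedSectionVars false

universe u

open AlgebraicGeometry CategoryTheory CategoryTheory.Limits Opposite TopologicalSpace
open KFlatLib (pb puSec)

noncomputable section

namespace GrassSch

variable {X F F' T : Scheme.{u}} {π : F ⟶ X} {π' : F' ⟶ X} {E : X.Modules}

theorem quotBC_app {Q : F.Modules} (q : pb π E ⟶ Q) {h : T ⟶ F} {g : T ⟶ X} (hg : h ≫ π = g) {L : T.Modules}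
    (i : pb h Q ⟶ L) {W : X.Opens} (m : Γ(E, W)) :
    (Grass.quotBC hg q ≫ i).app (g ⁻¹ᵁ W) (puSec g m) = L.presheaf.map (eqToHom (by rw [← hg]; rfl)).op
      (i.app (h ⁻¹ᵁ (π ⁻¹ᵁ W)) (puSec h (q.app (π ⁻¹ᵁ W) (puSec π m)))) := by
  rw [show Grass.quotBC hg q ≫ i = compQ q hg i by simp only [compQ, Grass.quotBC, Category.assoc]]
  exact compQ_app q hg i m

theorem quotBC_comp_map {Q Q₁ : F.Modules} (q : pb π E ⟶ Q) (t : Q ⟶ Q₁) {h : T ⟶ F} {g : T ⟶ X} (hg : h ≫ π = g) :
    Grass.quotBC hg (q ≫ t) = Grass.quotBC hg q ≫ (Scheme.Modules.pullback h).map t := by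
  simp only [Grass.quotBC, Functor.map_comp, Category.assoc]

theorem epi_quotBC {Q : F.Modules} (q : pb π E ⟶ Q) [Epi q] {h : T ⟶ F} {g : T ⟶ X} (hg : h ≫ π = g) :
    Epi (Grass.quotBC hg q) := by
  haveI := Grass.epi_pullback_map h q
  exact epi_comp' inferInstance (epi_comp' inferInstance inferInstance)

set_option maxHeartbeats 2000000 in
/-- Base changing twice. -/
theorem quotBC_trans {Q : F.Modules} (q : pb π E ⟶ Q) {c : F' ⟶ F} (w : c ≫ π = π') {k : T ⟶ F'} {g : T ⟶ F}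
    (hg : k ≫ c = g) {gX : T ⟶ X} (hk : k ≫ π' = gX) (hgh : g ≫ π = gX) :
    Grass.quotBC hk (Grass.quotBC w q) ≫ (Scheme.Modules.pullbackComp k c).hom.app Q ≫
      (Scheme.Modules.pullbackCongr hg).hom.app Q = Grass.quotBC hgh q := by
  subst w hg hgh
  rw [show (Scheme.Modules.pullbackCongr (rfl : k ≫ c = k ≫ c)).hom.app Q = 𝟙 _ from by
    simp [Scheme.Modules.pullbackCongr], Category.comp_id]
  refine Eq.trans ?_ (Category.comp_id (Grass.quotBC (rfl : (k ≫ c) ≫ π = (k ≫ c) ≫ π) q))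
  refine hom_ext_pu _ _ _ fun W m => ?_
  refine (quotBC_app _ hk _ m).trans (Eq.trans ?_ (quotBC_app q rfl (𝟙 _) m).symm)
  have h1 : (Grass.quotBC (rfl : c ≫ π = c ≫ π) q).app ((c ≫ π) ⁻¹ᵁ W) (puSec (c ≫ π) m) =
      puSec c (q.app (π ⁻¹ᵁ W) (puSec π m)) := by
    refine (congrArg (fun φ => Scheme.Modules.Hom.app φ _ (puSec _ m))
      (Category.comp_id (Grass.quotBC (rfl : c ≫ π = c ≫ π) q))).symm.trans ((quotBC_app q rfl (𝟙 _) m).trans ?_)
    exact congr($((pb c Q).presheaf.map_id _) (puSec c (q.app (π ⁻¹ᵁ W) (puSec π m))))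
  rw [h1]
  generalize q.app (π ⁻¹ᵁ W) (puSec π m) = x
  have h2 : ((Scheme.Modules.pullbackComp k c).hom.app Q).app (k ⁻¹ᵁ (c ⁻¹ᵁ (π ⁻¹ᵁ W))) (puSec k (puSec c x)) =
      puSec (k ≫ c) x := CohCmpLib.pullbackComp_puSec k c Q x
  show (pb (k ≫ c) Q).presheaf.map _ (((Scheme.Modules.pullbackComp k c).hom.app Q).app (k ⁻¹ᵁ (c ⁻¹ᵁ (π ⁻¹ᵁ W)))
    (puSec k (puSec c x))) = (pb (k ≫ c) Q).presheaf.map _ (puSec (k ≫ c) x)
  rw [h2]
  rfl

/-- Base changing a composite quotient. -/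
theorem quotBC_quotBC {Q : F.Modules} (q : pb π E ⟶ Q) {Q₂ : F'.Modules} {c : F' ⟶ F} (t : pb c Q ⟶ Q₂)
    (w : c ≫ π = π') {k : T ⟶ F'} {g : T ⟶ F} (hg : k ≫ c = g) (hk : k ≫ π' = g ≫ π) :
    Grass.quotBC hk (Grass.quotBC w q ≫ t) =
      Grass.quotBC (rfl : g ≫ π = g ≫ π) q ≫ Grass.quotBC hg t := by
  rw [quotBC_comp_map]
  refine Eq.trans ?_ (congrArg (fun u => u ≫ Grass.quotBC hg t) (quotBC_trans q w hg hk rfl))
  simp only [Category.assoc]
  simp only [Iso.hom_inv_id_app_assoc]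

/-- The last step of a flag is a Grassmannian over the truncated flag scheme. -/
theorem isGrass_last {m : ℕ} {n : Fin (m + 2) → ℕ} {Q : Fin (m + 1) → F.Modules} {q : ∀ i, pb π E ⟶ Q i}
    (hF : Grass.IsFlag π E (fun i => n (Fin.castSucc i)) Q q) {Q' : Fin (m + 2) → F'.Modules}
    {q' : ∀ i, pb π' E ⟶ Q' i} (hF' : Grass.IsFlag π' E n Q' q') (c : F' ⟶ F) (w : c ≫ π = π')
    (ι : ∀ i : Fin (m + 1), pb c (Q i) ≅ Q' (Fin.castSucc i))
    (hι : ∀ i, Grass.quotBC w (q i) ≫ (ι i).hom = q' (Fin.castSucc i))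
    (t : Q' (Fin.castSucc (Fin.last m)) ⟶ Q' (Fin.last (m + 1)))
    (ht : q' (Fin.castSucc (Fin.last m)) ≫ t = q' (Fin.last (m + 1))) :
    Grass.IsGrass c (Q (Fin.last m)) (n (Fin.last (m + 1))) (Q' (Fin.last (m + 1))) ((ι (Fin.last m)).hom ≫ t) where
  rank := hF'.rank _
  epi := by
    haveI := hF'.epi (Fin.last (m + 1))
    haveI : Epi t := epi_of_epi_fac ht
    exact epi_comp' inferInstance inferInstance
  univ T g L hL s hs := by
    let L' : Fin (m + 2) → T.Modules := fun i => Fin.lastCases (motive := fun _ => T.Modules) L (fun j => pb g (Q j)) i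
    let aL : L' (Fin.last (m + 1)) ≅ L := eqToIso (Fin.lastCases_last (motive := fun _ => T.Modules))
    let a : ∀ i : Fin (m + 1), L' (Fin.castSucc i) ≅ pb g (Q i) := fun i =>
      eqToIso (Fin.lastCases_castSucc (motive := fun _ => T.Modules) i)
    let qs : ∀ i : Fin (m + 1), pb (g ≫ π) E ⟶ pb g (Q i) := fun i => Grass.quotBC (rfl : g ≫ π = g ≫ π) (q i)
    let s' : ∀ i, pb (g ≫ π) E ⟶ L' i := fun i => Fin.lastCases (motive := fun i => pb (g ≫ π) E ⟶ L' i)
      (qs (Fin.last m) ≫ s ≫ aL.inv) (fun j => qs j ≫ (a j).inv) i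
    have hs'c : ∀ i, s' (Fin.castSucc i) = qs i ≫ (a i).inv := fun i => Fin.lastCases_castSucc i
    have hs'l : s' (Fin.last (m + 1)) = qs (Fin.last m) ≫ s ≫ aL.inv := Fin.lastCases_last
    have hqs : ∀ i, Epi (qs i) := fun i => haveI := hF.epi i; epi_quotBC _ _
    have hL' : ∀ i, FlatMod.IsFinLocFreeOfRank (n i) (L' i) := by
      refine Fin.lastCases (rank_of_iso hL aL) fun j => ?_
      exact rank_of_iso (SeesawLib.isFinLocFreeOfRank_pullback g (hF.rank j)) (a j)
    have hs' : ∀ i, Epi (s' i) := by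
      refine Fin.lastCases ?_ fun j => ?_
      · rw [hs'l]
        exact epi_comp' (hqs _) (epi_comp' hs inferInstance)
      · rw [hs'c]
        exact epi_comp' (hqs _) inferInstance
    have hn : ∀ i j, i ≤ j → ∃ t : L' i ⟶ L' j, s' i ≫ t = s' j := by
      refine Fin.lastCases (fun j hj => ?_) fun i => ?_
      · obtain rfl := Fin.last_le_iff.1 hj
        exact ⟨𝟙 _, Category.comp_id _⟩
      · refine Fin.lastCases (fun _ => ?_) fun j hj => ?_
        · obtain ⟨u, hu⟩ := hF.nested i (Fin.last m) (Fin.le_last i)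
          refine ⟨(a i).hom ≫ (Scheme.Modules.pullback g).map u ≫ s ≫ aL.inv, ?_⟩
          rw [hs'c, hs'l, Category.assoc, Iso.inv_hom_id_assoc, ← Category.assoc]
          exact congrArg (· ≫ s ≫ aL.inv) ((quotBC_comp_map _ _ _).symm.trans (congrArg _ hu))
        · obtain ⟨u, hu⟩ := hF.nested i j (Fin.castSucc_le_castSucc_iff.1 hj)
          refine ⟨(a i).hom ≫ (Scheme.Modules.pullback g).map u ≫ (a j).inv, ?_⟩
          rw [hs'c, hs'c, Category.assoc, Iso.inv_hom_id_assoc, ← Category.assoc]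
          exact congrArg (· ≫ (a j).inv) ((quotBC_comp_map _ _ _).symm.trans (congrArg _ hu))
    -- the two transports
    have hq : ∀ (k : T ⟶ F') (hg : k ≫ c = g) (hk : k ≫ π' = g ≫ π) (i : Fin (m + 1)),
        Grass.quotBC hk (q' (Fin.castSucc i)) ≫ (Scheme.Modules.pullback k).map (ι i).inv ≫
          (Scheme.Modules.pullbackComp k c).hom.app (Q i) ≫ (Scheme.Modules.pullbackCongr hg).hom.app (Q i) = qs i :=
      fun k hg hk i => by
        rw [← Category.assoc, ← quotBC_comp_map, show q' (Fin.castSucc i) ≫ (ι i).inv = Grass.quotBC w (q i) by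
          rw [← hι i, Category.assoc, Iso.hom_inv_id, Category.comp_id]]
        exact quotBC_trans (q i) w hg hk rfl
    have hlast : ∀ (k : T ⟶ F') (hg : k ≫ c = g) (hk : k ≫ π' = g ≫ π),
        Grass.quotBC hk (q' (Fin.last (m + 1))) = qs (Fin.last m) ≫ Grass.quotBC hg ((ι (Fin.last m)).hom ≫ t) :=
      fun k hg hk => by
        rw [← quotBC_quotBC (q (Fin.last m)) _ w hg hk, ← Category.assoc, hι, ht]
    obtain ⟨k, ⟨hk, e, he⟩, huniq⟩ := hF'.univ T (g ≫ π) L' hL' s' hs' hn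
    have hkc : k ≫ c = g := by
      have hw : (k ≫ c) ≫ π = g ≫ π := by rw [Category.assoc, w, hk]
      let f : ∀ i, pb (k ≫ c) (Q i) ≅ pb g (Q i) := fun i =>
        ((Scheme.Modules.pullbackComp k c).app (Q i)).symm ≪≫ (Scheme.Modules.pullback k).mapIso (ι i) ≪≫
          e (Fin.castSucc i) ≪≫ a i
      have hf : ∀ i, Grass.quotBC hw (q i) ≫ (f i).hom = qs i := fun i => by
        have h1 : Grass.quotBC hk (q' (Fin.castSucc i)) ≫ (e (Fin.castSucc i)).hom ≫ (a i).hom = qs i := by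
          rw [← Category.assoc, he, hs'c, Category.assoc, Iso.inv_hom_id, Category.comp_id]
        refine Eq.trans ?_ h1
        rw [← hι i, quotBC_comp_map, ← quotBC_trans (q i) w (rfl : k ≫ c = k ≫ c) hk hw,
          show (Scheme.Modules.pullbackCongr (rfl : k ≫ c = k ≫ c)).hom.app (Q i) = 𝟙 _ from by
            simp [Scheme.Modules.pullbackCongr], Category.comp_id]
        simp only [f, Iso.trans_hom, Iso.symm_hom, Iso.app_inv, Functor.mapIso_hom, Category.assoc,
          Iso.hom_inv_id_app_assoc]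
      exact (hF.univ T (g ≫ π) _ (fun i => SeesawLib.isFinLocFreeOfRank_pullback g (hF.rank i)) qs hqs
        (fun i j hij => by
          obtain ⟨u, hu⟩ := hF.nested i j hij
          exact ⟨(Scheme.Modules.pullback g).map u, (quotBC_comp_map _ _ _).symm.trans (congrArg _ hu)⟩)).unique
        ⟨hw, f, hf⟩ ⟨rfl, fun i => Iso.refl _, fun i => Category.comp_id _⟩
    refine ⟨k, ⟨hkc, e (Fin.last (m + 1)) ≪≫ aL, ?_⟩, fun k' hk' => huniq k' ?_⟩
    · haveI := hqs (Fin.last m)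
      rw [← cancel_epi (qs (Fin.last m)), ← Category.assoc (qs (Fin.last m)), ← hlast k hkc hk, Iso.trans_hom,
        ← Category.assoc, he, hs'l]
      simp only [Category.assoc, Iso.inv_hom_id, Category.comp_id]
    · obtain ⟨hg', e', he'⟩ := hk'
      have hk2 : k' ≫ π' = g ≫ π := by rw [← w, ← Category.assoc, hg']
      refine ⟨hk2, fun i => Fin.lastCases (motive := fun i => pb k' (Q' i) ≅ L' i) (e' ≪≫ aL.symm) (fun j =>
        ((Scheme.Modules.pullback k').mapIso (ι j).symm) ≪≫ (Scheme.Modules.pullbackComp k' c).app (Q j) ≪≫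
          (Scheme.Modules.pullbackCongr hg').app (Q j) ≪≫ (a j).symm) i, Fin.lastCases ?_ fun j => ?_⟩
      · simp only [Fin.lastCases_last]
        rw [hlast k' hg' hk2, hs'l, Iso.trans_hom, Iso.symm_hom, Category.assoc,
          ← Category.assoc (Grass.quotBC hg' _), he']
      · simp only [Fin.lastCases_castSucc]
        rw [hs'c, ← hq k' hg' hk2 j]
        simp only [Iso.trans_hom, Iso.symm_hom, Iso.app_hom, Functor.mapIso_hom, Category.assoc]

end GrassSch

end
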