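import Mathlib.RingTheory.Grassmannian
import Mathlib.RingTheory.Localization.BaseChange
import Mathlib.RingTheory.Localization.Away.Basic
import Mathlib.RingTheory.LocalProperties.FinitePresentation
import Mathlib.RingTheory.Localization.Finiteness
import Mathlib.RingTheory.Flat.Localization
import Mathlib.LinearAlgebra.TensorProduct.RightExactness
import Mathlib.Algebra.Category.CommAlgCat.Basic

/-!
# Base change of points of the Grassmannian functor, and gluing on a standard cover
-/

set_option autoImplicit false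
set_option linter.style.haveILetI false
set_option linter.unusedSectionVars false

universe u v

open TensorProduct TensorProduct.AlgebraTensorModule Module

noncomputable section

namespace GrassLib

variable {R : Type u} [CommRing R] {M : Type u} [AddCommGroup M] [Module R M] {k : ℕ}
variable {A B C : Type u} [CommRing A] [Algebra R A] [CommRing B] [Algebra R B] [CommRing C] [Algebra R C]

/-- Points of the Grassmannian. -/
abbrev Pt (R : Type u) [CommRing R] (M : Type u) [AddCommGroup M] [Module R M] (k : ℕ) (A : Type u) [CommRing A]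
    [Algebra R A] : Type u := Module.Grassmannian A (A ⊗[R] M) k

/-- The map of scalars on the tensor product. -/
def mapM (f : A →ₐ[R] B) : A ⊗[R] M →ₗ[R] B ⊗[R] M := f.toLinearMap.rTensor M

@[simp] theorem mapM_tmul (f : A →ₐ[R] B) (a : A) (m : M) : mapM f (a ⊗ₜ[R] m) = f a ⊗ₜ[R] m := rfl

theorem mapM_comp (g : B →ₐ[R] C) (f : A →ₐ[R] B) (x : A ⊗[R] M) : mapM (g.comp f) x = mapM g (mapM f x) := by
  induction x using TensorProduct.induction_on with
  | zero => simp
  | tmul a m => rfl
  | add x y hx hy => simp [map_add, hx, hy]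

theorem mapM_smul (f : A →ₐ[R] B) (a : A) (x : A ⊗[R] M) : mapM f (a • x) = f a • mapM f x := by
  induction x using TensorProduct.induction_on with
  | zero => simp
  | tmul b m => simp [smul_tmul']
  | add x y hx hy => simp only [smul_add, map_add, hx, hy]

theorem cancel_one_tmul [Algebra A B] [IsScalarTower R A B] (f : A →ₐ[R] B) (hf : ∀ a, f a = algebraMap A B a)
    (x : A ⊗[R] M) : cancelBaseChange R A B B M (1 ⊗ₜ[A] x) = mapM f x := by
  induction x using TensorProduct.induction_on with
  | zero => simp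
  | tmul a m => rw [cancelBaseChange_tmul, mapM_tmul, hf, Algebra.algebraMap_eq_smul_one]
  | add x y hx hy => rw [tmul_add, map_add, map_add, hx, hy]

theorem map_toSubmodule_eq (f : A →ₐ[R] B) (N : Pt R M k A) :
    (Module.Grassmannian.map f N).toSubmodule = Submodule.span B (mapM f '' (N.toSubmodule : Set (A ⊗[R] M))) := by
  letI : Algebra A B := f.toAlgebra
  haveI : IsScalarTower R A B := IsScalarTower.of_algebraMap_eq fun r => (f.commutes r).symm
  have hf : ∀ a, f a = algebraMap A B a := fun a => rfl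
  rw [Module.Grassmannian.map_toSubmodule]
  refine le_antisymm (fun y hy => ?_) (Submodule.span_le.2 ?_)
  · have hy' : N.toSubmodule.mkQ.baseChange B ((cancelBaseChange R A B B M).symm y) = 0 := hy
    have hex : Function.Exact (LinearMap.lTensor B N.toSubmodule.subtype) (LinearMap.lTensor B N.toSubmodule.mkQ) := by
      exact _root_.lTensor_exact B (LinearMap.exact_subtype_mkQ _) (Submodule.mkQ_surjective _)
    obtain ⟨z, hz⟩ := (hex ((cancelBaseChange R A B B M).symm y)).1 hy'
    have e : y = cancelBaseChange R A B B M (N.toSubmodule.subtype.baseChange B z) := by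
      rw [show N.toSubmodule.subtype.baseChange B z = N.toSubmodule.subtype.lTensor B z from rfl, hz,
        LinearEquiv.apply_symm_apply]
    rw [e]
    clear e hz
    induction z using TensorProduct.induction_on with
    | zero => simp
    | tmul c n =>
      rw [LinearMap.baseChange_tmul, show c ⊗ₜ[A] (N.toSubmodule.subtype n) = c • ((1 : B) ⊗ₜ[A] (n : A ⊗[R] M)) by
        rw [smul_tmul', smul_eq_mul, mul_one]; rfl, map_smul, cancel_one_tmul f hf]
      exact Submodule.smul_mem _ _ (Submodule.subset_span ⟨n, n.2, rfl⟩)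
    | add a b ha hb => rw [map_add, map_add]; exact add_mem ha hb
  · rintro _ ⟨x, hx, rfl⟩
    show N.toSubmodule.mkQ.baseChange B ((cancelBaseChange R A B B M).symm (mapM f x)) = 0
    rw [← cancel_one_tmul f hf, LinearEquiv.symm_apply_apply, LinearMap.baseChange_tmul, Submodule.mkQ_apply,
      (Submodule.Quotient.mk_eq_zero _).2 hx, tmul_zero]

theorem mapM_mem (f : A →ₐ[R] B) {N : Pt R M k A} {x : A ⊗[R] M} (hx : x ∈ N.toSubmodule) :
    mapM f x ∈ (Module.Grassmannian.map f N).toSubmodule := by
  rw [map_toSubmodule_eq]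
  exact Submodule.subset_span ⟨x, hx, rfl⟩

theorem map_map (g : B →ₐ[R] C) (f : A →ₐ[R] B) (N : Pt R M k A) :
    Module.Grassmannian.map g (Module.Grassmannian.map f N) = Module.Grassmannian.map (g.comp f) N :=
  (Module.Grassmannian.map_comp k f g N).symm

section Away

variable [Algebra A B] [IsScalarTower R A B] (a : A) [IsLocalization.Away a B]

theorem exists_pow_smul_eq (z : B ⊗[R] M) :
    ∃ (L : ℕ) (x : A ⊗[R] M), algebraMap A B (a ^ L) • z = mapM (IsScalarTower.toAlgHom R A B) x := by
  obtain ⟨⟨x, ⟨_, L, rfl⟩⟩, hx⟩ := IsLocalizedModule.surj (Submonoid.powers a)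
    (TensorProduct.mk A B (A ⊗[R] M) 1) ((cancelBaseChange R A B B M).symm z)
  refine ⟨L, x, ?_⟩
  rw [← cancel_one_tmul (IsScalarTower.toAlgHom R A B) (fun _ => rfl) x]
  have h := congrArg (cancelBaseChange R A B B M) hx
  rw [Submonoid.smul_def, algebra_compatible_smul B, map_smul, LinearEquiv.apply_symm_apply] at h
  exact h

theorem exists_pow_smul_eq_zero {x : A ⊗[R] M} (hx : mapM (IsScalarTower.toAlgHom R A B) x = 0) :
    ∃ L : ℕ, a ^ L • x = 0 := by
  rw [← cancel_one_tmul (IsScalarTower.toAlgHom R A B) (fun _ => rfl) x, LinearEquiv.map_eq_zero_iff] at hx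
  obtain ⟨⟨_, L, rfl⟩, hL⟩ := (IsLocalizedModule.eq_zero_iff (Submonoid.powers a)
    (TensorProduct.mk A B (A ⊗[R] M) 1)).1 hx
  exact ⟨L, hL⟩

/-- A section whose image lies in the base change lies in the submodule up to a power. -/
theorem exists_pow_smul_mem (N : Pt R M k A) {x : A ⊗[R] M}
    (hx : mapM (IsScalarTower.toAlgHom R A B) x ∈ (Module.Grassmannian.map (IsScalarTower.toAlgHom R A B) N).toSubmodule) :
    ∃ L : ℕ, a ^ L • x ∈ N.toSubmodule := by
  let f := IsScalarTower.toAlgHom R A B
  have key : ∀ z ∈ Submodule.span B (mapM f '' (N.toSubmodule : Set (A ⊗[R] M))),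
      ∃ L : ℕ, ∃ n ∈ N.toSubmodule, algebraMap A B (a ^ L) • z = mapM f n := by
    intro z hz
    induction hz using Submodule.span_induction with
    | mem z hz =>
      obtain ⟨n, hn, rfl⟩ := hz
      exact ⟨0, n, hn, by rw [pow_zero, map_one, one_smul]⟩
    | zero => exact ⟨0, 0, zero_mem _, by rw [map_zero, smul_zero]⟩
    | add y z _ _ hy hz =>
      obtain ⟨L, n, hn, e⟩ := hy
      obtain ⟨L', n', hn', e'⟩ := hz
      refine ⟨L + L', a ^ L' • n + a ^ L • n', add_mem (Submodule.smul_mem _ _ hn) (Submodule.smul_mem _ _ hn'), ?_⟩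
      rw [map_add, mapM_smul, mapM_smul, ← e, ← e', smul_add, smul_smul, smul_smul]
      congr 2
      · show _ = algebraMap A B (a ^ L') * _
        rw [← map_mul, ← pow_add, add_comm]
      · show _ = algebraMap A B (a ^ L) * _
        rw [← map_mul, ← pow_add]
    | smul c z _ hz =>
      obtain ⟨L, n, hn, e⟩ := hz
      obtain ⟨⟨c₀, ⟨_, L', rfl⟩⟩, hc⟩ := IsLocalization.surj (Submonoid.powers a) c
      refine ⟨L' + L, c₀ • n, Submodule.smul_mem _ _ hn, ?_⟩
      rw [mapM_smul, ← e, smul_smul, smul_smul]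
      show (_ * c) • z = (algebraMap A B c₀ * _) • z
      rw [← hc, pow_add, map_mul]
      congr 1
      ring
  rw [map_toSubmodule_eq] at hx
  obtain ⟨L, n, hn, e⟩ := key _ hx
  have h0 : mapM f (a ^ L • x - n) = 0 := by
    rw [map_sub, mapM_smul, ← e]
    exact sub_self _
  obtain ⟨L', hL'⟩ := exists_pow_smul_eq_zero a h0
  refine ⟨L' + L, ?_⟩
  rw [smul_sub, sub_eq_zero, smul_smul, ← pow_add] at hL'
  rw [hL']
  exact Submodule.smul_mem _ _ hn

end Away

section Glue

variable {ι : Type} [Finite ι] (a : ι → A) (ha : Ideal.span (Set.range a) = ⊤)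
variable (Bi : ι → Type u) [∀ i, CommRing (Bi i)] [∀ i, Algebra R (Bi i)] [∀ i, Algebra A (Bi i)]
  [∀ i, IsScalarTower R A (Bi i)] [∀ i, IsLocalization.Away (a i) (Bi i)]

include ha in
theorem span_pow_top (L : ℕ) : Ideal.span (Set.range fun i => a i ^ L) = ⊤ := by
  have := Ideal.span_pow_eq_top _ ha L
  rwa [← Set.range_comp] at this

/-- The canonical map to a localization. -/
abbrev toLoc (i : ι) : A →ₐ[R] Bi i := IsScalarTower.toAlgHom R A (Bi i)

include ha in
/-- A point is determined on a standard cover. -/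
theorem pt_ext {N N' : Pt R M k A}
    (h : ∀ i, Module.Grassmannian.map (toLoc Bi i) N = Module.Grassmannian.map (toLoc Bi i) N') : N = N' := by
  suffices key : ∀ N N' : Pt R M k A,
      (∀ i, Module.Grassmannian.map (toLoc Bi i) N = Module.Grassmannian.map (toLoc Bi i) N') →
        N.toSubmodule ≤ N'.toSubmodule from
    Module.Grassmannian.ext (le_antisymm (key N N' h) (key N' N fun i => (h i).symm))
  intro N N' h x hx
  have hL : ∀ i, ∃ L : ℕ, a i ^ L • x ∈ N'.toSubmodule := fun i =>
    exists_pow_smul_mem (B := Bi i) (a i) N' (h i ▸ mapM_mem (toLoc Bi i) hx)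
  choose L hL using hL
  have : Fintype ι := Fintype.ofFinite ι
  have htop : Ideal.span (Set.range fun i => a i ^ (∑ j, L j)) ≤ (N'.toSubmodule.comap (LinearMap.toSpanSingleton A _ x)) := by
    rw [Ideal.span_le]
    rintro _ ⟨i, rfl⟩
    show a i ^ (∑ j, L j) • x ∈ N'.toSubmodule
    rw [← Nat.sub_add_cancel (Finset.single_le_sum (fun j _ => Nat.zero_le (L j)) (Finset.mem_univ i)), pow_add, mul_smul]
    exact Submodule.smul_mem _ _ (hL i)
  rw [span_pow_top a ha] at htop
  simpa using htop (Submodule.mem_top (x := (1 : A)))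

variable (Ni : ∀ i, Pt R M k (Bi i))

/-- The glued submodule. -/
def glueSub : Submodule A (A ⊗[R] M) where
  carrier := {x | ∀ i, mapM (toLoc (A := A) Bi i) x ∈ (Ni i).toSubmodule}
  zero_mem' i := by rw [map_zero]; exact zero_mem _
  add_mem' hx hy i := by rw [map_add]; exact add_mem (hx i) (hy i)
  smul_mem' c x hx i := by rw [mapM_smul]; exact Submodule.smul_mem _ _ (hx i)

/-- Compatibility on overlaps. -/
def Compat : Prop := ∀ (i j : ι) (C : Type u) [CommRing C] [Algebra R C] (p : Bi i →ₐ[R] C) (q : Bi j →ₐ[R] C),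
  p.comp (toLoc (A := A) Bi i) = q.comp (toLoc (A := A) Bi j) → Module.Grassmannian.map p (Ni i) = Module.Grassmannian.map q (Ni j)

variable (hc : Compat (A := A) Bi Ni)
include ha hc

theorem span_glueSub (i : ι) :
    Submodule.span (Bi i) (mapM (toLoc (A := A) Bi i) '' (glueSub (A := A) Bi Ni : Set (A ⊗[R] M))) = (Ni i).toSubmodule := by
  refine le_antisymm (Submodule.span_le.2 fun _ ⟨x, hx, e⟩ => e ▸ hx i) fun y hy => ?_
  obtain ⟨L₀, x, hx⟩ := exists_pow_smul_eq (B := Bi i) (M := M) (a i) y
  have hxi : mapM (toLoc (A := A) Bi i) x ∈ (Ni i).toSubmodule := by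
    rw [show mapM (toLoc (A := A) Bi i) x = algebraMap A (Bi i) (a i ^ L₀) • y from hx.symm]
    exact Submodule.smul_mem _ _ hy
  have hj : ∀ j, ∃ L : ℕ, mapM (toLoc (A := A) Bi j) (a i ^ L • x) ∈ (Ni j).toSubmodule := fun j => by
    let b : Bi j := algebraMap A (Bi j) (a i)
    let C := Localization.Away b
    have hu : ∀ y : Submonoid.powers (a i), IsUnit (IsScalarTower.toAlgHom R A C (y : A)) := by
      rintro ⟨_, n, rfl⟩
      rw [map_pow]
      exact (IsLocalization.Away.algebraMap_isUnit b).pow n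
    let p : Bi i →ₐ[R] C := IsLocalization.liftAlgHom (M := Submonoid.powers (a i)) (f := IsScalarTower.toAlgHom R A C) hu
    let q : Bi j →ₐ[R] C := IsScalarTower.toAlgHom R (Bi j) C
    have hpq : p.comp (toLoc (A := A) Bi i) = q.comp (toLoc (A := A) Bi j) := AlgHom.ext fun r => by
      show IsLocalization.liftAlgHom (M := Submonoid.powers (a i)) (f := IsScalarTower.toAlgHom R A C) hu
        (algebraMap A (Bi i) r) = _
      rw [IsLocalization.liftAlgHom_apply, IsLocalization.lift_eq]
      rfl
    have h1 : mapM q (mapM (toLoc (A := A) Bi j) x) ∈ (Module.Grassmannian.map q (Ni j)).toSubmodule := by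
      rw [← hc i j C p q hpq, ← mapM_comp, ← hpq, mapM_comp]
      exact mapM_mem p hxi
    obtain ⟨L, hL⟩ := exists_pow_smul_mem b (Ni j) h1
    exact ⟨L, by rwa [mapM_smul, show toLoc (A := A) Bi j (a i ^ L) = b ^ L from map_pow _ _ _]⟩
  choose L hL using hj
  have : Fintype ι := Fintype.ofFinite ι
  have hmem : a i ^ (∑ j, L j) • x ∈ glueSub (A := A) Bi Ni := fun j => by
    rw [← Nat.sub_add_cancel (Finset.single_le_sum (fun j _ => Nat.zero_le (L j)) (Finset.mem_univ j)), pow_add,
      mul_smul, mapM_smul]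
    exact Submodule.smul_mem _ _ (hL j)
  have hu : IsUnit (algebraMap A (Bi i) (a i ^ (∑ j, L j + L₀))) := by
    rw [map_pow]; exact (IsLocalization.Away.algebraMap_isUnit (a i)).pow _
  have he : mapM (toLoc (A := A) Bi i) (a i ^ (∑ j, L j) • x) = algebraMap A (Bi i) (a i ^ (∑ j, L j + L₀)) • y := by
    rw [mapM_smul, show mapM (toLoc (A := A) Bi i) x = algebraMap A (Bi i) (a i ^ L₀) • y from hx.symm, smul_smul, pow_add, map_mul]
    rfl
  have h2 := Submodule.smul_mem (Submodule.span (Bi i) (mapM (toLoc (A := A) Bi i) '' (glueSub (A := A) Bi Ni : Set (A ⊗[R] M))))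
    (↑hu.unit⁻¹ : Bi i) (Submodule.subset_span ⟨_, hmem, he⟩)
  rwa [smul_smul, IsUnit.val_inv_mul, one_smul] at h2

theorem exists_glue : ∃ N : Pt R M k A, ∀ i, Module.Grassmannian.map (toLoc (A := A) Bi i) N = Ni i := by
  classical
  let N := glueSub (A := A) Bi Ni
  let Q := (A ⊗[R] M) ⧸ N
  let f : ∀ i, Q →ₗ[A] (Bi i ⊗[R] M) ⧸ (Ni i).toSubmodule := fun i =>
    N.liftQ (((Ni i).toSubmodule.mkQ.restrictScalars A).comp
      (((cancelBaseChange R A (Bi i) (Bi i) M).toLinearMap.restrictScalars A).comp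
        (TensorProduct.mk A (Bi i) (A ⊗[R] M) 1))) fun x hx => by
      show (Ni i).toSubmodule.mkQ (cancelBaseChange R A (Bi i) (Bi i) M (1 ⊗ₜ[A] x)) = 0
      rw [cancel_one_tmul (toLoc (A := A) Bi i) (fun _ => rfl)]
      exact (Submodule.Quotient.mk_eq_zero _).2 (hx i)
  have hfmk : ∀ i x, f i (N.mkQ x) = (Ni i).toSubmodule.mkQ (mapM (toLoc (A := A) Bi i) x) := fun i x => by
    show (Ni i).toSubmodule.mkQ (cancelBaseChange R A (Bi i) (Bi i) M (1 ⊗ₜ[A] x)) = _
    rw [cancel_one_tmul (toLoc (A := A) Bi i) (fun _ => rfl)]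
  have hloc : ∀ i, IsLocalizedModule (Submonoid.powers (a i)) (f i) := fun i => by
    refine ⟨fun s => ?_, fun y => ?_, fun {x₁ x₂} h => ?_⟩
    · obtain ⟨_, n, rfl⟩ := s
      rw [Module.End.isUnit_iff]
      have hu : IsUnit (algebraMap A (Bi i) (a i ^ n)) := by
        rw [map_pow]; exact (IsLocalization.Away.algebraMap_isUnit (a i)).pow _
      have e : ⇑(algebraMap A (Module.End A ((Bi i ⊗[R] M) ⧸ (Ni i).toSubmodule)) (a i ^ n)) =
          fun q => algebraMap A (Bi i) (a i ^ n) • q := funext fun q => (algebraMap_smul (Bi i) (a i ^ n) q).symm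
      rw [e]
      exact ⟨fun p q h => hu.smul_left_cancel.1 h,
        fun q => ⟨(↑hu.unit⁻¹ : Bi i) • q, by simp only [smul_smul, IsUnit.mul_val_inv, one_smul]⟩⟩
    · obtain ⟨y, rfl⟩ := Submodule.mkQ_surjective _ y
      obtain ⟨L, x, hx⟩ := exists_pow_smul_eq (B := Bi i) (M := M) (a i) y
      refine ⟨⟨N.mkQ x, ⟨_, L, rfl⟩⟩, ?_⟩
      rw [hfmk, show mapM (toLoc (A := A) Bi i) x = _ from hx.symm, Submonoid.smul_def, map_smul, algebraMap_smul]
    · obtain ⟨x₁, rfl⟩ := Submodule.mkQ_surjective _ x₁
      obtain ⟨x₂, rfl⟩ := Submodule.mkQ_surjective _ x₂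
      rw [hfmk, hfmk, Submodule.mkQ_apply, Submodule.mkQ_apply, Submodule.Quotient.eq, ← map_sub] at h
      have hj : ∀ j, ∃ L : ℕ, mapM (toLoc (A := A) Bi j) (a i ^ L • (x₁ - x₂)) ∈ (Ni j).toSubmodule := fun j => by
        rw [← span_glueSub a ha Bi Ni hc i] at h
        have key : ∀ z ∈ Submodule.span (Bi i) (mapM (toLoc (A := A) Bi i) '' (N : Set (A ⊗[R] M))),
            ∃ L : ℕ, ∃ n ∈ N, algebraMap A (Bi i) (a i ^ L) • z = mapM (toLoc (A := A) Bi i) n := by
          intro z hz
          induction hz using Submodule.span_induction with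
          | mem z hz =>
            obtain ⟨n, hn, rfl⟩ := hz
            exact ⟨0, n, hn, by rw [pow_zero, map_one, one_smul]⟩
          | zero => exact ⟨0, 0, zero_mem _, by rw [map_zero, smul_zero]⟩
          | add y z _ _ hy hz =>
            obtain ⟨L, n, hn, e⟩ := hy
            obtain ⟨L', n', hn', e'⟩ := hz
            refine ⟨L + L', a i ^ L' • n + a i ^ L • n', add_mem (Submodule.smul_mem _ _ hn) (Submodule.smul_mem _ _ hn'), ?_⟩
            rw [map_add, mapM_smul, mapM_smul, ← e, ← e', smul_add, smul_smul, smul_smul]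
            congr 2
            · show _ = algebraMap A (Bi i) (a i ^ L') * _
              rw [← map_mul, ← pow_add, add_comm]
            · show _ = algebraMap A (Bi i) (a i ^ L) * _
              rw [← map_mul, ← pow_add]
          | smul c z _ hz =>
            obtain ⟨L, n, hn, e⟩ := hz
            obtain ⟨⟨c₀, ⟨_, L', rfl⟩⟩, hc'⟩ := IsLocalization.surj (Submonoid.powers (a i)) c
            refine ⟨L' + L, c₀ • n, Submodule.smul_mem _ _ hn, ?_⟩
            rw [mapM_smul, ← e, smul_smul, smul_smul]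
            show (_ * c) • z = (algebraMap A (Bi i) c₀ * _) • z
            rw [← hc', pow_add, map_mul]
            congr 1
            ring
        obtain ⟨L, n, hn, e⟩ := key _ h
        have h0 : mapM (toLoc (A := A) Bi i) (a i ^ L • (x₁ - x₂) - n) = 0 := by
          rw [map_sub, mapM_smul, ← e]; exact sub_self _
        obtain ⟨L', hL'⟩ := exists_pow_smul_eq_zero (a i) h0
        refine ⟨L' + L, ?_⟩
        rw [smul_sub, sub_eq_zero, smul_smul, ← pow_add] at hL'
        rw [hL', mapM_smul]
        exact Submodule.smul_mem _ _ (hn j)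
      choose L hL using hj
      have : Fintype ι := Fintype.ofFinite ι
      refine ⟨⟨_, ∑ j, L j, rfl⟩, ?_⟩
      show a i ^ (∑ j, L j) • N.mkQ x₁ = a i ^ (∑ j, L j) • N.mkQ x₂
      rw [← map_smul, ← map_smul, Submodule.mkQ_apply, Submodule.mkQ_apply, Submodule.Quotient.eq]
      suffices hm : a i ^ (∑ j, L j) • (x₁ - x₂) ∈ N by
        have hs : a i ^ (∑ j, L j) • x₁ - a i ^ (∑ j, L j) • x₂ = a i ^ (∑ j, L j) • (x₁ - x₂) := (smul_sub _ x₁ x₂).symm
        exact hs ▸ hm
      intro j
      rw [← Nat.sub_add_cancel (Finset.single_le_sum (fun j _ => Nat.zero_le (L j)) (Finset.mem_univ j)), pow_add,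
        mul_smul, mapM_smul]
      exact Submodule.smul_mem _ _ (hL j)
  let pick : Set.range a → ι := fun r => r.2.choose
  have hpick : ∀ r : Set.range a, a (pick r) = r.1 := fun r => r.2.choose_spec
  have hloc' : ∀ r : Set.range a, IsLocalizedModule.Away r.1 (f (pick r)) := fun r => by
    have := hloc (pick r)
    rwa [hpick r] at this
  have hB : ∀ r : Set.range a, IsLocalization.Away r.1 (Bi (pick r)) := fun r => by
    rw [← hpick r]; infer_instance
  haveI hfin : Module.Finite A Q :=
    Module.Finite.of_localizationSpan' (Mₚ := fun r => (Bi (pick r) ⊗[R] M) ⧸ (Ni (pick r)).toSubmodule)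
      (Rₚ := fun r => Bi (pick r)) _ ha (fun r => f (pick r)) fun r => (Ni (pick r)).finite_quotient
  haveI : Module.FinitePresentation A Q := by
    haveI : ∀ r : Set.range a, Module.FinitePresentation (Bi (pick r)) ((Bi (pick r) ⊗[R] M) ⧸ (Ni (pick r)).toSubmodule) :=
      fun r => Module.finitePresentation_of_projective _ _
    exact Module.FinitePresentation.of_localizationSpan' (Set.range a) (Mₚ := fun r => (Bi (pick r) ⊗[R] M) ⧸ (Ni (pick r)).toSubmodule)
      (Rₚ := fun r => Bi (pick r)) ha (fun r => f (pick r)) inferInstance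
  haveI : Module.Flat A Q := by
    refine Module.flat_of_isLocalized_span (R := A) (S := A) (M := Q) (Set.range a) ha (fun r => (Bi (pick r) ⊗[R] M) ⧸ (Ni (pick r)).toSubmodule)
      (fun r => f (pick r)) fun r => ?_
    haveI := hB r
    haveI : Module.Flat A (Bi (pick r)) := IsLocalization.flat _ (Submonoid.powers r.1)
    exact Module.Flat.trans A (Bi (pick r)) _
  haveI : Module.Projective A Q := Module.Flat.projective_of_finitePresentation
  refine ⟨⟨N, hfin, inferInstance, fun p => ?_⟩, fun i => Module.Grassmannian.ext ?_⟩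
  · obtain ⟨i, hi⟩ : ∃ i, a i ∉ p.asIdeal := by
      by_contra hne
      push Not at hne
      exact p.isPrime.ne_top (top_le_iff.1 (ha ▸ Ideal.span_le.2 (Set.range_subset_iff.2 hne)))
    obtain ⟨q, rfl⟩ : p ∈ Set.range (PrimeSpectrum.comap (algebraMap A (Bi i))) := by
      rw [PrimeSpectrum.localization_away_comap_range (Bi i) (a i)]
      exact hi
    rw [← (Ni i).rankAtStalk_eq q]
    exact (Module.rankAtStalk_isBaseChange ((isLocalizedModule_iff_isBaseChange (Submonoid.powers (a i)) (Bi i) (f i)).1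
      (hloc i)) q).symm
  · rw [map_toSubmodule_eq]
    exact span_glueSub a ha Bi Ni hc i

end Glue

end GrassLib

end
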