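import Groth.Agent.GrassLib.Basic
import Mathlib.RingTheory.Flat.LocallyFree
import Mathlib.RingTheory.Support
import Mathlib.RingTheory.LocalRing.Module
import Mathlib.RingTheory.TensorProduct.Basic
import Mathlib.LinearAlgebra.Dimension.StrongRankCondition
import Mathlib.Algebra.MvPolynomial.CommRing
import Mathlib.LinearAlgebra.Dual.Lemmas
import Mathlib.RingTheory.Ideal.Quotient.Operations

/-!
# The standard charts of the Grassmannian
-/

set_option autoImplicit false
set_option linter.style.haveILetI false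
set_option linter.unusedSectionVars false

universe u

open TensorProduct TensorProduct.AlgebraTensorModule Module

noncomputable section

namespace GrassLib

variable {R : Type u} [CommRing R] {M : Type u} [AddCommGroup M] [Module R M] {k : ℕ}
variable {A B : Type u} [CommRing A] [Algebra R A] [CommRing B] [Algebra R B]

theorem free_rank (p : PrimeSpectrum A) : rankAtStalk (R := A) (Fin k → A) p = k := by
  haveI : Nontrivial A := ⟨⟨0, 1, fun h => p.isPrime.one_notMem (h ▸ zero_mem _)⟩⟩
  rw [rankAtStalk_eq_finrank_of_free]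
  simp

theorem bijective_of_surjective_rank {P Q : Type u} [AddCommGroup P] [Module A P] [Module.Finite A P]
    [Module.Projective A P] [AddCommGroup Q] [Module A Q] [Module.Finite A Q] [Module.Projective A Q]
    (hP : ∀ p, rankAtStalk (R := A) P p = k) (hQ : ∀ p, rankAtStalk (R := A) Q p = k) {φ : P →ₗ[A] Q}
    (h : Function.Surjective φ) : Function.Bijective φ :=
  Module.bijective_of_surjective_of_rankAtStalk_eq h fun m hm => (hP _).trans (hQ _).symm

/-- Points are equal as soon as one contains the other. -/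
theorem eq_of_le {N N' : Pt R M k A} (h : N.toSubmodule ≤ N'.toSubmodule) : N = N' := by
  refine Module.Grassmannian.ext (le_antisymm h fun x hx => ?_)
  have hb := bijective_of_surjective_rank N.rankAtStalk_eq N'.rankAtStalk_eq (φ := Submodule.factor h)
    (Submodule.factor_surjective h)
  rw [← Submodule.Quotient.mk_eq_zero]
  exact hb.1 (((Submodule.Quotient.mk_eq_zero _).2 hx).trans (map_zero _).symm)

/-- The images of the chosen elements in the quotient. -/
def psi (x : Fin k → M) (N : Pt R M k A) : (Fin k → A) →ₗ[A] (A ⊗[R] M) ⧸ N.toSubmodule :=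
  Fintype.linearCombination A fun j => N.toSubmodule.mkQ (1 ⊗ₜ[R] x j)

theorem psi_apply (x : Fin k → M) (N : Pt R M k A) (c : Fin k → A) :
    psi x N c = ∑ j, c j • N.toSubmodule.mkQ (1 ⊗ₜ[R] x j) := rfl

/-- The chosen elements generate the quotient. -/
def IsIn (x : Fin k → M) (N : Pt R M k A) : Prop := Function.Surjective (psi x N)

theorem bijective_psi {x : Fin k → M} {N : Pt R M k A} (h : IsIn x N) : Function.Bijective (psi x N) :=
  bijective_of_surjective_rank free_rank N.rankAtStalk_eq h

/-- The coordinates in a chart. -/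
def coords {x : Fin k → M} {N : Pt R M k A} (h : IsIn x N) : A ⊗[R] M →ₗ[A] (Fin k → A) :=
  (LinearEquiv.ofBijective (psi x N) (bijective_psi h)).symm.toLinearMap.comp N.toSubmodule.mkQ

theorem psi_coords {x : Fin k → M} {N : Pt R M k A} (h : IsIn x N) (y : A ⊗[R] M) :
    psi x N (coords h y) = N.toSubmodule.mkQ y :=
  (LinearEquiv.ofBijective (psi x N) (bijective_psi h)).apply_symm_apply _

theorem ker_coords {x : Fin k → M} {N : Pt R M k A} (h : IsIn x N) : (coords h).ker = N.toSubmodule := by
  rw [coords, LinearEquiv.ker_comp, Submodule.ker_mkQ]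

theorem coords_x {x : Fin k → M} {N : Pt R M k A} (h : IsIn x N) (j : Fin k) :
    coords h (1 ⊗ₜ[R] x j) = Pi.single j 1 :=
  (bijective_psi h).1 ((psi_coords h _).trans (by simp [psi]))

/-- A matrix in normal form. -/
def Normal (x : Fin k → M) (φ : M →ₗ[R] (Fin k → A)) : Prop := ∀ j, φ (x j) = Pi.single j 1

theorem surjective_lift {x : Fin k → M} {φ : M →ₗ[R] (Fin k → A)} (hφ : Normal x φ) :
    Function.Surjective (φ.liftBaseChange A) := fun c => ⟨∑ j, c j • (1 ⊗ₜ[R] x j), by
  rw [map_sum]
  simp only [map_smul, LinearMap.liftBaseChange_one_tmul, hφ _]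
  exact (pi_eq_sum_univ' c).symm⟩

/-- The point with the given coordinates. -/
def chartPt (x : Fin k → M) (φ : M →ₗ[R] (Fin k → A)) (hφ : Normal x φ) : Pt R M k A where
  toSubmodule := (φ.liftBaseChange A).ker
  finite_quotient := Module.Finite.equiv ((φ.liftBaseChange A).quotKerEquivOfSurjective (surjective_lift hφ)).symm
  projective_quotient :=
    Module.Projective.of_equiv ((φ.liftBaseChange A).quotKerEquivOfSurjective (surjective_lift hφ)).symm
  rankAtStalk_eq p := by
    rw [rankAtStalk_eq_of_equiv ((φ.liftBaseChange A).quotKerEquivOfSurjective (surjective_lift hφ))]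
    exact free_rank p

theorem isIn_chartPt {x : Fin k → M} {φ : M →ₗ[R] (Fin k → A)} (hφ : Normal x φ) : IsIn x (chartPt x φ hφ) := by
  intro q
  obtain ⟨y, rfl⟩ := Submodule.mkQ_surjective _ q
  refine ⟨φ.liftBaseChange A y, ?_⟩
  rw [psi_apply]
  simp only [← map_smul, ← map_sum]
  rw [Submodule.mkQ_apply, Submodule.mkQ_apply, Submodule.Quotient.eq]
  show φ.liftBaseChange A (_ - y) = 0
  rw [map_sub, map_sum]
  simp only [map_smul, LinearMap.liftBaseChange_one_tmul, hφ _]
  rw [← pi_eq_sum_univ', sub_self]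

/-- The coordinates as a linear map on the module. -/
def coordsR {x : Fin k → M} {N : Pt R M k A} (h : IsIn x N) : M →ₗ[R] (Fin k → A) :=
  ((coords h).restrictScalars R).comp (TensorProduct.mk R A M 1)

theorem normal_coordsR {x : Fin k → M} {N : Pt R M k A} (h : IsIn x N) : Normal x (coordsR h) := coords_x h

theorem lift_coordsR {x : Fin k → M} {N : Pt R M k A} (h : IsIn x N) : (coordsR h).liftBaseChange A = coords h := by
  ext m
  simp [coordsR]

theorem chartPt_coordsR {x : Fin k → M} {N : Pt R M k A} (h : IsIn x N) :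
    chartPt x (coordsR h) (normal_coordsR h) = N := by
  refine Module.Grassmannian.ext ?_
  show ((coordsR h).liftBaseChange A).ker = _
  rw [lift_coordsR, ker_coords]

theorem chartPt_injective {x : Fin k → M} {φ φ' : M →ₗ[R] (Fin k → A)} (hφ : Normal x φ) (hφ' : Normal x φ')
    (h : chartPt x φ hφ = chartPt x φ' hφ') : φ = φ' := by
  refine LinearMap.ext fun m => ?_
  have hm : (1 : A) ⊗ₜ[R] m - ∑ j, φ m j • ((1 : A) ⊗ₜ[R] x j) ∈ (chartPt x φ hφ).toSubmodule := by
    show φ.liftBaseChange A _ = 0
    rw [map_sub, map_sum]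
    simp only [map_smul, LinearMap.liftBaseChange_one_tmul, hφ _]
    rw [← pi_eq_sum_univ', sub_self]
  rw [h] at hm
  change φ'.liftBaseChange A _ = 0 at hm
  rw [map_sub, map_sum] at hm
  simp only [map_smul, LinearMap.liftBaseChange_one_tmul, hφ' _] at hm
  rw [← pi_eq_sum_univ', sub_eq_zero] at hm
  exact hm.symm

/-- Base change of coordinates. -/
def mapCoord (f : A →ₐ[R] B) (φ : M →ₗ[R] (Fin k → A)) : M →ₗ[R] (Fin k → B) :=
  LinearMap.pi fun j => f.toLinearMap.comp ((LinearMap.proj j).comp φ)

@[simp] theorem mapCoord_apply (f : A →ₐ[R] B) (φ : M →ₗ[R] (Fin k → A)) (m : M) (j : Fin k) :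
    mapCoord f φ m j = f (φ m j) := rfl

theorem normal_mapCoord (f : A →ₐ[R] B) {x : Fin k → M} {φ : M →ₗ[R] (Fin k → A)} (hφ : Normal x φ) :
    Normal x (mapCoord f φ) := fun j => funext fun i => by
  rw [mapCoord_apply, hφ j]
  obtain rfl | h := eq_or_ne i j
  · simp
  · simp [h]

theorem map_chartPt (f : A →ₐ[R] B) {x : Fin k → M} {φ : M →ₗ[R] (Fin k → A)} (hφ : Normal x φ) :
    Module.Grassmannian.map f (chartPt x φ hφ) = chartPt x (mapCoord f φ) (normal_mapCoord f hφ) := by
  refine eq_of_le ?_
  rw [map_toSubmodule_eq, Submodule.span_le]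
  rintro _ ⟨y, hy, rfl⟩
  have key : ∀ y, (mapCoord f φ).liftBaseChange B (mapM f y) = fun j => f (φ.liftBaseChange A y j) := fun y => by
    induction y using TensorProduct.induction_on with
    | zero => ext j; simp
    | tmul a m => ext j; simp
    | add y z hy hz => ext j; simp [hy, hz]
  show (mapCoord f φ).liftBaseChange B (mapM f y) = 0
  rw [key, show φ.liftBaseChange A y = 0 from hy]
  ext j
  simp

theorem mkQ_mapM_smul (f : A →ₐ[R] B) (N : Pt R M k A) (a : A) (y : A ⊗[R] M) :
    (Module.Grassmannian.map f N).toSubmodule.mkQ (mapM f (a • y)) =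
      f a • (Module.Grassmannian.map f N).toSubmodule.mkQ (mapM f y) := by
  rw [mapM_smul, map_smul]

theorem span_mapM_eq_top (f : A →ₐ[R] B) : Submodule.span B (Set.range (mapM (M := M) f)) = ⊤ := by
  rw [eq_top_iff]
  rintro y -
  induction y using TensorProduct.induction_on with
  | zero => exact zero_mem _
  | tmul b m =>
    rw [show b ⊗ₜ[R] m = b • mapM f (1 ⊗ₜ[R] m) by simp [smul_tmul']]
    exact Submodule.smul_mem _ _ (Submodule.subset_span ⟨_, rfl⟩)
  | add y z hy hz => exact add_mem hy hz

theorem isIn_map (f : A →ₐ[R] B) {x : Fin k → M} {N : Pt R M k A} (h : IsIn x N) :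
    IsIn x (Module.Grassmannian.map f N) := by
  rw [← chartPt_coordsR h, map_chartPt f (normal_coordsR h)]
  exact isIn_chartPt _

theorem coordsR_map (f : A →ₐ[R] B) {x : Fin k → M} {N : Pt R M k A} (h : IsIn x N) :
    coordsR (isIn_map f h) = mapCoord f (coordsR h) := by
  refine chartPt_injective (normal_coordsR _) (normal_mapCoord f (normal_coordsR h)) ?_
  rw [chartPt_coordsR, ← map_chartPt f (normal_coordsR h), chartPt_coordsR]

/-- Where the chosen elements fail to generate. -/
def obstr (x : Fin k → M) (N : Pt R M k A) : Ideal A :=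
  Module.annihilator A (((A ⊗[R] M) ⧸ N.toSubmodule) ⧸ (psi x N).range)

theorem isIn_of_obstr (f : A →ₐ[R] B) {x : Fin k → M} {N : Pt R M k A} (h : (obstr x N).map f.toRingHom = ⊤) :
    IsIn x (Module.Grassmannian.map f N) := by
  let N' := Module.Grassmannian.map f N
  have hle : ∀ y : A ⊗[R] M, ∀ a ∈ obstr x N, f a • N'.toSubmodule.mkQ (mapM f y) ∈ (psi x N').range := by
    intro y a ha
    have h0 := Module.mem_annihilator.1 ha ((psi x N).range.mkQ (N.toSubmodule.mkQ y))
    rw [← map_smul, ← map_smul, Submodule.mkQ_apply, Submodule.Quotient.mk_eq_zero] at h0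
    obtain ⟨c, hc⟩ := h0
    rw [psi_apply] at hc
    simp only [← map_smul, ← map_sum] at hc
    rw [Submodule.mkQ_apply, Submodule.mkQ_apply, Submodule.Quotient.eq] at hc
    refine ⟨fun j => f (c j), ?_⟩
    rw [psi_apply]
    simp only [← map_smul, ← map_sum]
    rw [Submodule.mkQ_apply, Submodule.mkQ_apply, Submodule.Quotient.eq]
    have h1 := mapM_mem f hc
    rw [map_sub, map_sum] at h1
    simp only [mapM_smul, mapM_tmul, map_one] at h1
    exact h1
  have hall : ∀ z, z ∈ (psi x N').range := fun z => by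
    obtain ⟨z, rfl⟩ := Submodule.mkQ_surjective _ z
    have hz : z ∈ Submodule.span B (Set.range (mapM (M := M) f)) := by rw [span_mapM_eq_top]; trivial
    induction hz using Submodule.span_induction with
    | mem z hz =>
      obtain ⟨y, rfl⟩ := hz
      have h1 : (1 : B) ∈ (obstr x N).map f.toRingHom := by rw [h]; trivial
      have : (obstr x N).map f.toRingHom ≤
          (psi x N').range.comap (LinearMap.toSpanSingleton B _ (N'.toSubmodule.mkQ (mapM f y))) := by
        rw [Ideal.map_le_iff_le_comap]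
        exact fun a ha => hle y a ha
      simpa using this h1
    | zero => rw [map_zero]; exact zero_mem _
    | add y z _ _ hy hz => rw [map_add]; exact add_mem hy hz
    | smul b y _ hy => rw [map_smul]; exact Submodule.smul_mem _ _ hy
  exact fun z => hall z

theorem obstr_of_isIn (f : A →ₐ[R] B) {x : Fin k → M} {N : Pt R M k A}
    (h : IsIn x (Module.Grassmannian.map f N)) : (obstr x N).map f.toRingHom = ⊤ := by
  by_contra hne
  obtain ⟨q, hq, hle⟩ := Ideal.exists_le_maximal _ hne
  let p : Ideal A := q.comap f.toRingHom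
  have hJp : obstr x N ≤ p := Ideal.map_le_iff_le_comap.1 hle
  let C := ((A ⊗[R] M) ⧸ N.toSubmodule) ⧸ (psi x N).range
  have hp : (⟨p, inferInstance⟩ : PrimeSpectrum A) ∈ Module.support A C := Module.mem_support_iff_of_finite.2 hJp
  rw [Module.mem_support_iff_nontrivial_residueField_tensorProduct] at hp
  let κ := p.ResidueField
  obtain ⟨z, hz⟩ := exists_ne (0 : κ ⊗[A] C)
  obtain ⟨φ, hφ⟩ := Module.Projective.exists_dual_ne_zero κ hz
  let L := q.ResidueField
  let ι : κ →+* L := Ideal.ResidueField.map p q f.toRingHom rfl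
  letI : Algebra A B := f.toAlgebra
  let g : C →ₗ[A] L :=
    { toFun := fun c => ι (φ (1 ⊗ₜ c))
      map_add' := fun a b => by rw [tmul_add, map_add, map_add]
      map_smul' := fun a c => by
        rw [tmul_smul, algebra_compatible_smul κ a, map_smul, smul_eq_mul, map_mul, RingHom.id_apply,
          Algebra.smul_def]
        congr 1
        exact Ideal.ResidueField.map_algebraMap p q f.toRingHom rfl a }
  haveI : IsScalarTower R A B := IsScalarTower.of_algebraMap_eq fun r => (f.commutes r).symm
  let G : B ⊗[R] M →ₗ[B] L :=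
    ((g.comp ((psi x N).range.mkQ.comp N.toSubmodule.mkQ)).liftBaseChange B).comp
      (cancelBaseChange R A B B M).symm.toLinearMap
  have hGm : ∀ y, G (mapM f y) = g ((psi x N).range.mkQ (N.toSubmodule.mkQ y)) := fun y => by
    show (g.comp ((psi x N).range.mkQ.comp N.toSubmodule.mkQ)).liftBaseChange B
      ((cancelBaseChange R A B B M).symm (mapM f y)) = _
    rw [← cancel_one_tmul f (fun _ => rfl), LinearEquiv.symm_apply_apply, LinearMap.liftBaseChange_one_tmul]
    rfl
  have hGN : (Module.Grassmannian.map f N).toSubmodule ≤ G.ker := by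
    rw [map_toSubmodule_eq, Submodule.span_le]
    rintro _ ⟨y, hy, rfl⟩
    show G (mapM f y) = 0
    rw [hGm, Submodule.mkQ_apply, Submodule.mkQ_apply, (Submodule.Quotient.mk_eq_zero _).2 hy,
      Submodule.Quotient.mk_zero, map_zero]
  have hGx : ∀ j, G ((1 : B) ⊗ₜ[R] x j) = 0 := fun j => by
    rw [show ((1 : B) ⊗ₜ[R] x j) = mapM f (1 ⊗ₜ[R] x j) by rw [mapM_tmul, map_one], hGm, Submodule.mkQ_apply,
      Submodule.mkQ_apply, (Submodule.Quotient.mk_eq_zero _).2 (LinearMap.mem_range.2 ⟨Pi.single j 1, by simp [psi]⟩), map_zero]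
  have hG0 : ∀ y, G y = 0 := fun y => by
    obtain ⟨c, hc⟩ := h ((Module.Grassmannian.map f N).toSubmodule.mkQ y)
    rw [psi_apply] at hc
    simp only [← map_smul, ← map_sum] at hc
    rw [Submodule.mkQ_apply, Submodule.mkQ_apply, Submodule.Quotient.eq] at hc
    have h2 : G _ = 0 := hGN hc
    rw [map_sub, map_sum] at h2
    simp only [map_smul, hGx, smul_zero, Finset.sum_const_zero, zero_sub, neg_eq_zero] at h2
    exact h2
  refine hφ ?_
  induction z using TensorProduct.induction_on with
  | zero => exact map_zero _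
  | tmul c w =>
    obtain ⟨w, rfl⟩ := Submodule.mkQ_surjective _ w
    obtain ⟨y, rfl⟩ := Submodule.mkQ_surjective _ w
    have : ι (φ (1 ⊗ₜ (psi x N).range.mkQ (N.toSubmodule.mkQ y))) = 0 := (hGm y).symm.trans (hG0 _)
    rw [map_eq_zero] at this
    rw [show c ⊗ₜ[A] (psi x N).range.mkQ (N.toSubmodule.mkQ y) = c • ((1 : κ) ⊗ₜ[A] (psi x N).range.mkQ (N.toSubmodule.mkQ y)) by
      rw [smul_tmul', smul_eq_mul, mul_one], map_smul, this, smul_zero]
  | add a b ha hb =>
    by_cases h1 : φ a = 0
    · by_cases h2 : φ b = 0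
      · rw [map_add, h1, h2, add_zero]
      · exact (h2 (hb (fun h => h2 (by rw [h, map_zero])) h2)).elim
    · exact (h1 (ha (fun h => h1 (by rw [h, map_zero])) h1)).elim

theorem isIn_map_iff (f : A →ₐ[R] B) {x : Fin k → M} {N : Pt R M k A} :
    IsIn x (Module.Grassmannian.map f N) ↔ (obstr x N).map f.toRingHom = ⊤ :=
  ⟨obstr_of_isIn f, isIn_of_obstr f⟩

/-- Over a field every point is in a chart. -/
theorem exists_isIn {K : Type u} [Field K] [Algebra R K] (N : Pt R M k K) : ∃ x : Fin k → M, IsIn x N := by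
  classical
  let S : Set ((K ⊗[R] M) ⧸ N.toSubmodule) := Set.range fun m : M => N.toSubmodule.mkQ (1 ⊗ₜ[R] m)
  have hspan : Submodule.span K S = ⊤ := by
    rw [eq_top_iff]
    rintro y -
    obtain ⟨y, rfl⟩ := Submodule.mkQ_surjective _ y
    induction y using TensorProduct.induction_on with
    | zero => rw [map_zero]; exact zero_mem _
    | tmul c m =>
      rw [show c ⊗ₜ[R] m = c • ((1 : K) ⊗ₜ[R] m) by rw [smul_tmul', smul_eq_mul, mul_one], map_smul]
      exact Submodule.smul_mem _ _ (Submodule.subset_span ⟨m, rfl⟩)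
    | add y z hy hz => rw [map_add]; exact add_mem hy hz
  have hk : Module.finrank K ((K ⊗[R] M) ⧸ N.toSubmodule) = k := by
    have := N.rankAtStalk_eq ⟨⊥, Ideal.isPrime_bot⟩
    rwa [rankAtStalk_eq_finrank_of_free] at this
  obtain ⟨v, hv, hv', -⟩ := Submodule.exists_fun_fin_finrank_span_eq K S
  have hd : Module.finrank K (Submodule.span K S) = k := by rw [hspan, finrank_top, hk]
  choose m hm using hv
  refine ⟨fun j => m (Fin.cast hd.symm j), ?_⟩
  rw [IsIn, ← LinearMap.range_eq_top, psi, Fintype.range_linearCombination, eq_top_iff]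
  refine (hv'.trans hspan).ge.trans ?_
  refine Submodule.span_mono ?_
  rintro _ ⟨i, rfl⟩
  exact ⟨Fin.cast hd i, by simp [hm]⟩

variable (R M) in
/-- The ring of a chart. -/
def chartIdeal (x : Fin k → M) : Ideal (MvPolynomial (M × Fin k) R) :=
  Ideal.span ({p | ∃ m m' j, p = MvPolynomial.X (m + m', j) - MvPolynomial.X (m, j) - MvPolynomial.X (m', j)} ∪
    {p | ∃ (r : R) (m : M) (j : Fin k), p = MvPolynomial.X (r • m, j) - MvPolynomial.C r * MvPolynomial.X (m, j)} ∪
    {p | ∃ i j : Fin k, p = MvPolynomial.X (x i, j) - MvPolynomial.C ((Pi.single i 1 : Fin k → R) j)})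

variable (R M) in
/-- The ring of a chart. -/
abbrev ChartRing (x : Fin k → M) : Type u := MvPolynomial (M × Fin k) R ⧸ chartIdeal R M x

/-- The coordinate of a chart. -/
abbrev chartVar (x : Fin k → M) (m : M) (j : Fin k) : ChartRing R M x :=
  Ideal.Quotient.mk _ (MvPolynomial.X (m, j))

/-- The universal coordinates. -/
def univCoord (x : Fin k → M) : M →ₗ[R] (Fin k → ChartRing R M x) where
  toFun m j := chartVar (R := R) x m j
  map_add' m m' := funext fun j => by
    show _ = chartVar (R := R) x m j + chartVar (R := R) x m' j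
    rw [← map_add, ← sub_eq_zero, ← map_sub, Ideal.Quotient.eq_zero_iff_mem]
    exact Ideal.subset_span (Or.inl (Or.inl ⟨m, m', j, by ring⟩))
  map_smul' r m := funext fun j => by
    show _ = Ideal.Quotient.mk _ (r • MvPolynomial.X (m, j))
    rw [MvPolynomial.smul_eq_C_mul, ← sub_eq_zero, ← map_sub, Ideal.Quotient.eq_zero_iff_mem]
    exact Ideal.subset_span (Or.inl (Or.inr ⟨r, m, j, rfl⟩))

theorem normal_univCoord (x : Fin k → M) : Normal x (univCoord (R := R) x) := fun i => funext fun j => by
  show chartVar x (x i) j = _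
  have h : chartVar (R := R) x (x i) j = Ideal.Quotient.mk _ (MvPolynomial.C ((Pi.single i 1 : Fin k → R) j)) := by
    rw [← sub_eq_zero, ← map_sub, Ideal.Quotient.eq_zero_iff_mem]
    exact Ideal.subset_span (Or.inr ⟨i, j, rfl⟩)
  rw [h]
  obtain rfl | hij := eq_or_ne j i
  · simp
  · simp [hij]

/-- The homomorphism from the ring of a chart with the given coordinates. -/
def chartLift {x : Fin k → M} {φ : M →ₗ[R] (Fin k → A)} (hφ : Normal x φ) : ChartRing R M x →ₐ[R] A :=
  Ideal.Quotient.liftₐ _ (MvPolynomial.aeval fun p : M × Fin k => φ p.1 p.2) fun p hp => by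
    refine (Ideal.span_le (I := RingHom.ker (MvPolynomial.aeval (R := R) fun p : M × Fin k => φ p.1 p.2))).2 ?_ hp
    rintro _ ((⟨m, m', j, rfl⟩ | ⟨r, m, j, rfl⟩) | ⟨i, j, rfl⟩)
    · simp
    · simp [Algebra.smul_def]
    · show MvPolynomial.aeval _ _ = 0
      rw [map_sub, MvPolynomial.aeval_X, MvPolynomial.aeval_C, sub_eq_zero, hφ i]
      obtain rfl | hij := eq_or_ne j i
      · simp
      · simp [hij]

theorem chartLift_var {x : Fin k → M} {φ : M →ₗ[R] (Fin k → A)} (hφ : Normal x φ) (m : M) (j : Fin k) :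
    chartLift hφ (chartVar x m j) = φ m j := by
  show chartLift hφ (Ideal.Quotient.mk _ _) = _
  simp [chartLift]

theorem mapCoord_chartLift {x : Fin k → M} {φ : M →ₗ[R] (Fin k → A)} (hφ : Normal x φ) :
    mapCoord (chartLift hφ) (univCoord x) = φ :=
  LinearMap.ext fun m => funext fun j => chartLift_var hφ m j

theorem chartHom_ext {x : Fin k → M} {g g' : ChartRing R M x →ₐ[R] A}
    (h : mapCoord g (univCoord x) = mapCoord g' (univCoord x)) : g = g' :=
  Ideal.Quotient.algHom_ext _ (MvPolynomial.algHom_ext fun p => congrFun (LinearMap.congr_fun h p.1) p.2)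

variable (R) in
/-- The universal point of a chart. -/
def chartUniv (x : Fin k → M) : Pt R M k (ChartRing R M x) := chartPt x (univCoord x) (normal_univCoord x)

theorem existsUnique_chartHom {x : Fin k → M} {N : Pt R M k A} (h : IsIn x N) :
    ∃! g : ChartRing R M x →ₐ[R] A, Module.Grassmannian.map g (chartUniv R x) = N := by
  refine ⟨chartLift (normal_coordsR h), ?_, fun g hg => ?_⟩
  · show Module.Grassmannian.map _ (chartUniv R x) = N
    rw [chartUniv, map_chartPt]
    refine Eq.trans ?_ (chartPt_coordsR h)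
    congr 1
    exact mapCoord_chartLift _
  · refine chartHom_ext ?_
    rw [mapCoord_chartLift]
    change Module.Grassmannian.map g (chartUniv R x) = N at hg
    rw [chartUniv, map_chartPt] at hg
    exact chartPt_injective _ (normal_coordsR h) (hg.trans (chartPt_coordsR h).symm)

theorem isIn_map_chartUniv {x : Fin k → M} (g : ChartRing R M x →ₐ[R] A) :
    IsIn x (Module.Grassmannian.map g (chartUniv R x)) :=
  isIn_map g (isIn_chartPt _)

end GrassLib

end
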