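import Groth.Agent.GrassLib.Points
import Mathlib.AlgebraicGeometry.IdealSheaf.Subscheme
import Mathlib.AlgebraicGeometry.Morphisms.ClosedImmersion

/-!
# Closed subfunctors cut out by natural ideals
-/

set_option autoImplicit false
set_option linter.style.haveILetI false
set_option linter.unusedSectionVars false

universe u

open CategoryTheory CategoryTheory.Limits AlgebraicGeometry TopologicalSpace Opposite

noncomputable section

namespace GrassLib

variable {R : Type u} [CommRing R] {T : Scheme.{u}} {g : T ⟶ base R}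

/-- An affine open with its algebra structure. -/
def secAlg (g : T ⟶ base R) (U : T.affineOpens) : CommAlgCat.{u} R :=
  letI : Algebra R Γ(T, U.1) := (Spec.preimage (U.2.fromSpec ≫ g)).hom.toAlgebra
  CommAlgCat.of R Γ(T, U.1)

/-- The tautological point of an affine open. -/
def secPt (g : T ⟶ base R) (U : T.affineOpens) : APt g (secAlg g U) :=
  ⟨U.2.fromSpec, (Spec.map_preimage _).symm⟩

/-- The restriction to a basic open as a map of algebras. -/
theorem exists_secRes (g : T ⟶ base R) {U V : T.affineOpens} (h : V.1 ≤ U.1) :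
    ∃ f : secAlg g U →ₐ[R] secAlg g V, f.toRingHom = (T.presheaf.map (homOfLE h).op).hom ∧
      (secPt g U).res f = secPt g V := by
  have hm : Spec.map (T.presheaf.map (homOfLE h).op) ≫ U.2.fromSpec = V.2.fromSpec :=
    U.2.map_fromSpec V.2 (homOfLE h).op
  obtain ⟨f, hf⟩ := exists_spHom (A := secAlg g U) (B := secAlg g V) (Spec.map (T.presheaf.map (homOfLE h).op)) (by
    rw [← (secPt g U).over, ← (secPt g V).over, ← Category.assoc]
    exact congrArg (· ≫ g) hm)
  refine ⟨f, ?_, APt.ext' ?_⟩
  · exact congrArg CommRingCat.Hom.hom (Spec.map_injective hf)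
  · show spHom f ≫ (secPt g U).hom = _
    rw [hf]
    exact hm

/-- A natural family of ideals cuts out a closed subscheme. -/
theorem exists_closed_of_ideal (J : ∀ A : CommAlgCat.{u} R, APt g A → Ideal A)
    (hJ : ∀ (A B : CommAlgCat.{u} R) (f : A →ₐ[R] B) (a : APt g A), J B (a.res f) = (J A a).map f.toRingHom) :
    ∃ (Z : Scheme.{u}) (ι : Z ⟶ T), IsClosedImmersion ι ∧
      ∀ (A : CommAlgCat.{u} R) (a : APt g A), (∃ h, h ≫ ι = a.hom) ↔ J A a = ⊥ := by
  classical
  let I : T.IdealSheafData :=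
    { ideal := fun U => J (secAlg g U) (secPt g U)
      map_ideal_basicOpen := fun U f => by
        obtain ⟨r, hr, hp⟩ := exists_secRes g (U := U) (V := T.affineBasicOpen f) (T.basicOpen_le f)
        show Ideal.map (T.presheaf.map (homOfLE (T.basicOpen_le f)).op).hom (J (secAlg g U) (secPt g U)) =
          J (secAlg g (T.affineBasicOpen f)) (secPt g (T.affineBasicOpen f))
        rw [← hp, hJ, hr]
        rfl }
  refine ⟨I.subscheme, I.subschemeι, inferInstance, fun A a => ?_⟩
  let 𝒰 : T.OpenCover := T.openCoverOfIsOpenCover _ (iSup_affineOpens_eq_top T)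
  obtain ⟨ι', hι', s, i, b, hs, hb⟩ := exists_cover a 𝒰
  let L : ι' → CommAlgCat.{u} R := fun j => CommAlgCat.of R (Localization.Away (s j))
  let l : ∀ j, A →ₐ[R] L j := fun j => IsScalarTower.toAlgHom R A (Localization.Away (s j))
  let U : ι' → T.affineOpens := i
  have hbU : ∀ j, ∃ f : secAlg g (U j) →ₐ[R] L j, spHom f ≫ (U j).2.fromSpec = spHom (l j) ≫ a.hom ∧
      (secPt g (U j)).res f = a.res (l j) := fun j => by
    let bj : Spec (CommRingCat.of (L j)) ⟶ (U j).1.toScheme := b j
    have hbj : bj ≫ (U j).1.ι = spHom (l j) ≫ a.hom := hb j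
    have hc : (bj ≫ (U j).2.isoSpec.hom) ≫ (U j).2.fromSpec = spHom (l j) ≫ a.hom := by
      rw [Category.assoc, IsAffineOpen.isoSpec_hom_fromSpec, hbj]
    obtain ⟨f, hf⟩ := exists_spHom (A := secAlg g (U j)) (B := L j) (bj ≫ (U j).2.isoSpec.hom) (by
      rw [← (secPt g (U j)).over, ← spHom_sp (l j), ← a.over, ← Category.assoc, ← Category.assoc (spHom (l j))]
      exact congrArg (· ≫ g) hc)
    exact ⟨f, hf ▸ hc, APt.ext' (show spHom f ≫ (U j).2.fromSpec = _ from hf ▸ hc)⟩
  choose f hf hfr using hbU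
  have hker : J A a = ⊥ ↔ ∀ j, ∀ x ∈ I.ideal (U j), f j x = 0 := by
    have h1 : ∀ j, (J A a).map (l j).toRingHom = (I.ideal (U j)).map (f j).toRingHom := fun j => by
      rw [← hJ, ← hfr j, hJ]
      rfl
    refine ⟨fun h j x hx => ?_, fun h => eq_bot_iff.2 fun y hy => ?_⟩
    · have h2 := (h1 j).symm
      rw [h, Ideal.map_bot] at h2
      exact (Ideal.map_eq_bot_iff_le_ker _).1 h2 hx
    · have h2 : ∀ j, (J A a).map (l j).toRingHom = ⊥ := fun j => by
        rw [h1, Ideal.map_eq_bot_iff_le_ker]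
        exact h j
      have h3 : ∀ j, ∃ n : ℕ, s j ^ n * y = 0 := fun j => by
        obtain ⟨⟨_, n, rfl⟩, hn⟩ := (IsLocalization.map_eq_zero_iff (Submonoid.powers (s j)) (Localization.Away (s j)) y).1
          ((Ideal.map_eq_bot_iff_le_ker _).1 (h2 j) hy)
        exact ⟨n, hn⟩
      choose n hn using h3
      haveI : Fintype ι' := Fintype.ofFinite ι'
      have hle : Ideal.span (Set.range fun j => s j ^ (∑ k, n k)) ≤ (⊥ : Ideal A).colon {y} := by
        rw [Ideal.span_le]
        rintro _ ⟨j, rfl⟩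
        rw [SetLike.mem_coe, Submodule.mem_colon_singleton, Submodule.mem_bot, smul_eq_mul]
        show s j ^ (∑ k, n k) * y = 0
        rw [← Nat.sub_add_cancel (Finset.single_le_sum (fun k _ => Nat.zero_le (n k)) (Finset.mem_univ j)), pow_add,
          mul_assoc, hn j, mul_zero]
      rw [span_pow_top s hs] at hle
      simpa [Submodule.mem_colon_singleton] using hle (Submodule.mem_top (x := (1 : A)))
  rw [hker]
  constructor
  · rintro ⟨h, hh⟩ j x hx
    let q : Spec (CommRingCat.of (Γ(T, (U j).1) ⧸ I.ideal (U j))) ⟶ I.subscheme := I.subschemeCover.f (U j)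
    haveI : IsOpenImmersion q := I.subschemeCover.map_prop _
    have hr : Set.range (spHom (l j) ≫ h) ⊆ Set.range q := by
      rw [show Set.range q = (q.opensRange : Set _) from rfl,
        show q.opensRange = I.subschemeι ⁻¹ᵁ (U j).1 from I.opensRange_subschemeCover_map (U j)]
      rintro _ ⟨p, rfl⟩
      show I.subschemeι ((spHom (l j) ≫ h) p) ∈ ((U j).1 : Set T)
      rw [← Scheme.Hom.comp_apply, Category.assoc, hh, ← hf j, Scheme.Hom.comp_apply, ← (U j).2.range_fromSpec]
      exact ⟨_, rfl⟩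
    let m : Spec (CommRingCat.of (L j)) ⟶ Spec (CommRingCat.of (Γ(T, (U j).1) ⧸ I.ideal (U j))) :=
      IsOpenImmersion.lift q (spHom (l j) ≫ h) hr
    have hm : m ≫ q = spHom (l j) ≫ h := IsOpenImmersion.lift_fac _ _ _
    have hm2 : (m ≫ Spec.map (CommRingCat.ofHom (Ideal.Quotient.mk (I.ideal (U j))))) ≫ (U j).2.fromSpec =
        spHom (f j) ≫ (U j).2.fromSpec := by
      rw [hf, ← hh, ← Category.assoc, ← hm, Category.assoc, Category.assoc]
      refine congrArg (m ≫ ·) ?_
      exact ((I.subschemeCover_map_subschemeι (U j)).trans (I.glueDataObjι_ι (U j))).symm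
    obtain ⟨μ, hμ⟩ := Spec.map_surjective m
    have e := (cancel_mono (U j).2.fromSpec).1 hm2
    rw [← hμ, ← Spec.map_comp] at e
    have e2 := Spec.map_injective e
    rw [show f j x = μ (Ideal.Quotient.mk (I.ideal (U j)) x) from congr($(e2.symm) x),
      Ideal.Quotient.eq_zero_iff_mem.2 hx, map_zero]
  · intro h
    let 𝒱 := (Scheme.affineOpenCoverOfSpanRangeEqTop (R := CommRingCat.of A) s hs).openCover
    let f' : ∀ j, Γ(T, (U j).1) →+* L j := fun j => (f j).toRingHom
    let c : ∀ j : ι', Spec (CommRingCat.of (L j)) ⟶ I.subscheme := fun j =>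
      Spec.map (CommRingCat.ofHom (Ideal.Quotient.lift (I.ideal (U j)) (f' j) (h j))) ≫ I.subschemeCover.f (U j)
    have hc : ∀ j, c j ≫ I.subschemeι = spHom (l j) ≫ a.hom := fun j => by
      show (_ ≫ _) ≫ _ = _
      rw [Category.assoc]
      erw [I.subschemeCover_map_subschemeι, Scheme.IdealSheafData.glueDataObjι_ι]
      rw [← hf j, ← Category.assoc, ← Spec.map_comp]
      rfl
    let glued : Spec (CommRingCat.of A) ⟶ I.subscheme := 𝒱.glueMorphisms c fun j j' => by
      rw [← cancel_mono I.subschemeι, Category.assoc, Category.assoc]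
      exact ((congrArg (pullback.fst (𝒱.f j) (𝒱.f j') ≫ ·) (hc j)).trans
        (pullback.condition_assoc (f := 𝒱.f j) (g := 𝒱.f j') a.hom)).trans
          (congrArg (pullback.snd (𝒱.f j) (𝒱.f j') ≫ ·) (hc j')).symm
    refine ⟨glued, 𝒱.hom_ext _ _ fun j => ?_⟩
    rw [← Category.assoc, show 𝒱.f j ≫ glued = c j from Scheme.Cover.ι_glueMorphisms _ _ _ _]
    exact hc j

end GrassLib

end
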