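import Groth.Agent.GrassLib.Points
import Mathlib.AlgebraicGeometry.Sites.Representability
import Mathlib.Logic.Small.Basic

/-!
# The Grassmannian functor on schemes over an affine base is representable
-/

set_option autoImplicit false
set_option linter.style.haveILetI false
set_option linter.unusedSectionVars false

universe u

open CategoryTheory CategoryTheory.Limits AlgebraicGeometry TopologicalSpace Opposite

noncomputable section

namespace GrassLib

variable (R : Type u) [CommRing R] (M : Type u) [AddCommGroup M] [Module R M] (k : ℕ)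

/-- A natural family of points. -/
structure Fam (T : Scheme.{u}) : Type (u + 1) where
  g : T ⟶ base R
  val : ∀ A : CommAlgCat.{u} R, APt g A → Pt R M k A
  nat : ∀ (A B : CommAlgCat.{u} R) (f : A →ₐ[R] B) (a : APt g A), val B (a.res f) = Module.Grassmannian.map f (val A a)

variable {R M k}

theorem Fam.ext' {T : Scheme.{u}} {ξ η : Fam R M k T} (hg : ξ.g = η.g)
    (h : ∀ (A : CommAlgCat.{u} R) (a : APt ξ.g A) (b : APt η.g A), a.hom = b.hom → ξ.val A a = η.val A b) : ξ = η := by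
  obtain ⟨g, v, hv⟩ := ξ
  obtain ⟨g', v', hv'⟩ := η
  dsimp only at hg h
  subst hg
  obtain rfl : v = v' := funext fun A => funext fun a => h A a a rfl
  rfl

/-- Pullback of a family. -/
def Fam.map {T T' : Scheme.{u}} (h : T' ⟶ T) (ξ : Fam R M k T) : Fam R M k T' where
  g := h ≫ ξ.g
  val A a := ξ.val A ⟨a.hom ≫ h, (Category.assoc _ _ _).trans a.over⟩
  nat A B f a := by
    rw [← ξ.nat]
    exact congrArg (ξ.val B) (APt.ext' (Category.assoc _ _ _))

theorem Fam.val_congr {T : Scheme.{u}} (ξ : Fam R M k T) {A : CommAlgCat.{u} R} {a b : APt ξ.g A} (h : a.hom = b.hom) :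
    ξ.val A a = ξ.val A b := congrArg _ (APt.ext' h)

theorem Fam.map_id {T : Scheme.{u}} (ξ : Fam R M k T) : ξ.map (𝟙 T) = ξ :=
  Fam.ext' (Category.id_comp _) fun A a b h => ξ.val_congr (by simpa using h)

theorem Fam.map_map {T T' T'' : Scheme.{u}} (h' : T'' ⟶ T') (h : T' ⟶ T) (ξ : Fam R M k T) :
    (ξ.map h).map h' = ξ.map (h' ≫ h) :=
  Fam.ext' (Category.assoc _ _ _).symm fun A a b hab => ξ.val_congr (by
    show (a.hom ≫ h') ≫ h = b.hom ≫ h' ≫ h
    rw [hab, Category.assoc])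

theorem Fam.eq_of_cover {T : Scheme.{u}} (𝒰 : T.OpenCover) {ξ η : Fam R M k T} (hg : ξ.g = η.g)
    (h : ∀ i (A : CommAlgCat.{u} R) (b : Spec (CommRingCat.of A) ⟶ 𝒰.X i) (hb : (b ≫ 𝒰.f i) ≫ ξ.g = sp A)
      (hb' : (b ≫ 𝒰.f i) ≫ η.g = sp A), ξ.val A ⟨_, hb⟩ = η.val A ⟨_, hb'⟩) : ξ = η := by
  refine Fam.ext' hg fun A a a' haa => ?_
  obtain ⟨ι, hι, s, i, b, hs, hb⟩ := exists_cover a 𝒰
  refine pt_ext s hs (fun j => Localization.Away (s j)) fun j => ?_
  refine ((ξ.nat A (CommAlgCat.of R (Localization.Away (s j))) _ a).symm.trans ?_).trans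
    (η.nat A (CommAlgCat.of R (Localization.Away (s j))) _ a')
  have hb1 : (b j ≫ 𝒰.f (i j)) ≫ ξ.g = sp (CommAlgCat.of R (Localization.Away (s j))) := by
    rw [hb j, Category.assoc, a.over, spHom_sp]
  refine (ξ.val_congr (b := ⟨_, hb1⟩) (hb j).symm).trans ((h (i j) _ (b j) hb1 (hg ▸ hb1)).trans (η.val_congr ?_))
  show b j ≫ 𝒰.f (i j) = _ ≫ a'.hom
  rw [hb j, haa]

instance small_fam (T : Scheme.{u}) : Small.{u} (Fam R M k T) := by
  have hp : ∀ g : T ⟶ base R, ∀ i, ∃ (A : CommAlgCat.{u} R) (e : Spec (CommRingCat.of A) ≅ T.affineCover.X i)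
      (a : APt g A), a.hom = e.hom ≫ T.affineCover.f i := fun g i => exists_aPt (T.affineCover.f i)
  choose Ai ei ai hai using hp
  refine small_of_injective (β := Σ g : T ⟶ base R, ∀ i, Pt R M k (Ai g i))
    (f := fun ξ => ⟨ξ.g, fun i => ξ.val _ (ai ξ.g i)⟩) fun ξ η h => ?_
  obtain ⟨g, v, hv⟩ := ξ
  obtain ⟨g', v', hv'⟩ := η
  obtain ⟨hg, hK⟩ := Sigma.mk.inj h
  dsimp only at hg
  subst hg
  refine Fam.eq_of_cover T.affineCover rfl fun i A b hb _ => ?_
  obtain ⟨f, hf⟩ := exists_spHom (A := Ai g i) (B := A) (b ≫ (ei g i).inv) (by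
    rw [← (ai g i).over, hai, ← hb]; simp [Category.assoc])
  have e : (ai g i).res f = ⟨b ≫ T.affineCover.f i, hb⟩ := APt.ext' (by
    show spHom f ≫ (ai g i).hom = _
    rw [hf, hai]; simp [Category.assoc])
  show v A ⟨b ≫ T.affineCover.f i, hb⟩ = v' A ⟨b ≫ T.affineCover.f i, hb⟩
  rw [← e, hv, hv', show v (Ai g i) (ai g i) = v' (Ai g i) (ai g i) from congrFun (eq_of_heq hK) i]

variable (R M k) in
/-- The Grassmannian functor on schemes. -/
def gF : Scheme.{u}ᵒᵖ ⥤ Type u where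
  obj T := Shrink.{u} (Fam R M k T.unop)
  map h := TypeCat.ofHom fun x => equivShrink _ (((equivShrink _).symm x).map h.unop)
  map_id T := ConcreteCategory.hom_ext _ _ fun x => by
    show equivShrink _ (((equivShrink _).symm x).map (𝟙 T.unop)) = x
    rw [Fam.map_id, Equiv.apply_symm_apply]
  map_comp h h' := ConcreteCategory.hom_ext _ _ fun x => by
    show equivShrink _ (((equivShrink _).symm x).map (h'.unop ≫ h.unop)) =
      equivShrink _ (((equivShrink _).symm (equivShrink _ (((equivShrink _).symm x).map h.unop))).map h'.unop)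
    rw [Equiv.symm_apply_apply, Fam.map_map]

/-- The family of an element. -/
abbrev toFam {T : Scheme.{u}} (x : (gF R M k).obj (op T)) : Fam R M k T := (equivShrink _).symm x

/-- The element of a family. -/
abbrev ofFam {T : Scheme.{u}} (ξ : Fam R M k T) : (gF R M k).obj (op T) := equivShrink _ ξ

theorem gF_map {T T' : Scheme.{u}} (h : T' ⟶ T) (ξ : Fam R M k T) :
    (gF R M k).map h.op (ofFam ξ) = ofFam (ξ.map h) := by
  show equivShrink _ (((equivShrink _).symm (equivShrink _ ξ)).map h) = _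
  rw [Equiv.symm_apply_apply]

theorem Fam.val_eq_of_map_eq {T₁ T₂ : Scheme.{u}} {ξ₁ : Fam R M k T₁} {ξ₂ : Fam R M k T₂} {A : CommAlgCat.{u} R}
    (c₁ : APt ξ₁.g A) (c₂ : APt ξ₂.g A) (h : ξ₁.map c₁.hom = ξ₂.map c₂.hom) : ξ₁.val A c₁ = ξ₂.val A c₂ := by
  have h3 : ∀ {η₁ η₂ : Fam R M k (Spec (CommRingCat.of A))}, η₁ = η₂ →
      ∀ (d₁ : APt η₁.g A) (d₂ : APt η₂.g A), d₁.hom = d₂.hom → η₁.val A d₁ = η₂.val A d₂ := by
    rintro η₁ _ rfl d₁ d₂ hd
    exact η₁.val_congr hd
  refine (ξ₁.val_congr (Category.id_comp _).symm).trans ((h3 h ⟨𝟙 _, ?_⟩ ⟨𝟙 _, ?_⟩ rfl).trans (ξ₂.val_congr (Category.id_comp _)))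
  · exact (Category.id_comp _).trans c₁.over
  · exact (Category.id_comp _).trans c₂.over

section Glue

variable {T : Scheme.{u}} (𝒰 : T.OpenCover) (ξ : ∀ i, Fam R M k (𝒰.X i)) (g : T ⟶ base R)

/-- Families agree on overlaps. -/
def Agree : Prop := ∀ (A : CommAlgCat.{u} R) (i j : 𝒰.I₀) (c : APt (ξ i).g A) (d : APt (ξ j).g A),
  c.hom ≫ 𝒰.f i = d.hom ≫ 𝒰.f j → (ξ i).val A c = (ξ j).val A d

variable {𝒰 ξ g}

theorem compat_of_agree (hag : Agree 𝒰 ξ) {A : CommAlgCat.{u} R} (a : APt g A) {ι : Type} (Bi : ι → CommAlgCat.{u} R)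
    (f : ∀ j, A →ₐ[R] Bi j) (i : ι → 𝒰.I₀) (bj : ∀ j, APt (ξ (i j)).g (Bi j))
    (hb : ∀ j, (bj j).hom ≫ 𝒰.f (i j) = spHom (f j) ≫ a.hom) (j j' : ι) (C : CommAlgCat.{u} R)
    (p : Bi j →ₐ[R] C) (q : Bi j' →ₐ[R] C) (hpq : p.comp (f j) = q.comp (f j')) :
    Module.Grassmannian.map p ((ξ (i j)).val _ (bj j)) = Module.Grassmannian.map q ((ξ (i j')).val _ (bj j')) := by
  rw [← (ξ (i j)).nat, ← (ξ (i j')).nat]
  refine hag C _ _ _ _ ?_
  show (spHom p ≫ (bj j).hom) ≫ 𝒰.f (i j) = (spHom q ≫ (bj j').hom) ≫ 𝒰.f (i j')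
  rw [Category.assoc, Category.assoc, hb, hb, ← Category.assoc, ← spHom_comp, ← Category.assoc, ← spHom_comp, hpq]

theorem existsUnique_val (hag : Agree 𝒰 ξ) (hg : ∀ i, 𝒰.f i ≫ g = (ξ i).g) (A : CommAlgCat.{u} R) (a : APt g A) :
    ∃! N : Pt R M k A, ∀ (i : 𝒰.I₀) (B : CommAlgCat.{u} R) (f : A →ₐ[R] B) (b : APt (ξ i).g B),
      b.hom ≫ 𝒰.f i = spHom f ≫ a.hom → Module.Grassmannian.map f N = (ξ i).val B b := by
  obtain ⟨ι, hι, s, i, b, hs, hb⟩ := exists_cover a 𝒰
  have hbo : ∀ j, b j ≫ (ξ (i j)).g = sp (CommAlgCat.of R (Localization.Away (s j))) := fun j => by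
    rw [← hg, ← Category.assoc, hb j, Category.assoc, a.over, spHom_sp]
  obtain ⟨N, hN⟩ := exists_glue s hs (fun j => Localization.Away (s j))
    (fun j => (ξ (i j)).val (CommAlgCat.of R (Localization.Away (s j))) ⟨b j, hbo j⟩)
    (fun j j' C _ _ p q hpq => compat_of_agree hag a (fun j => CommAlgCat.of R (Localization.Away (s j)))
      (fun j => IsScalarTower.toAlgHom R A (Localization.Away (s j))) i (fun j => ⟨b j, hbo j⟩) hb j j'
      (CommAlgCat.of R C) p q hpq)
  refine ⟨N, fun i₀ B f c hc => ?_, fun N' hN' => pt_ext s hs (fun j => Localization.Away (s j)) fun j => ?_⟩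
  · refine pt_ext (fun j => f (s j)) ?_ (fun j => Localization.Away (f (s j))) fun j => ?_
    · have := congrArg (Ideal.map f.toRingHom) hs
      rwa [Ideal.map_span, Ideal.map_top, ← Set.range_comp] at this
    let Cj : CommAlgCat.{u} R := CommAlgCat.of R (Localization.Away (f (s j)))
    let t : B →ₐ[R] Cj := IsScalarTower.toAlgHom R B (Localization.Away (f (s j)))
    have hu : ∀ y : Submonoid.powers (s j), IsUnit (t.comp f (y : A)) := by
      rintro ⟨_, n, rfl⟩
      rw [map_pow]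
      exact (IsLocalization.Away.algebraMap_isUnit (S := Localization.Away (f (s j))) (f (s j))).pow n
    let l : CommAlgCat.of R (Localization.Away (s j)) →ₐ[R] Cj :=
      IsLocalization.liftAlgHom (M := Submonoid.powers (s j)) (S := Localization.Away (s j)) (f := t.comp f) hu
    have hl : l.comp (IsScalarTower.toAlgHom R A (Localization.Away (s j))) = t.comp f := AlgHom.ext fun r => by
      show IsLocalization.liftAlgHom (M := Submonoid.powers (s j)) (S := Localization.Away (s j)) (f := t.comp f) hu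
        (algebraMap A (Localization.Away (s j)) r) = _
      rw [IsLocalization.liftAlgHom_apply, IsLocalization.lift_eq]
      rfl
    show Module.Grassmannian.map t (Module.Grassmannian.map f N) = Module.Grassmannian.map t ((ξ i₀).val B c)
    rw [map_map, ← hl, ← map_map]
    have h0 : Module.Grassmannian.map (IsScalarTower.toAlgHom R A (Localization.Away (s j))) N =
        (ξ (i j)).val (CommAlgCat.of R (Localization.Away (s j))) ⟨b j, hbo j⟩ := hN j
    refine (congrArg (Module.Grassmannian.map l) h0).trans ?_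
    rw [← (ξ (i j)).nat, ← (ξ i₀).nat]
    refine hag Cj _ _ _ _ ?_
    show (spHom l ≫ b j) ≫ 𝒰.f (i j) = (spHom t ≫ c.hom) ≫ 𝒰.f i₀
    rw [Category.assoc, Category.assoc, hb, hc, ← Category.assoc, ← spHom_comp, ← Category.assoc, ← spHom_comp, hl]
  · rw [hN j]
    exact hN' (i j) (CommAlgCat.of R (Localization.Away (s j))) _ ⟨b j, hbo j⟩ (hb j)

end Glue

theorem isSheaf_gF : Presheaf.IsSheaf Scheme.zariskiTopology (gF R M k) := by
  rw [isSheaf_iff_isSheaf_of_type, Precoverage.isSheaf_toGrothendieck_iff_of_isStableUnderBaseChange_of_small.{u}]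
  intro T (𝒰 : T.OpenCover)
  refine (Presieve.isSheafFor_arrows_iff _ _).2 fun a₀ ha₀ => ?_
  let ξ : ∀ i, Fam R M k (𝒰.X i) := fun i => toFam (a₀ i)
  have ha : ∀ i j (Z : Scheme.{u}) (gi : Z ⟶ 𝒰.X i) (gj : Z ⟶ 𝒰.X j), gi ≫ 𝒰.f i = gj ≫ 𝒰.f j →
      (ξ i).map gi = (ξ j).map gj := fun i j Z gi gj h =>
    (equivShrink (Fam R M k Z)).injective (ha₀ i j Z gi gj h)
  let g : T ⟶ base R := 𝒰.glueMorphisms (fun i => (ξ i).g) fun i j =>
    congrArg Fam.g (ha i j _ (pullback.fst _ _) (pullback.snd _ _) pullback.condition)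
  have hg : ∀ i, 𝒰.f i ≫ g = (ξ i).g := fun i => Scheme.Cover.ι_glueMorphisms 𝒰 _ _ i
  have hag : Agree 𝒰 ξ := fun A i j c d h => Fam.val_eq_of_map_eq c d (ha i j _ c.hom d.hom h)
  have key := existsUnique_val hag hg
  choose v hv huniq using key
  let ζ : Fam R M k T := ⟨g, v, fun A B f a => (huniq B (a.res f) _ fun i C f' b hb => by
    rw [map_map]
    exact hv A a i C (f'.comp f) b (by rw [hb, spHom_comp, Category.assoc]; rfl)).symm⟩
  have hζ : ∀ i, ζ.map (𝒰.f i) = ξ i := fun i => Fam.ext' (hg i) fun A a b hab => by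
    refine Eq.trans ?_ (hv A ⟨a.hom ≫ 𝒰.f i, (Category.assoc _ _ _).trans a.over⟩ i A (AlgHom.id R A) b ?_)
    · exact (Module.Grassmannian.map_id k A _).symm
    · show b.hom ≫ 𝒰.f i = Spec.map (𝟙 _) ≫ a.hom ≫ 𝒰.f i
      rw [Spec.map_id, Category.id_comp, hab]
  refine ⟨ofFam ζ, fun i => ?_, fun y hy => ?_⟩
  · show (gF R M k).map (𝒰.f i).op (ofFam ζ) = a₀ i
    rw [gF_map, hζ]
    exact Equiv.apply_symm_apply _ _
  · obtain ⟨η, rfl⟩ := (equivShrink (Fam R M k T)).surjective y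
    have hy' : ∀ i, η.map (𝒰.f i) = ξ i := fun i => by
      have h := hy i
      change (gF R M k).map (𝒰.f i).op (ofFam η) = a₀ i at h
      rw [gF_map] at h
      exact ((Equiv.symm_apply_eq _).2 h.symm).symm
    refine congrArg _ (Fam.eq_of_cover 𝒰 (𝒰.hom_ext _ _ fun i => ?_) fun i A b hb hb' => ?_)
    · exact congrArg Fam.g ((hy' i).trans (hζ i).symm)
    · have h3 : ∀ {ξ₁ ξ₂ : Fam R M k (𝒰.X i)}, ξ₁ = ξ₂ →
          ∀ (c₁ : APt ξ₁.g A) (c₂ : APt ξ₂.g A), c₁.hom = c₂.hom → ξ₁.val A c₁ = ξ₂.val A c₂ := by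
        rintro ξ₁ _ rfl c₁ c₂ hc
        exact ξ₁.val_congr hc
      exact h3 ((hy' i).trans (hζ i).symm) ⟨b, (Category.assoc _ _ _).symm.trans hb⟩
        ⟨b, (Category.assoc _ _ _).symm.trans hb'⟩ rfl

variable (R) in
/-- A chart as an algebra. -/
abbrev chartAlg (x : Fin k → M) : CommAlgCat.{u} R := CommAlgCat.of R (ChartRing R M x)

variable (R) in
/-- The universal family of a chart. -/
def chartFam (x : Fin k → M) : Fam R M k (Spec (CommRingCat.of (chartAlg R x))) where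
  g := sp (chartAlg R x)
  val A a := Module.Grassmannian.map (exists_spHom a.hom a.over).choose (chartUniv R x)
  nat A B f a := by
    rw [map_map]
    congr 1
    refine spHom_injective ?_
    rw [(exists_spHom (a.res f).hom (a.res f).over).choose_spec, spHom_comp,
      (exists_spHom a.hom a.over).choose_spec]
    rfl

theorem chartFam_val (x : Fin k → M) {A : CommAlgCat.{u} R} (f : chartAlg R x →ₐ[R] A)
    (a : APt (chartFam (R := R) x).g A) (ha : spHom f = a.hom) :
    (chartFam R x).val A a = Module.Grassmannian.map f (chartUniv R x) := by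
  show Module.Grassmannian.map (exists_spHom a.hom a.over).choose _ = _
  congr 1
  exact spHom_injective ((exists_spHom a.hom a.over).choose_spec.trans ha.symm)

theorem isIn_chartFam (x : Fin k → M) {A : CommAlgCat.{u} R} (a : APt (chartFam (R := R) x).g A) :
    IsIn x ((chartFam R x).val A a) := isIn_map_chartUniv _

theorem exists_aPt_cover {T : Scheme.{u}} (g : T ⟶ base R) (i : T.affineCover.I₀) :
    ∃ (A : CommAlgCat.{u} R) (e : Spec (CommRingCat.of A) ≅ T.affineCover.X i) (a : APt g A),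
      a.hom = e.hom ≫ T.affineCover.f i ∧ IsOpenImmersion a.hom := by
  obtain ⟨A, e, a, ha⟩ := exists_aPt (g := g) (T.affineCover.f i)
  let e' : Spec (CommRingCat.of A) ≅ T.affineCover.X i := e
  have ha' : a.hom = e'.hom ≫ T.affineCover.f i := ha
  exact ⟨A, e', a, ha', by rw [ha']; infer_instance⟩

/-- The points in a chart. -/
def locus (x : Fin k → M) {T : Scheme.{u}} (ξ : Fam R M k T) : Set T :=
  {t | ∃ (A : CommAlgCat.{u} R) (a : APt ξ.g A) (p : PrimeSpectrum A), a.hom p = t ∧ ¬ obstr x (ξ.val A a) ≤ p.asIdeal}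

theorem mem_locus_iff (x : Fin k → M) {T : Scheme.{u}} (ξ : Fam R M k T) {A : CommAlgCat.{u} R} (a : APt ξ.g A)
    (p : PrimeSpectrum A) : a.hom p ∈ locus x ξ ↔ ¬ obstr x (ξ.val A a) ≤ p.asIdeal := by
  refine ⟨?_, fun h => ⟨A, a, p, rfl, h⟩⟩
  rintro ⟨B, b, q, hq, hb⟩ hle
  obtain ⟨K, _, _, φ, ψ, hφ, hψ, hres⟩ := exists_common_field b a hq
  have h1 : ξ.val (CommAlgCat.of R K) (b.res φ) = ξ.val _ (a.res ψ) := congrArg _ hres
  rw [ξ.nat, ξ.nat] at h1
  have hK : ∀ {C : CommAlgCat.{u} R} (χ : C →ₐ[R] K) (J : Ideal C), J.map χ.toRingHom = ⊤ ↔ ¬ J ≤ RingHom.ker χ.toRingHom :=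
    fun χ J => by
      rw [← Ideal.map_eq_bot_iff_le_ker]
      exact ⟨fun h h0 => top_ne_bot (h.symm.trans h0), fun h => (Ideal.eq_bot_or_top _).resolve_left h⟩
  have h2 : IsIn x (Module.Grassmannian.map φ (ξ.val B b)) := (isIn_map_iff φ).2 ((hK φ _).2 (hφ ▸ hb))
  rw [h1] at h2
  exact (hK ψ _).1 ((isIn_map_iff ψ).1 h2) (hψ ▸ hle)

theorem isOpen_locus (x : Fin k → M) {T : Scheme.{u}} (ξ : Fam R M k T) : IsOpen (locus x ξ) := by
  rw [isOpen_iff_forall_mem_open]
  intro t ht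
  obtain ⟨i, y, rfl⟩ := T.affineCover.exists_eq t
  obtain ⟨A, e, a, ha, hopen⟩ := exists_aPt_cover ξ.g i
  let O : Set (Spec (CommRingCat.of A)) := (PrimeSpectrum.zeroLocus (obstr x (ξ.val A a) : Set A))ᶜ
  refine ⟨a.hom '' O, ?_, a.hom.isOpenEmbedding.isOpenMap _ (PrimeSpectrum.isClosed_zeroLocus _).isOpen_compl, ?_⟩
  · rintro _ ⟨p, hp, rfl⟩
    exact (mem_locus_iff x ξ a p).2 hp
  · have hy : a.hom (e.inv y) = T.affineCover.f i y := by
      rw [ha, ← Scheme.Hom.comp_apply, Iso.inv_hom_id_assoc]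
    exact ⟨e.inv y, (mem_locus_iff x ξ a _).1 (hy ▸ ht), hy⟩

theorem range_subset_locus_iff (x : Fin k → M) {T : Scheme.{u}} (ξ : Fam R M k T) {A : CommAlgCat.{u} R}
    (a : APt ξ.g A) : Set.range a.hom ⊆ locus x ξ ↔ IsIn x (ξ.val A a) := by
  have h : IsIn x (ξ.val A a) ↔ obstr x (ξ.val A a) = ⊤ := by
    have := isIn_map_iff (x := x) (N := ξ.val A a) (AlgHom.id R A)
    rwa [Module.Grassmannian.map_id k A, show (AlgHom.id R A).toRingHom = RingHom.id A from rfl, Ideal.map_id] at this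
  rw [h]
  constructor
  · intro hr
    by_contra hne
    obtain ⟨m, hm, hle⟩ := Ideal.exists_le_maximal _ hne
    exact (mem_locus_iff x ξ a ⟨m, hm.isPrime⟩).1 (hr ⟨_, rfl⟩) hle
  · rintro hJ _ ⟨p, rfl⟩
    refine (mem_locus_iff x ξ a p).2 fun hle => p.isPrime.ne_top (top_le_iff.1 (hJ ▸ hle))

theorem exists_chart_hom (x : Fin k → M) {T : Scheme.{u}} (ξ : Fam R M k T) (hξ : locus x ξ = Set.univ) :
    ∃! c : T ⟶ Spec (CommRingCat.of (chartAlg R x)), (chartFam R x).map c = ξ := by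
  have hin : ∀ (A : CommAlgCat.{u} R) (a : APt ξ.g A), IsIn x (ξ.val A a) := fun A a =>
    (range_subset_locus_iff x ξ a).1 (hξ ▸ Set.subset_univ _)
  let φ : ∀ A : CommAlgCat.{u} R, APt ξ.g A → (Spec (CommRingCat.of A) ⟶ Spec (CommRingCat.of (chartAlg R x))) :=
    fun A a => spHom (existsUnique_chartHom (hin A a)).choose
  have hφ : ∀ (A B : CommAlgCat.{u} R) (f : A →ₐ[R] B) (a : APt ξ.g A), φ B (a.res f) = spHom f ≫ φ A a :=
    fun A B f a => by
      show spHom _ = spHom f ≫ spHom _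
      rw [← spHom_comp]
      congr 1
      refine ((existsUnique_chartHom (hin B (a.res f))).unique (existsUnique_chartHom (hin B (a.res f))).choose_spec.1 ?_)
      rw [← map_map, (existsUnique_chartHom (hin A a)).choose_spec.1, ξ.nat]
  obtain ⟨c, hc, hcu⟩ := existsUnique_hom_of_natural φ hφ
  have hcg : c ≫ sp (chartAlg R x) = ξ.g := T.affineCover.hom_ext _ _ fun i => by
    obtain ⟨A, e, a, ha, hopen⟩ := exists_aPt_cover ξ.g i
    rw [← cancel_epi e.hom, ← Category.assoc, ← Category.assoc, ← Category.assoc, ← ha, a.over, Category.assoc,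
      ← Category.assoc, hc A a]
    exact spHom_sp _
  refine ⟨c, Fam.ext' hcg fun A a b hab => ?_, fun c' hc' => hcu c' fun A a => ?_⟩
  · show (chartFam R x).val A _ = _
    rw [chartFam_val x (existsUnique_chartHom (hin A b)).choose _ (by
      show spHom _ = a.hom ≫ c
      rw [hab, hc A b]), (existsUnique_chartHom (hin A b)).choose_spec.1]
  · have hcg' : (a.hom ≫ c') ≫ sp (chartAlg R x) = sp A := by
      rw [Category.assoc, show c' ≫ sp (chartAlg R x) = ξ.g from congrArg Fam.g hc', a.over]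
    obtain ⟨f, hf⟩ := exists_spHom (a.hom ≫ c') hcg'
    rw [← hf]
    show spHom f = spHom _
    congr 1
    refine (existsUnique_chartHom (hin A a)).unique ?_ (existsUnique_chartHom (hin A a)).choose_spec.1
    have h3 : ∀ {ξ₁ ξ₂ : Fam R M k T}, ξ₁ = ξ₂ →
        ∀ (c₁ : APt ξ₁.g A) (c₂ : APt ξ₂.g A), c₁.hom = c₂.hom → ξ₁.val A c₁ = ξ₂.val A c₂ := by
      rintro ξ₁ _ rfl c₁ c₂ hc
      exact ξ₁.val_congr hc
    rw [← h3 hc' ⟨a.hom, (Category.assoc _ _ _).symm.trans hcg'⟩ a rfl]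
    exact (chartFam_val x f _ hf).symm

variable (R) in
/-- A chart as a morphism of presheaves. -/
def chartMap (x : Fin k → M) : yoneda.obj (Spec (CommRingCat.of (chartAlg R x))) ⟶ gF R M k :=
  yonedaEquiv.symm (ofFam (chartFam R x))

theorem chartMap_app (x : Fin k → M) {Z : Scheme.{u}} (c : Z ⟶ Spec (CommRingCat.of (chartAlg R x))) :
    (chartMap R x).app (op Z) c = ofFam ((chartFam R x).map c) :=
  (yonedaEquiv_symm_app_apply (F := gF R M k) _ (op Z) c).trans (gF_map c _)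

theorem locus_map (x : Fin k → M) {T T' : Scheme.{u}} (h : T' ⟶ T) (ξ : Fam R M k T) :
    locus x (ξ.map h) = h ⁻¹' locus x ξ := by
  refine Set.ext fun t => ?_
  obtain ⟨i, y, rfl⟩ := T'.affineCover.exists_eq t
  obtain ⟨A, e, a, ha, hopen⟩ := exists_aPt_cover (ξ.map h).g i
  have hy : a.hom (e.inv y) = T'.affineCover.f i y := by
    rw [ha, ← Scheme.Hom.comp_apply, Iso.inv_hom_id_assoc]
  rw [← hy, mem_locus_iff x (ξ.map h) a, Set.mem_preimage, ← Scheme.Hom.comp_apply,
    mem_locus_iff x ξ ⟨a.hom ≫ h, (Category.assoc _ _ _).trans a.over⟩]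
  rfl

theorem locus_chartFam (x : Fin k → M) : locus x (chartFam R x) = Set.univ := by
  refine Set.eq_univ_of_forall fun t => ?_
  let a : APt (chartFam (R := R) x).g (chartAlg R x) := ⟨𝟙 _, Category.id_comp _⟩
  exact (range_subset_locus_iff x (chartFam R x) a).2 (isIn_chartFam x a) ⟨t, rfl⟩

theorem chartMap_relative (x : Fin k → M) : IsOpenImmersion.presheaf (chartMap R x) := by
  refine MorphismProperty.relative.of_exists fun T g => ?_
  let ξ := toFam (show (gF R M k).obj (op T) from yonedaEquiv g)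
  let V : T.Opens := ⟨locus x ξ, isOpen_locus x ξ⟩
  have hV : locus x (ξ.map V.ι) = Set.univ := by
    rw [locus_map]
    exact Set.eq_univ_of_forall fun t => t.2
  obtain ⟨c, hc, hcu⟩ := exists_chart_hom x (ξ.map V.ι) hV
  have hg : ∀ (Z : Scheme.{u}) (h : Z ⟶ T), g.app (op Z) h = ofFam (ξ.map h) := fun Z h => by
    rw [← gF_map, show ofFam ξ = yonedaEquiv g from Equiv.apply_symm_apply _ _]
    exact (map_yonedaEquiv g h).symm
  refine ⟨V.toScheme, yoneda.map c, V.ι, ?_, inferInstanceAs (IsOpenImmersion V.ι)⟩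
  refine IsPullback.of_forall_isPullback_app fun Z => ?_
  rw [Types.isPullback_iff]
  refine ⟨?_, ?_, ?_⟩
  · ext (h : Z.unop ⟶ V.toScheme)
    show (chartMap R x).app Z (h ≫ c) = g.app Z (h ≫ V.ι)
    refine (chartMap_app x (h ≫ c)).trans (Eq.trans ?_ (hg Z.unop (h ≫ V.ι)).symm)
    rw [← Fam.map_map, hc, Fam.map_map]
  · rintro x₁ x₂ ⟨-, h2⟩
    exact (cancel_mono V.ι).1 (show x₁ ≫ V.ι = x₂ ≫ V.ι from h2)
  · intro (x₂ : Z.unop ⟶ Spec (CommRingCat.of (chartAlg R x))) (x₃ : Z.unop ⟶ T) hx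
    have hrel : (chartFam R x).map x₂ = ξ.map x₃ :=
      (equivShrink _).injective ((chartMap_app x x₂).symm.trans (hx.trans (hg Z.unop x₃)))
    have hr : Set.range x₃ ⊆ Set.range V.ι := by
      rw [Scheme.Opens.range_ι]
      rintro _ ⟨z, rfl⟩
      show z ∈ x₃ ⁻¹' locus x ξ
      rw [← locus_map, ← hrel, locus_map, locus_chartFam]
      trivial
    let l : Z.unop ⟶ V.toScheme := IsOpenImmersion.lift V.ι x₃ hr
    have hl : l ≫ V.ι = x₃ := IsOpenImmersion.lift_fac _ _ _
    refine ⟨l, ?_, hl⟩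
    show l ≫ c = x₂
    have hu : locus x ((chartFam R x).map x₂) = Set.univ := by rw [locus_map, locus_chartFam]; rfl
    refine (exists_chart_hom x ((chartFam R x).map x₂) hu).unique ?_ rfl
    rw [← Fam.map_map, hc, Fam.map_map, hl, hrel]

variable (R M k) in
theorem nonempty_representableBy : ∃ G : Scheme.{u}, Nonempty ((gF R M k).RepresentableBy G) := by
  classical
  let F : Sheaf Scheme.zariskiTopology.{u} (Type u) := ⟨gF R M k, isSheaf_gF⟩
  let f : ∀ x : Fin k → M, yoneda.obj (Spec (CommRingCat.of (chartAlg R x))) ⟶ F.1 := fun x => chartMap R x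
  have hf : ∀ x, IsOpenImmersion.presheaf (f x) := fun x => chartMap_relative x
  haveI : Presheaf.IsLocallySurjective Scheme.zariskiTopology (Sigma.desc f) := ⟨fun {T} e => by
    let ξ := toFam (show (gF R M k).obj (op T) from e)
    have hk : ∀ t : T, ∃ x, t ∈ locus x ξ := fun t => by
      obtain ⟨i, y, rfl⟩ := T.affineCover.exists_eq t
      obtain ⟨A, w, a, ha, hopen⟩ := exists_aPt_cover ξ.g i
      let p : PrimeSpectrum A := w.inv y
      let φ : A →ₐ[R] p.asIdeal.ResidueField := IsScalarTower.toAlgHom R A _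
      obtain ⟨x, hx⟩ := exists_isIn (Module.Grassmannian.map φ (ξ.val A a))
      refine ⟨x, ?_⟩
      have hy : a.hom p = T.affineCover.f i y := by
        rw [ha, ← Scheme.Hom.comp_apply, Iso.inv_hom_id_assoc]
      rw [← hy, mem_locus_iff]
      intro hle
      have h1 := (isIn_map_iff φ).1 hx
      have h2 : (obstr x (ξ.val A a)).map φ.toRingHom ≤ ⊥ := by
        rw [Ideal.map_le_iff_le_comap]
        intro r hr
        show algebraMap A p.asIdeal.ResidueField r = 0
        rw [Ideal.algebraMap_residueField_eq_zero]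
        exact hle hr
      exact top_ne_bot (h1.symm.trans (le_bot_iff.1 h2))
    choose x hx using hk
    let V : T → T.Opens := fun t => ⟨locus (x t) ξ, isOpen_locus (x t) ξ⟩
    let 𝒰 : T.OpenCover := T.openCoverOfIsOpenCover V
      (top_le_iff.1 fun t _ => TopologicalSpace.Opens.mem_iSup.2 ⟨t, hx t⟩)
    refine GrothendieckTopology.superset_covering _ ?_ 𝒰.mem_grothendieckTopology
    rw [Sieve.generate_le_iff]
    rintro _ _ ⟨t⟩
    have hV : locus (x t) (ξ.map (V t).ι) = Set.univ := by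
      rw [locus_map]
      exact Set.eq_univ_of_forall fun s => s.2
    obtain ⟨c, hc, -⟩ := exists_chart_hom (x t) (ξ.map (V t).ι) hV
    refine ⟨(Sigma.ι (fun x => yoneda.obj (Spec (CommRingCat.of (chartAlg R x)))) (x t)).app _ c, ?_⟩
    show ((Sigma.ι _ (x t)) ≫ Sigma.desc f).app _ c = _
    rw [Sigma.ι_desc]
    refine (chartMap_app (x t) c).trans ?_
    rw [hc, ← gF_map, show ofFam ξ = e from Equiv.apply_symm_apply _ _]
    rfl⟩
  exact ⟨_, ⟨Scheme.LocalRepresentability.representableBy (F := F) hf⟩⟩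

variable (R M k) in
/-- The Grassmannian represents the functor on algebras. -/
theorem exists_rep : ∃ (X : Over (base R))
    (e : ∀ A : CommAlgCat.{u} R, (Over.mk (sp A) ⟶ X) ≃ Pt R M k A),
    ∀ (A B : CommAlgCat.{u} R) (φ : A →ₐ[R] B) (g : Over.mk (sp A) ⟶ X) (g' : Over.mk (sp B) ⟶ X),
      g'.left = spHom φ ≫ g.left → e B g' = Module.Grassmannian.map φ (e A g) := by
  obtain ⟨G, ⟨Rp⟩⟩ := nonempty_representableBy R M k
  let ξ := toFam (Rp.homEquiv (𝟙 G))
  have hR : ∀ {T : Scheme.{u}} (h : T ⟶ G), toFam (Rp.homEquiv h) = ξ.map h := fun {T} h => by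
    have h1 := Rp.homEquiv_comp h (𝟙 G)
    rw [Category.comp_id, show Rp.homEquiv (𝟙 G) = ofFam ξ from (Equiv.apply_symm_apply _ _).symm, gF_map] at h1
    rw [h1]
    exact Equiv.symm_apply_apply _ _
  let idFam : ∀ A : CommAlgCat.{u} R, Pt R M k A → Fam R M k (Spec (CommRingCat.of A)) := fun A N =>
    { g := sp A
      val := fun B b => Module.Grassmannian.map (exists_spHom b.hom b.over).choose N
      nat := fun B C f b => by
        rw [map_map]
        congr 1
        refine spHom_injective ?_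
        rw [(exists_spHom (b.res f).hom (b.res f).over).choose_spec, spHom_comp,
          (exists_spHom b.hom b.over).choose_spec]
        rfl }
  have hov : ∀ (A : CommAlgCat.{u} R) (g : Over.mk (sp A) ⟶ Over.mk ξ.g), g.left ≫ ξ.g = sp A := fun A g => Over.w g
  have h3 : ∀ {T : Scheme.{u}} {A : CommAlgCat.{u} R} {ξ₁ ξ₂ : Fam R M k T}, ξ₁ = ξ₂ →
      ∀ (c₁ : APt ξ₁.g A) (c₂ : APt ξ₂.g A), c₁.hom = c₂.hom → ξ₁.val A c₁ = ξ₂.val A c₂ := by
    rintro T A ξ₁ _ rfl c₁ c₂ hc
    exact ξ₁.val_congr hc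
  refine ⟨Over.mk ξ.g, fun A =>
    { toFun := fun g => ξ.val A ⟨g.left, hov A g⟩
      invFun := fun N => Over.homMk (Rp.homEquiv.symm (ofFam (idFam A N))) (by
        have h := hR (Rp.homEquiv.symm (ofFam (idFam A N)))
        rw [Equiv.apply_symm_apply] at h
        exact ((congrArg Fam.g h).symm.trans (congrArg Fam.g (Equiv.symm_apply_apply (equivShrink _) _))))
      left_inv := fun g => Over.OverMorphism.ext ?_
      right_inv := fun N => ?_ }, fun A B φ g g' hg => ?_⟩
  · show Rp.homEquiv.symm _ = g.left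
    rw [Equiv.symm_apply_eq]
    refine ((equivShrink _).symm_apply_eq.1 ((hR g.left).trans ?_)).symm
    refine Fam.ext' (hov A g) fun B b c hbc => ?_
    show ξ.val B _ = Module.Grassmannian.map _ (ξ.val A _)
    rw [← ξ.nat]
    refine ξ.val_congr ?_
    show b.hom ≫ g.left = spHom _ ≫ g.left
    rw [(exists_spHom c.hom c.over).choose_spec, hbc]
  · have h := hR (Rp.homEquiv.symm (ofFam (idFam A N)))
    rw [Equiv.apply_symm_apply, show toFam (ofFam (idFam A N)) = idFam A N from Equiv.symm_apply_apply _ _] at h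
    refine (ξ.val_congr (Category.id_comp _).symm).trans ((h3 h.symm ⟨𝟙 _, ?_⟩ ⟨𝟙 _, Category.id_comp _⟩ rfl).trans ?_)
    · exact (Category.id_comp _).trans (congrArg Fam.g h).symm
    · show Module.Grassmannian.map _ N = N
      rw [show (exists_spHom (A := A) (B := A) (𝟙 _) (Category.id_comp _)).choose = AlgHom.id R A from
        spHom_injective ((exists_spHom (A := A) (B := A) (𝟙 _) (Category.id_comp _)).choose_spec.trans (Spec.map_id _).symm)]
      exact Module.Grassmannian.map_id k A N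
  · show ξ.val B _ = Module.Grassmannian.map φ (ξ.val A _)
    rw [← ξ.nat]
    exact ξ.val_congr hg

end GrassLib

end
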