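import Groth.Agent.GrassLib.PluckerImm
import Groth.Agent.ChowLib.Embed
import Mathlib.AlgebraicGeometry.Morphisms.Proper

/-!
# Products of Grassmannians and linked Grassmannians
-/

set_option autoImplicit false
set_option linter.style.haveILetI false
set_option linter.unusedSectionVars false

universe u

open TensorProduct TensorProduct.AlgebraTensorModule CategoryTheory CategoryTheory.Limits AlgebraicGeometry

noncomputable section

namespace GrassLib

section MapsIdeal

variable {R : Type u} [CommRing R] {M₁ M₂ : Type u} [AddCommGroup M₁] [Module R M₁] [AddCommGroup M₂] [Module R M₂]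
variable {k₁ k₂ : ℕ} {A B : Type u} [CommRing A] [Algebra R A] [CommRing B] [Algebra R B]
variable (L : M₁ →ₗ[R] M₂)

/-- The ideal where a linear map carries one point into another. -/
def mapsIdeal (N : Pt R M₁ k₁ A) (N' : Pt R M₂ k₂ A) : Ideal A :=
  Ideal.span {a | ∃ (φ : Module.Dual A ((A ⊗[R] M₂) ⧸ N'.toSubmodule)) (x : A ⊗[R] M₁),
    x ∈ N.toSubmodule ∧ a = φ (N'.toSubmodule.mkQ (L.baseChange A x))}

theorem mapsIdeal_eq_bot_iff (N : Pt R M₁ k₁ A) (N' : Pt R M₂ k₂ A) :
    mapsIdeal L N N' = ⊥ ↔ Submodule.map (L.baseChange A) N.toSubmodule ≤ N'.toSubmodule := by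
  refine ⟨fun h => ?_, fun h => ?_⟩
  · rintro _ ⟨x, hx, rfl⟩
    obtain ⟨n, φ, y, hy⟩ := exists_dual_system N'
    have h0 : ∀ j, φ j (N'.toSubmodule.mkQ (L.baseChange A x)) = 0 := fun j => by
      rw [← Submodule.mem_bot A, ← h]
      exact Ideal.subset_span ⟨φ j, x, hx, rfl⟩
    have := hy (L.baseChange A x)
    simp only [h0, zero_smul, Finset.sum_const_zero, sub_zero] at this
    exact this
  · rw [mapsIdeal, Ideal.span_eq_bot]
    rintro _ ⟨φ, x, hx, rfl⟩
    rw [Submodule.mkQ_apply, (Submodule.Quotient.mk_eq_zero _).2 (h ⟨x, hx, rfl⟩), map_zero]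

theorem mapsIdeal_map (f : A →ₐ[R] B) (N : Pt R M₁ k₁ A) (N' : Pt R M₂ k₂ A) :
    mapsIdeal L (Module.Grassmannian.map f N) (Module.Grassmannian.map f N') = (mapsIdeal L N N').map f.toRingHom := by
  let N₁ := Module.Grassmannian.map f N'
  refine le_antisymm (Ideal.span_le.2 ?_) (Ideal.map_le_iff_le_comap.2 (Ideal.span_le.2 ?_))
  · rintro _ ⟨ψ, x, hx, rfl⟩
    obtain ⟨n, φ, y, hy⟩ := exists_dual_system N'
    rw [map_toSubmodule_eq] at hx
    show ψ (N₁.toSubmodule.mkQ (L.baseChange B x)) ∈ _
    induction hx using Submodule.span_induction with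
    | mem x hx =>
      obtain ⟨w, hw, rfl⟩ := hx
      rw [← mapM_baseChange₂]
      have h1 := mapM_mem f (hy (L.baseChange A w))
      rw [map_sub, map_sum] at h1
      simp only [mapM_smul] at h1
      rw [← Submodule.Quotient.mk_eq_zero, ← Submodule.mkQ_apply, map_sub, map_sum, sub_eq_zero] at h1
      rw [h1, map_sum]
      refine Ideal.sum_mem _ fun j _ => ?_
      rw [map_smul, map_smul, smul_eq_mul]
      exact Ideal.mul_mem_right _ _ (Ideal.mem_map_of_mem f.toRingHom (Ideal.subset_span ⟨φ j, w, hw, rfl⟩))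
    | zero => simp
    | add x z _ _ hx hz => simp only [map_add]; exact add_mem hx hz
    | smul b x _ hx => rw [map_smul, map_smul, map_smul, smul_eq_mul]; exact Ideal.mul_mem_left _ b hx
  · rintro _ ⟨φ, x, hx, rfl⟩
    letI : Algebra A B := f.toAlgebra
    haveI : IsScalarTower R A B := IsScalarTower.of_algebraMap_eq fun r => (f.commutes r).symm
    let G : B ⊗[R] M₂ →ₗ[B] B :=
      (((Algebra.linearMap A B).comp (φ.comp N'.toSubmodule.mkQ)).liftBaseChange B).comp
        (cancelBaseChange R A B B M₂).symm.toLinearMap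
    have hGm : ∀ w, G (mapM f w) = f (φ (N'.toSubmodule.mkQ w)) := fun w => by
      show ((Algebra.linearMap A B).comp (φ.comp N'.toSubmodule.mkQ)).liftBaseChange B
        ((cancelBaseChange R A B B M₂).symm (mapM f w)) = _
      rw [← cancel_one_tmul f (fun _ => rfl), LinearEquiv.symm_apply_apply, LinearMap.liftBaseChange_one_tmul]
      rfl
    have hGN : N₁.toSubmodule ≤ G.ker := by
      rw [map_toSubmodule_eq, Submodule.span_le]
      rintro _ ⟨w, hw, rfl⟩
      show G (mapM f w) = 0
      rw [hGm, Submodule.mkQ_apply, (Submodule.Quotient.mk_eq_zero _).2 hw, map_zero, map_zero]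
    refine Ideal.subset_span ⟨N₁.toSubmodule.liftQ G hGN, mapM f x, mapM_mem f hx, ?_⟩
    rw [← mapM_baseChange₂]
    exact (hGm _).symm

end MapsIdeal

/-- A scheme representing tuples of points. -/
structure TupRep (R : Type u) [CommRing R] (M : Type u) [AddCommGroup M] [Module R M] (k m : ℕ) where
  X : Over (base R)
  e : ∀ A : CommAlgCat.{u} R, (Over.mk (sp A) ⟶ X) ≃ (Fin m → Pt R M k A)
  he : ∀ (A B : CommAlgCat.{u} R) (φ : A →ₐ[R] B) (g : Over.mk (sp A) ⟶ X) (g' : Over.mk (sp B) ⟶ X),
    g'.left = spHom φ ≫ g.left → ∀ i, e B g' i = Module.Grassmannian.map φ (e A g i)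

variable {R : Type u} [CommRing R] {M : Type u} [AddCommGroup M] [Module R M] {k : ℕ}

/-- Morphisms into a fibre product over the base. -/
def overProdEquiv (T X Y : Over (base R)) :
    (T ⟶ Over.mk (pullback.fst X.hom Y.hom ≫ X.hom)) ≃ (T ⟶ X) × (T ⟶ Y) where
  toFun g := (Over.homMk (g.left ≫ pullback.fst X.hom Y.hom) ((Category.assoc _ _ _).trans (Over.w g)),
    Over.homMk (g.left ≫ pullback.snd X.hom Y.hom)
      (((Category.assoc _ _ _).trans (congrArg (g.left ≫ ·) pullback.condition.symm)).trans (Over.w g)))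
  invFun p := Over.homMk (pullback.lift p.1.left p.2.left ((Over.w p.1).trans (Over.w p.2).symm))
    (((Category.assoc _ _ _).symm.trans (congrArg (· ≫ X.hom) (pullback.lift_fst _ _ _))).trans (Over.w p.1))
  left_inv g := Over.OverMorphism.ext (pullback.hom_ext (pullback.lift_fst _ _ _) (pullback.lift_snd _ _ _))
  right_inv p := Prod.ext (Over.OverMorphism.ext (pullback.lift_fst _ _ _))
    (Over.OverMorphism.ext (pullback.lift_snd _ _ _))

theorem exists_tupRep (P : RepPair R M k) [IsProper P.X.hom] (m : ℕ) :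
    ∃ T : TupRep R M k m, IsProper T.X.hom := by
  induction m with
  | zero =>
    refine ⟨⟨Over.mk (𝟙 (base R)), fun A =>
      { toFun := fun _ i => Fin.elim0 i
        invFun := fun _ => Over.homMk (sp A) (Category.comp_id _)
        left_inv := fun g => Over.OverMorphism.ext ((Category.comp_id g.left).symm.trans (Over.w g)).symm
        right_inv := fun N => funext fun i => Fin.elim0 i }, fun A B φ g g' _ i => Fin.elim0 i⟩, ?_⟩
    show IsProper (𝟙 (base R))
    infer_instance
  | succ m ih =>
    obtain ⟨T, hT⟩ := ih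
    refine ⟨⟨Over.mk (pullback.fst T.X.hom P.X.hom ≫ T.X.hom), fun A =>
      (overProdEquiv (Over.mk (sp A)) T.X P.X).trans
        (((T.e A).prodCongr (P.e A)).trans ((Equiv.prodComm _ _).trans (Fin.snocEquiv fun _ => Pt R M k A))),
      fun A B φ g g' hg i => ?_⟩, ?_⟩
    · induction i using Fin.lastCases with
      | last =>
        simp only [Equiv.trans_apply, Fin.snocEquiv_apply, Equiv.prodComm_apply, Equiv.prodCongr_apply,
          Prod.swap_prod_mk, Prod.map_apply', Fin.snoc_last]
        refine P.he A B φ _ _ ?_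
        show g'.left ≫ _ = spHom φ ≫ g.left ≫ _
        rw [hg, Category.assoc]
      | cast i =>
        simp only [Equiv.trans_apply, Fin.snocEquiv_apply, Equiv.prodComm_apply, Equiv.prodCongr_apply,
          Prod.swap_prod_mk, Prod.map_apply', Fin.snoc_castSucc]
        refine T.he A B φ _ _ ?_ i
        show g'.left ≫ _ = spHom φ ≫ g.left ≫ _
        rw [hg, Category.assoc]
    · haveI : IsProper (pullback.fst T.X.hom P.X.hom) :=
        MorphismProperty.pullback_fst (P := @IsProper) _ _ inferInstance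
      haveI : IsProper T.X.hom := hT
      show IsProper (pullback.fst T.X.hom P.X.hom ≫ T.X.hom)
      infer_instance

theorem isProper_free {n q : ℕ} (hq : q ≤ n) (P : RepPair R (Fin n → R) q) : IsProper P.X.hom := by
  obtain ⟨c, hc, hcb⟩ := P.exists_plucker hq
  haveI : IsProper (CohB1.ProjSpaceOver.toBase (n.choose q - 1) (base R)) := ChowLib.isProper_toBase _ _
  haveI := hc
  rw [← hcb]
  infer_instance

end GrassLib

end
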