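import Groth.Agent.GrassLib.Functor

/-!
# Schemes representing the Grassmannian functor on algebras
-/

set_option autoImplicit false
set_option linter.style.haveILetI false
set_option linter.unusedSectionVars false

universe u

open CategoryTheory CategoryTheory.Limits AlgebraicGeometry TopologicalSpace Opposite

noncomputable section

namespace GrassLib

variable {R : Type u} [CommRing R] {M : Type u} [AddCommGroup M] [Module R M] {k : ℕ}

/-- A scheme representing the functor on algebras. -/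
structure RepPair (R : Type u) [CommRing R] (M : Type u) [AddCommGroup M] [Module R M] (k : ℕ) where
  X : Over (base R)
  e : ∀ A : CommAlgCat.{u} R, (Over.mk (sp A) ⟶ X) ≃ Pt R M k A
  he : ∀ (A B : CommAlgCat.{u} R) (φ : A →ₐ[R] B) (g : Over.mk (sp A) ⟶ X) (g' : Over.mk (sp B) ⟶ X),
    g'.left = spHom φ ≫ g.left → e B g' = Module.Grassmannian.map φ (e A g)

namespace RepPair

variable (P : RepPair R M k)

/-- The universal family. -/
def fam : Fam R M k P.X.left where
  g := P.X.hom
  val A a := P.e A (Over.homMk a.hom a.over)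
  nat A B f a := P.he A B f _ _ rfl

theorem fam_g : P.fam.g = P.X.hom := rfl

/-- The point with a given value. -/
def pt {A : CommAlgCat.{u} R} (N : Pt R M k A) : APt P.fam.g A :=
  ⟨((P.e A).symm N).left, Over.w ((P.e A).symm N)⟩

theorem val_pt {A : CommAlgCat.{u} R} (N : Pt R M k A) : P.fam.val A (P.pt N) = N := by
  show P.e A (Over.homMk ((P.e A).symm N).left _) = N
  exact (congrArg (P.e A) (Over.OverMorphism.ext rfl)).trans ((P.e A).apply_symm_apply N)

theorem val_injective {A : CommAlgCat.{u} R} {a b : APt P.fam.g A} (h : P.fam.val A a = P.fam.val A b) : a = b :=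
  APt.ext' (congrArg CommaMorphism.left ((P.e A).injective h))

theorem pt_map {A B : CommAlgCat.{u} R} (f : A →ₐ[R] B) (N : Pt R M k A) :
    P.pt (Module.Grassmannian.map f N) = (P.pt N).res f :=
  P.val_injective (by rw [val_pt, P.fam.nat, val_pt])

theorem pt_val {A : CommAlgCat.{u} R} (a : APt P.fam.g A) : P.pt (P.fam.val A a) = a :=
  P.val_injective (P.val_pt _)

theorem hom_ext {T : Scheme.{u}} {h h' : T ⟶ P.X.left} (hh : P.fam.map h = P.fam.map h') : h = h' := by
  have hg : h ≫ P.X.hom = h' ≫ P.X.hom := congrArg Fam.g hh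
  refine T.affineCover.hom_ext _ _ fun i => ?_
  obtain ⟨A, e, a, ha, -⟩ := exists_aPt_cover (h ≫ P.X.hom) i
  rw [← cancel_epi e.hom, ← Category.assoc, ← Category.assoc, ← ha]
  let a₁ : APt P.fam.g A := ⟨a.hom ≫ h, (Category.assoc _ _ _).trans a.over⟩
  let a₂ : APt P.fam.g A := ⟨a.hom ≫ h', ((Category.assoc _ _ _).trans (congrArg (a.hom ≫ ·) hg.symm)).trans a.over⟩
  exact congrArg APt.hom (P.val_injective (a := a₁) (b := a₂) (Fam.val_eq_of_map_eq a₁ a₂ (by
    show P.fam.map (a.hom ≫ h) = P.fam.map (a.hom ≫ h')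
    rw [← Fam.map_map, hh, Fam.map_map])))

theorem exists_hom {T : Scheme.{u}} (η : Fam R M k T) : ∃ h : T ⟶ P.X.left, P.fam.map h = η := by
  obtain ⟨h, hh, -⟩ := existsUnique_hom_of_natural (fun A (a : APt η.g A) => (P.pt (η.val A a)).hom)
    (fun A B f a => by
      show (P.pt (η.val B (a.res f))).hom = _
      rw [η.nat, pt_map]
      rfl)
  have hg : h ≫ P.X.hom = η.g := T.affineCover.hom_ext _ _ fun i => by
    obtain ⟨A, e, a, ha, -⟩ := exists_aPt_cover η.g i
    rw [← cancel_epi e.hom, ← Category.assoc, ← Category.assoc, ← Category.assoc, ← ha, hh A a, a.over]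
    exact (P.pt (η.val A a)).over
  refine ⟨h, Fam.ext' hg fun A a b hab => ?_⟩
  exact (P.fam.val_congr (b := P.pt (η.val A b)) (by
    show a.hom ≫ h = _
    rw [hab, hh])).trans (P.val_pt _)

/-- The open subscheme of a chart. -/
def chartOpen (x : Fin k → M) : P.X.left.Opens := ⟨locus x P.fam, isOpen_locus x P.fam⟩

theorem exists_chart_iso (x : Fin k → M) :
    ∃ (i : (P.chartOpen x).toScheme ≅ Spec (CommRingCat.of (chartAlg R x))),
      i.hom ≫ sp (chartAlg R x) = (P.chartOpen x).ι ≫ P.X.hom ∧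
        (chartFam R x).map i.hom = P.fam.map (P.chartOpen x).ι := by
  have hV : locus x (P.fam.map (P.chartOpen x).ι) = Set.univ := by
    rw [locus_map]
    exact Set.eq_univ_of_forall fun t => t.2
  obtain ⟨c, hc, -⟩ := exists_chart_hom x (P.fam.map (P.chartOpen x).ι) hV
  obtain ⟨d, hd⟩ := P.exists_hom (chartFam R x)
  have hr : Set.range d ⊆ Set.range (P.chartOpen x).ι := by
    rw [Scheme.Opens.range_ι]
    rintro _ ⟨z, rfl⟩
    show z ∈ d ⁻¹' locus x P.fam
    rw [← locus_map, hd, locus_chartFam]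
    trivial
  let d' := IsOpenImmersion.lift (P.chartOpen x).ι d hr
  have hd' : d' ≫ (P.chartOpen x).ι = d := IsOpenImmersion.lift_fac _ _ _
  refine ⟨⟨c, d', ?_, ?_⟩, congrArg Fam.g hc, hc⟩
  · rw [← cancel_mono (P.chartOpen x).ι, Category.id_comp, Category.assoc, hd']
    exact P.hom_ext (by rw [← Fam.map_map, hd, hc])
  · refine (exists_chart_hom x (chartFam R x) (locus_chartFam x)).unique ?_ (Fam.map_id _)
    rw [← Fam.map_map, hc, Fam.map_map, hd', hd]

theorem range_subset_chartOpen_iff (x : Fin k → M) {A : CommAlgCat.{u} R} (a : APt P.fam.g A) :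
    Set.range a.hom ⊆ (P.chartOpen x : Set P.X.left) ↔ IsIn x (P.fam.val A a) :=
  range_subset_locus_iff x P.fam a

theorem exists_mem_chartOpen (S : Set M)
    (hS : ∀ (K : Type u) [Field K] [Algebra R K] (N : Pt R M k K), ∃ x : Fin k → M, (∀ j, x j ∈ S) ∧ IsIn x N)
    (t : P.X.left) : ∃ x : Fin k → M, (∀ j, x j ∈ S) ∧ t ∈ P.chartOpen x := by
  obtain ⟨i, y, rfl⟩ := P.X.left.affineCover.exists_eq t
  obtain ⟨A, w, a, ha, hopen⟩ := exists_aPt_cover P.fam.g i
  let p : PrimeSpectrum A := w.inv y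
  let φ : A →ₐ[R] p.asIdeal.ResidueField := IsScalarTower.toAlgHom R A _
  obtain ⟨x, hxS, hx⟩ := hS _ (Module.Grassmannian.map φ (P.fam.val A a))
  refine ⟨x, hxS, ?_⟩
  have hy : a.hom p = P.X.left.affineCover.f i y := by
    rw [ha, ← Scheme.Hom.comp_apply, Iso.inv_hom_id_assoc]
  show _ ∈ locus x P.fam
  rw [← hy, mem_locus_iff]
  intro hle
  have h1 := (isIn_map_iff φ).1 hx
  have h2 : (obstr x (P.fam.val A a)).map φ.toRingHom ≤ ⊥ := by
    rw [Ideal.map_le_iff_le_comap]
    intro r hr
    show algebraMap A p.asIdeal.ResidueField r = 0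
    rw [Ideal.algebraMap_residueField_eq_zero]
    exact hle hr
  exact top_ne_bot (h1.symm.trans (le_bot_iff.1 h2))

end RepPair

end GrassLib

end
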