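import Groth.Agent.GrassLib.Closed
import Groth.Agent.GrassLib.Rep

/-!
# Points stable under given endomorphisms form a closed subscheme
-/

set_option autoImplicit false
set_option linter.style.haveILetI false
set_option linter.unusedSectionVars false

universe u v

open TensorProduct TensorProduct.AlgebraTensorModule CategoryTheory AlgebraicGeometry

noncomputable section

namespace GrassLib

variable {R : Type u} [CommRing R] {M : Type u} [AddCommGroup M] [Module R M] {k : ℕ}
variable {A B : Type u} [CommRing A] [Algebra R A] [CommRing B] [Algebra R B]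

/-- A finite dual system of the quotient. -/
theorem exists_dual_system (N : Pt R M k A) :
    ∃ (n : ℕ) (φ : Fin n → Module.Dual A ((A ⊗[R] M) ⧸ N.toSubmodule)) (y : Fin n → A ⊗[R] M),
      ∀ z, z - ∑ i, φ i (N.toSubmodule.mkQ z) • y i ∈ N.toSubmodule := by
  obtain ⟨n, f, g, -, -, hfg⟩ := Module.Finite.exists_comp_eq_id_of_projective A ((A ⊗[R] M) ⧸ N.toSubmodule)
  choose y hy using fun i => Submodule.mkQ_surjective N.toSubmodule (f (Pi.single i 1))
  refine ⟨n, fun i => (LinearMap.proj i).comp g, y, fun z => ?_⟩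
  rw [← Submodule.Quotient.mk_eq_zero, ← Submodule.mkQ_apply, map_sub, map_sum, sub_eq_zero]
  simp only [map_smul, hy]
  refine (LinearMap.congr_fun hfg (N.toSubmodule.mkQ z)).symm.trans ?_
  show f (g (N.toSubmodule.mkQ z)) = _
  conv_lhs => rw [pi_eq_sum_univ' (g (N.toSubmodule.mkQ z)), map_sum]
  exact Finset.sum_congr rfl fun i _ => by rw [map_smul]; rfl

theorem mapM_baseChange (f : A →ₐ[R] B) (L : M →ₗ[R] M) (y : A ⊗[R] M) :
    mapM f (L.baseChange A y) = L.baseChange B (mapM f y) := by
  induction y using TensorProduct.induction_on with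
  | zero => simp
  | tmul a m => simp
  | add y z hy hz => simp only [map_add, hy, hz]

variable {ι : Type v} (L : ι → M →ₗ[R] M)

/-- The ideal cutting out the stable points. -/
def stabIdeal (N : Pt R M k A) : Ideal A :=
  Ideal.span {a | ∃ (φ : Module.Dual A ((A ⊗[R] M) ⧸ N.toSubmodule)) (i : ι) (x : A ⊗[R] M),
    x ∈ N.toSubmodule ∧ a = φ (N.toSubmodule.mkQ ((L i).baseChange A x))}

theorem stabIdeal_eq_bot_iff (N : Pt R M k A) :
    stabIdeal L N = ⊥ ↔ ∀ (i : ι) (x : A ⊗[R] M), x ∈ N.toSubmodule → (L i).baseChange A x ∈ N.toSubmodule := by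
  refine ⟨fun h i x hx => ?_, fun h => ?_⟩
  · obtain ⟨n, φ, y, hy⟩ := exists_dual_system N
    have h0 : ∀ j, φ j (N.toSubmodule.mkQ ((L i).baseChange A x)) = 0 := fun j => by
      rw [← Submodule.mem_bot A, ← h]
      exact Ideal.subset_span ⟨φ j, i, x, hx, rfl⟩
    have := hy ((L i).baseChange A x)
    simp only [h0, zero_smul, Finset.sum_const_zero, sub_zero] at this
    exact this
  · rw [stabIdeal, Ideal.span_eq_bot]
    rintro _ ⟨φ, i, x, hx, rfl⟩
    rw [Submodule.mkQ_apply, (Submodule.Quotient.mk_eq_zero _).2 (h i x hx), map_zero]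

theorem stabIdeal_map (f : A →ₐ[R] B) (N : Pt R M k A) :
    stabIdeal L (Module.Grassmannian.map f N) = (stabIdeal L N).map f.toRingHom := by
  let N' := Module.Grassmannian.map f N
  refine le_antisymm (Ideal.span_le.2 ?_) (Ideal.map_le_iff_le_comap.2 (Ideal.span_le.2 ?_))
  · rintro _ ⟨ψ, i, x, hx, rfl⟩
    obtain ⟨n, φ, y, hy⟩ := exists_dual_system N
    rw [map_toSubmodule_eq] at hx
    show ψ (N'.toSubmodule.mkQ ((L i).baseChange B x)) ∈ _
    induction hx using Submodule.span_induction with
    | mem x hx =>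
      obtain ⟨w, hw, rfl⟩ := hx
      rw [← mapM_baseChange]
      have h1 := mapM_mem f (hy ((L i).baseChange A w))
      rw [map_sub, map_sum] at h1
      simp only [mapM_smul] at h1
      rw [← Submodule.Quotient.mk_eq_zero, ← Submodule.mkQ_apply, map_sub, map_sum, sub_eq_zero] at h1
      rw [h1, map_sum]
      refine Ideal.sum_mem _ fun j _ => ?_
      rw [map_smul, map_smul, smul_eq_mul]
      exact Ideal.mul_mem_right _ _ (Ideal.mem_map_of_mem f.toRingHom (Ideal.subset_span ⟨φ j, i, w, hw, rfl⟩))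
    | zero => simp
    | add x z _ _ hx hz => simp only [map_add]; exact add_mem hx hz
    | smul b x _ hx => rw [map_smul, map_smul, map_smul, smul_eq_mul]; exact Ideal.mul_mem_left _ b hx
  · rintro _ ⟨φ, i, x, hx, rfl⟩
    letI : Algebra A B := f.toAlgebra
    haveI : IsScalarTower R A B := IsScalarTower.of_algebraMap_eq fun r => (f.commutes r).symm
    let G : B ⊗[R] M →ₗ[B] B :=
      (((Algebra.linearMap A B).comp (φ.comp N.toSubmodule.mkQ)).liftBaseChange B).comp
        (cancelBaseChange R A B B M).symm.toLinearMap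
    have hGm : ∀ w, G (mapM f w) = f (φ (N.toSubmodule.mkQ w)) := fun w => by
      show ((Algebra.linearMap A B).comp (φ.comp N.toSubmodule.mkQ)).liftBaseChange B
        ((cancelBaseChange R A B B M).symm (mapM f w)) = _
      rw [← cancel_one_tmul f (fun _ => rfl), LinearEquiv.symm_apply_apply, LinearMap.liftBaseChange_one_tmul]
      rfl
    have hGN : N'.toSubmodule ≤ G.ker := by
      rw [map_toSubmodule_eq, Submodule.span_le]
      rintro _ ⟨w, hw, rfl⟩
      show G (mapM f w) = 0
      rw [hGm, Submodule.mkQ_apply, (Submodule.Quotient.mk_eq_zero _).2 hw, map_zero, map_zero]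
    show f (φ (N.toSubmodule.mkQ ((L i).baseChange A x))) ∈ stabIdeal L N'
    refine Ideal.subset_span ⟨N'.toSubmodule.liftQ G hGN, i, mapM f x, mapM_mem f hx, ?_⟩
    rw [← mapM_baseChange]
    exact (hGm _).symm

/-- The stable points of a representing scheme form a closed subscheme. -/
theorem RepPair.exists_closed_stable (P : RepPair R M k) :
    ∃ (Z : Scheme.{u}) (ι₀ : Z ⟶ P.X.left), IsClosedImmersion ι₀ ∧
      ∀ (A : CommAlgCat.{u} R) (g : Over.mk (sp A) ⟶ P.X),
        (∃ h : Spec (CommRingCat.of A) ⟶ Z, h ≫ ι₀ = g.left) ↔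
          ∀ (i : ι) (x : A ⊗[R] M), x ∈ (P.e A g).toSubmodule → (L i).baseChange A x ∈ (P.e A g).toSubmodule := by
  obtain ⟨Z, ι₀, hι, h⟩ := exists_closed_of_ideal (fun A (a : APt P.fam.g A) => stabIdeal L (P.fam.val A a))
    (fun A B f a => by rw [P.fam.nat, stabIdeal_map])
  refine ⟨Z, ι₀, hι, fun A g => ?_⟩
  rw [h A ⟨g.left, Over.w g⟩, stabIdeal_eq_bot_iff]
  rfl

end GrassLib

end
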