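import Groth.Agent.GrassLib.Closed
import Groth.Agent.GrassLib.Stable

/-!
# The Grassmannian of a quotient module
-/

set_option autoImplicit false
set_option linter.style.haveILetI false
set_option linter.unusedSectionVars false

universe u v

open TensorProduct TensorProduct.AlgebraTensorModule CategoryTheory AlgebraicGeometry

noncomputable section

namespace GrassLib

variable {R : Type u} [CommRing R] {M₁ M₂ : Type u} [AddCommGroup M₁] [Module R M₁] [AddCommGroup M₂] [Module R M₂]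
variable {k : ℕ} {A B : Type u} [CommRing A] [Algebra R A] [CommRing B] [Algebra R B]

theorem mapM_baseChange₂ (f : A →ₐ[R] B) (v : M₁ →ₗ[R] M₂) (y : A ⊗[R] M₁) :
    mapM f (v.baseChange A y) = v.baseChange B (mapM f y) := by
  induction y using TensorProduct.induction_on with
  | zero => simp
  | tmul a m => simp
  | add y z hy hz => simp only [map_add, hy, hz]

variable {v : M₁ →ₗ[R] M₂} (hv : Function.Surjective v)

theorem surjective_baseChange (hv : Function.Surjective v) : Function.Surjective (v.baseChange A) :=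
  LinearMap.lTensor_surjective A hv

/-- The preimage of a point. -/
def qPt (N : Pt R M₂ k A) : Pt R M₁ k A :=
  let ψ := N.toSubmodule.mkQ.comp (v.baseChange A)
  have hψ : Function.Surjective ψ := (Submodule.mkQ_surjective _).comp (surjective_baseChange hv)
  have hker : ψ.ker = N.toSubmodule.comap (v.baseChange A) := by rw [LinearMap.ker_comp, Submodule.ker_mkQ]
  let e := (Submodule.quotEquivOfEq _ _ hker).symm.trans (ψ.quotKerEquivOfSurjective hψ)
  { toSubmodule := N.toSubmodule.comap (v.baseChange A)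
    finite_quotient := Module.Finite.equiv e.symm
    projective_quotient := Module.Projective.of_equiv e.symm
    rankAtStalk_eq := fun p => by rw [Module.rankAtStalk_eq_of_equiv e]; exact N.rankAtStalk_eq p }

theorem qPt_injective {N N' : Pt R M₂ k A} (h : qPt hv N = qPt hv N') : N = N' :=
  Module.Grassmannian.ext (Submodule.comap_injective_of_surjective (surjective_baseChange hv)
    (congrArg Module.Grassmannian.toSubmodule h))

theorem qPt_map (f : A →ₐ[R] B) (N : Pt R M₂ k A) :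
    qPt hv (Module.Grassmannian.map f N) = Module.Grassmannian.map f (qPt hv N) := by
  refine (eq_of_le ?_).symm
  rw [map_toSubmodule_eq, Submodule.span_le]
  rintro _ ⟨y, hy, rfl⟩
  show v.baseChange B (mapM f y) ∈ (Module.Grassmannian.map f N).toSubmodule
  rw [← mapM_baseChange₂]
  exact mapM_mem f hy

/-- The image of a point containing the kernel. -/
def pushPt (N : Pt R M₁ k A) (hN : (v.baseChange A).ker ≤ N.toSubmodule) : Pt R M₂ k A :=
  let ψ := (N.toSubmodule.map (v.baseChange A)).mkQ.comp (v.baseChange A)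
  have hψ : Function.Surjective ψ := (Submodule.mkQ_surjective _).comp (surjective_baseChange hv)
  have hker : ψ.ker = N.toSubmodule := by
    rw [LinearMap.ker_comp, Submodule.ker_mkQ, Submodule.comap_map_eq, sup_eq_left.2 hN]
  let e := (Submodule.quotEquivOfEq _ _ hker).symm.trans (ψ.quotKerEquivOfSurjective hψ)
  { toSubmodule := N.toSubmodule.map (v.baseChange A)
    finite_quotient := Module.Finite.equiv e
    projective_quotient := Module.Projective.of_equiv e
    rankAtStalk_eq := fun p => by rw [← Module.rankAtStalk_eq_of_equiv e]; exact N.rankAtStalk_eq p }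

theorem qPt_pushPt (N : Pt R M₁ k A) (hN : (v.baseChange A).ker ≤ N.toSubmodule) : qPt hv (pushPt hv N hN) = N :=
  Module.Grassmannian.ext (by
    show (N.toSubmodule.map (v.baseChange A)).comap (v.baseChange A) = _
    rw [Submodule.comap_map_eq, sup_eq_left.2 hN])

theorem ker_baseChange_le (hv : Function.Surjective v) {N : Submodule A (A ⊗[R] M₁)}
    (h : ∀ m ∈ v.ker, (1 : A) ⊗ₜ[R] m ∈ N) : (v.baseChange A).ker ≤ N := by
  intro y hy
  have hex : Function.Exact (LinearMap.lTensor A v.ker.subtype) (LinearMap.lTensor A v) :=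
    _root_.lTensor_exact A (LinearMap.exact_subtype_ker_map v) hv
  obtain ⟨z, rfl⟩ := (hex y).1 hy
  clear hy
  induction z using TensorProduct.induction_on with
  | zero => rw [map_zero]; exact zero_mem _
  | tmul a m =>
    rw [LinearMap.lTensor_tmul, show a ⊗ₜ[R] v.ker.subtype m = a • ((1 : A) ⊗ₜ[R] (m : M₁)) by
      rw [smul_tmul', smul_eq_mul, mul_one]; rfl]
    exact Submodule.smul_mem _ _ (h m m.2)
  | add a b ha hb => rw [map_add]; exact add_mem ha hb

/-- The ideal where given elements lie in the submodule. -/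
def vanIdeal (S : Set M₁) (N : Pt R M₁ k A) : Ideal A :=
  Ideal.span {a | ∃ (φ : Module.Dual A ((A ⊗[R] M₁) ⧸ N.toSubmodule)), ∃ m ∈ S,
    a = φ (N.toSubmodule.mkQ ((1 : A) ⊗ₜ[R] m))}

theorem vanIdeal_eq_bot_iff (S : Set M₁) (N : Pt R M₁ k A) :
    vanIdeal S N = ⊥ ↔ ∀ m ∈ S, (1 : A) ⊗ₜ[R] m ∈ N.toSubmodule := by
  refine ⟨fun h m hm => ?_, fun h => ?_⟩
  · obtain ⟨n, φ, y, hy⟩ := exists_dual_system N
    have h0 : ∀ j, φ j (N.toSubmodule.mkQ ((1 : A) ⊗ₜ[R] m)) = 0 := fun j => by
      rw [← Submodule.mem_bot A, ← h]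
      exact Ideal.subset_span ⟨φ j, m, hm, rfl⟩
    have := hy ((1 : A) ⊗ₜ[R] m)
    simp only [h0, zero_smul, Finset.sum_const_zero, sub_zero] at this
    exact this
  · rw [vanIdeal, Ideal.span_eq_bot]
    rintro _ ⟨φ, m, hm, rfl⟩
    rw [Submodule.mkQ_apply, (Submodule.Quotient.mk_eq_zero _).2 (h m hm), map_zero]

theorem vanIdeal_map (S : Set M₁) (f : A →ₐ[R] B) (N : Pt R M₁ k A) :
    vanIdeal S (Module.Grassmannian.map f N) = (vanIdeal S N).map f.toRingHom := by
  let N' := Module.Grassmannian.map f N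
  refine le_antisymm (Ideal.span_le.2 ?_) (Ideal.map_le_iff_le_comap.2 (Ideal.span_le.2 ?_))
  · rintro _ ⟨ψ, m, hm, rfl⟩
    obtain ⟨n, φ, y, hy⟩ := exists_dual_system N
    have h1 := mapM_mem f (hy ((1 : A) ⊗ₜ[R] m))
    rw [map_sub, map_sum] at h1
    simp only [mapM_smul, mapM_tmul, map_one] at h1
    rw [← Submodule.Quotient.mk_eq_zero, ← Submodule.mkQ_apply, map_sub, map_sum, sub_eq_zero] at h1
    rw [h1, map_sum]
    refine Ideal.sum_mem _ fun j _ => ?_
    rw [map_smul, map_smul, smul_eq_mul]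
    exact Ideal.mul_mem_right _ _ (Ideal.mem_map_of_mem f.toRingHom (Ideal.subset_span ⟨φ j, m, hm, rfl⟩))
  · rintro _ ⟨φ, m, hm, rfl⟩
    letI : Algebra A B := f.toAlgebra
    haveI : IsScalarTower R A B := IsScalarTower.of_algebraMap_eq fun r => (f.commutes r).symm
    let G : B ⊗[R] M₁ →ₗ[B] B :=
      (((Algebra.linearMap A B).comp (φ.comp N.toSubmodule.mkQ)).liftBaseChange B).comp
        (cancelBaseChange R A B B M₁).symm.toLinearMap
    have hGm : ∀ w, G (mapM f w) = f (φ (N.toSubmodule.mkQ w)) := fun w => by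
      show ((Algebra.linearMap A B).comp (φ.comp N.toSubmodule.mkQ)).liftBaseChange B
        ((cancelBaseChange R A B B M₁).symm (mapM f w)) = _
      rw [← cancel_one_tmul f (fun _ => rfl), LinearEquiv.symm_apply_apply, LinearMap.liftBaseChange_one_tmul]
      rfl
    have hGN : N'.toSubmodule ≤ G.ker := by
      rw [map_toSubmodule_eq, Submodule.span_le]
      rintro _ ⟨w, hw, rfl⟩
      show G (mapM f w) = 0
      rw [hGm, Submodule.mkQ_apply, (Submodule.Quotient.mk_eq_zero _).2 hw, map_zero, map_zero]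
    refine Ideal.subset_span ⟨N'.toSubmodule.liftQ G hGN, m, hm, ?_⟩
    rw [show (1 : B) ⊗ₜ[R] m = mapM f (1 ⊗ₜ[R] m) by rw [mapM_tmul, map_one]]
    exact (hGm _).symm

/-- The preimage family. -/
def qFam {T : Scheme.{u}} (ξ : Fam R M₂ k T) : Fam R M₁ k T where
  g := ξ.g
  val A a := qPt hv (ξ.val A a)
  nat A B f a := by rw [ξ.nat, qPt_map]

theorem qFam_map {T T' : Scheme.{u}} (h : T' ⟶ T) (ξ : Fam R M₂ k T) : qFam hv (ξ.map h) = (qFam hv ξ).map h := rfl

theorem qFam_injective {T : Scheme.{u}} {ξ η : Fam R M₂ k T} (h : qFam hv ξ = qFam hv η) : ξ = η := by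
  have h3 : ∀ {ζ ζ' : Fam R M₁ k T}, ζ = ζ' → ∀ (A : CommAlgCat.{u} R) (a : APt ζ.g A) (b : APt ζ'.g A),
      a.hom = b.hom → ζ.val A a = ζ'.val A b := by
    rintro ζ _ rfl A a b hab
    exact ζ.val_congr hab
  exact Fam.ext' (congrArg Fam.g h :) fun A a b hab => qPt_injective hv (h3 h A a b hab)

theorem exists_quot_morphism (P₁ : RepPair R M₁ k) (P₂ : RepPair R M₂ k) :
    ∃ c : P₂.X ⟶ P₁.X, P₁.fam.map c.left = qFam hv P₂.fam := by
  obtain ⟨c, hc⟩ := P₁.exists_hom (qFam hv P₂.fam)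
  exact ⟨Over.homMk c (congrArg Fam.g hc), hc⟩

include hv in
theorem isClosedImmersion_of_quot (P₁ : RepPair R M₁ k) (P₂ : RepPair R M₂ k) (c : P₂.X.left ⟶ P₁.X.left)
    (hc : P₁.fam.map c = qFam hv P₂.fam) : IsClosedImmersion c := by
  obtain ⟨Z, ι, hι, hZ⟩ := exists_closed_of_ideal
    (fun A (a : APt P₁.fam.g A) => vanIdeal (v.ker : Set M₁) (P₁.fam.val A a))
    (fun A B f a => by rw [P₁.fam.nat, vanIdeal_map])
  haveI := hι
  have hcg : c ≫ P₁.fam.g = P₂.fam.g := congrArg Fam.g hc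
  have h3 : ∀ {T : Scheme.{u}} {ζ ζ' : Fam R M₁ k T}, ζ = ζ' → ∀ (A : CommAlgCat.{u} R) (a : APt ζ.g A)
      (b : APt ζ'.g A), a.hom = b.hom → ζ.val A a = ζ'.val A b := by
    rintro T ζ _ rfl A a b hab
    exact ζ.val_congr hab
  have hfac : ∀ (A : CommAlgCat.{u} R) (a : APt P₂.fam.g A), ∃ h, h ≫ ι = a.hom ≫ c := fun A a => by
    refine (hZ A ⟨a.hom ≫ c, by rw [Category.assoc, hcg, a.over]⟩).2 ((vanIdeal_eq_bot_iff _ _).2 fun m hm => ?_)
    rw [show P₁.fam.val A ⟨a.hom ≫ c, _⟩ = qPt hv (P₂.fam.val A a) from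
      h3 hc A ⟨a.hom, by rw [show (P₁.fam.map c).g = P₂.fam.g from hcg, a.over]⟩ a rfl]
    show v.baseChange A ((1 : A) ⊗ₜ[R] m) ∈ (P₂.fam.val A a).toSubmodule
    rw [LinearMap.baseChange_tmul, show v m = 0 from hm, tmul_zero]
    exact zero_mem _
  choose φ hφ using hfac
  obtain ⟨c', hc', -⟩ := existsUnique_hom_of_natural φ fun A B f a => by
    rw [← cancel_mono ι, hφ, Category.assoc, hφ, ← Category.assoc]
    rfl
  have hcc : c' ≫ ι = c := P₂.X.left.affineCover.hom_ext _ _ fun i => by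
    obtain ⟨A, e, a, ha, -⟩ := exists_aPt_cover P₂.fam.g i
    rw [← cancel_epi e.hom, ← Category.assoc, ← Category.assoc, ← Category.assoc e.hom, ← ha, hc', hφ]
  have hker : ∀ (A : CommAlgCat.{u} R) (a : APt (P₁.fam.map ι).g A),
      (v.baseChange A).ker ≤ ((P₁.fam.map ι).val A a).toSubmodule := fun A a =>
    ker_baseChange_le hv ((vanIdeal_eq_bot_iff _ _).1 ((hZ A ⟨a.hom ≫ ι, (Category.assoc _ _ _).trans a.over⟩).1 ⟨a.hom, rfl⟩))
  let η : Fam R M₂ k Z :=
    { g := (P₁.fam.map ι).g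
      val := fun A a => pushPt hv _ (hker A a)
      nat := fun A B f a => qPt_injective hv (by rw [qPt_pushPt, qPt_map, qPt_pushPt, (P₁.fam.map ι).nat]) }
  have hη : qFam hv η = P₁.fam.map ι := Fam.ext' rfl fun A a b hab => by
    show qPt hv (pushPt hv _ (hker A a)) = _
    rw [qPt_pushPt]
    exact (P₁.fam.map ι).val_congr hab
  obtain ⟨d, hd⟩ := P₂.exists_hom η
  have hdc : d ≫ c = ι := P₁.hom_ext (by rw [← Fam.map_map, hc, ← qFam_map, hd, hη])
  have h1 : c' ≫ d = 𝟙 _ := P₂.hom_ext (qFam_injective hv (by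
    rw [← Fam.map_map, qFam_map, hd, hη, Fam.map_map, hcc, hc, Fam.map_id]))
  have h2 : d ≫ c' = 𝟙 _ := by rw [← cancel_mono ι, Category.assoc, hcc, hdc, Category.id_comp]
  haveI : IsIso c' := ⟨d, h1, h2⟩
  rw [← hcc]
  infer_instance

end GrassLib

end
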