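import Groth.Agent.GrassLib.Free
import Groth.Agent.GrassLib.Quot
import Groth.Agent.ChowLib.Segre
import Mathlib.LinearAlgebra.Matrix.Determinant.Basic
import Mathlib.LinearAlgebra.Matrix.NonsingularInverse

/-!
# The Plücker embedding of the Grassmannian of a free module
-/

set_option autoImplicit false
set_option linter.style.haveILetI false
set_option linter.unusedSectionVars false

universe u

open TensorProduct CategoryTheory CategoryTheory.Limits AlgebraicGeometry TopologicalSpace
open ChowLib (PZ Dplus pt)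

noncomputable section

namespace GrassLib

variable {R : Type u} [CommRing R] {M : Type u} [AddCommGroup M] [Module R M] {q : ℕ}
variable {A B : Type u} [CommRing A] [Algebra R A] [CommRing B] [Algebra R B]

/-- The matrix of coordinates of a tuple. -/
def coordMat {x : Fin q → M} {N : Pt R M q A} (h : IsIn x N) (z : Fin q → M) : Matrix (Fin q) (Fin q) A :=
  Matrix.of fun l => coordsR h (z l)

theorem coordMat_self {x : Fin q → M} {N : Pt R M q A} (h : IsIn x N) : coordMat h x = 1 := by
  refine Matrix.ext fun l i => ?_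
  show coordsR h (x l) i = _
  rw [normal_coordsR h l]
  simp [Pi.single_apply, Matrix.one_apply, eq_comm]

theorem coordMat_map (f : A →ₐ[R] B) {x : Fin q → M} {N : Pt R M q A} (h : IsIn x N) (z : Fin q → M) :
    coordMat (isIn_map f h) z = f.toRingHom.mapMatrix (coordMat h z) := by
  refine Matrix.ext fun l i => ?_
  show coordsR (isIn_map f h) (z l) i = f (coordsR h (z l) i)
  rw [coordsR_map f h]
  rfl

theorem coordMat_change {x y : Fin q → M} {N : Pt R M q A} (h : IsIn x N) (h' : IsIn y N) (z : Fin q → M) :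
    coordMat h z = coordMat h' z * coordMat h y := by
  refine Matrix.ext fun l i => ?_
  have e : N.toSubmodule.mkQ ((1 : A) ⊗ₜ[R] z l) = psi y N (coordsR h' (z l)) := (psi_coords h' _).symm
  rw [psi_apply] at e
  simp only [← map_smul, ← map_sum] at e
  rw [Submodule.mkQ_apply, Submodule.mkQ_apply, Submodule.Quotient.eq, ← ker_coords h, LinearMap.mem_ker, map_sub,
    map_sum, sub_eq_zero] at e
  simp only [map_smul] at e
  show coords h ((1 : A) ⊗ₜ[R] z l) i = _
  rw [e, Finset.sum_apply, Matrix.mul_apply]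
  rfl

theorem isIn_of_isUnit_det {x y : Fin q → M} {N : Pt R M q A} (h : IsIn x N) (hu : IsUnit (coordMat h y).det) :
    IsIn y N := by
  intro w
  obtain ⟨c, rfl⟩ := h w
  refine ⟨Matrix.vecMul c (coordMat h y)⁻¹, ?_⟩
  have hy : ∀ l, N.toSubmodule.mkQ ((1 : A) ⊗ₜ[R] y l) = psi x N (coordMat h y l) := fun l => (psi_coords h _).symm
  have hsum : ∀ d : Fin q → A, psi y N d = psi x N (Matrix.vecMul d (coordMat h y)) := fun d => by
    rw [psi_apply]
    simp only [hy, ← map_smul, ← map_sum]
    congr 1
    funext i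
    simp [Matrix.vecMul, dotProduct, Finset.sum_apply]
  rw [hsum, Matrix.vecMul_vecMul, Matrix.nonsing_inv_mul _ hu, Matrix.vecMul_one]

variable {n : ℕ}

/-- The Plücker indices. -/
abbrev PlIdx (n q : ℕ) : Type := {s : Finset (Fin n) // s.card = q}

theorem card_plIdx (hq : q ≤ n) : Fintype.card (PlIdx n q) = n.choose q - 1 + 1 := by
  rw [Nat.sub_add_cancel (Nat.choose_pos hq), Fintype.card_finset_len, Fintype.card_fin]

variable (R) in
/-- The tuple of an index. -/
abbrev tup (s : PlIdx n q) : Fin q → (Fin n → R) := stdTuple R (s.1.orderEmbOfFin s.2).toEmbedding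

variable (hq : q ≤ n)

/-- The enumeration of the indices. -/
def plEquiv : Fin (n.choose q - 1 + 1) ≃ PlIdx n q := (Fintype.equivFinOfCardEq (card_plIdx hq)).symm

/-- The number of an index. -/
abbrev plNum (s : PlIdx n q) : Fin (n.choose q - 1 + 1) := (plEquiv hq).symm s

/-- The Plücker coordinates in a chart. -/
def plk {x : Fin q → (Fin n → R)} {N : Pt R (Fin n → R) q A} (h : IsIn x N) (j : Fin (n.choose q - 1 + 1)) : A :=
  (coordMat h (tup R (plEquiv hq j))).det

theorem plk_num {x : Fin q → (Fin n → R)} {N : Pt R (Fin n → R) q A} (h : IsIn x N) (t : PlIdx n q) :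
    plk hq h (plNum hq t) = (coordMat h (tup R t)).det := by
  rw [plk, Equiv.apply_symm_apply]

theorem plk_self {s : PlIdx n q} {N : Pt R (Fin n → R) q A} (h : IsIn (tup R s) N) : plk hq h (plNum hq s) = 1 := by
  rw [plk_num, coordMat_self, Matrix.det_one]

theorem plk_map (f : A →ₐ[R] B) {x : Fin q → (Fin n → R)} {N : Pt R (Fin n → R) q A} (h : IsIn x N)
    (j : Fin (n.choose q - 1 + 1)) : plk hq (isIn_map f h) j = f (plk hq h j) := by
  rw [plk, coordMat_map, ← RingHom.map_det]
  rfl

theorem plk_change {s t : PlIdx n q} {N : Pt R (Fin n → R) q A} (h : IsIn (tup R s) N) (h' : IsIn (tup R t) N)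
    (j : Fin (n.choose q - 1 + 1)) : plk hq h j = plk hq h' j * plk hq h (plNum hq t) := by
  rw [plk_num, plk, plk, coordMat_change h h', Matrix.det_mul]

theorem isIn_iff_isUnit_plk {s t : PlIdx n q} {N : Pt R (Fin n → R) q A} (h : IsIn (tup R s) N) :
    IsIn (tup R t) N ↔ IsUnit (plk hq h (plNum hq t)) := by
  refine ⟨fun h' => ?_, fun hu => isIn_of_isUnit_det h (by rwa [plk_num] at hu)⟩
  have e := plk_change hq h h' (plNum hq s)
  rw [plk_self] at e
  exact IsUnit.of_mul_eq_one_right _ e.symm

/-- The universal chart coordinates lie in the ring generated by the Plücker coordinates. -/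
theorem adjoin_plk_eq_top (s : PlIdx n q) :
    Algebra.adjoin R (Set.range (plk hq (isIn_chartPt (normal_univCoord (R := R) (tup R s))))) = ⊤ := by
  classical
  let C := ChartRing R (Fin n → R) (tup R s)
  have hU : IsIn (tup R s) (chartUniv R (tup R s)) := isIn_chartPt _
  have hcr : coordsR hU = univCoord (tup R s) :=
    chartPt_injective (normal_coordsR hU) (normal_univCoord _) ((chartPt_coordsR hU).trans rfl)
  let S := Algebra.adjoin R (Set.range (plk hq hU))
  show S = ⊤
  have hbasic : ∀ (i : Fin n) (l : Fin q), coordsR hU (Pi.single i 1) l ∈ S := fun i l => by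
    let τ : Fin q ↪o Fin n := s.1.orderEmbOfFin s.2
    by_cases hi : i ∈ Set.range τ
    · obtain ⟨a, rfl⟩ := hi
      have h1 := congrFun (normal_coordsR hU a) l
      rw [show (Pi.single (τ a) 1 : Fin n → R) = tup R s a from rfl, h1, Pi.single_apply]
      split
      · exact one_mem S
      · exact zero_mem S
    · let w : Fin q → Fin n := Function.update τ l i
      have hw : Function.Injective w := by
        intro a b hab
        by_cases ha : a = l <;> by_cases hb : b = l
        · rw [ha, hb]
        · simp only [w, ha, Function.update_self, Function.update_of_ne hb] at hab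
          exact (hi ⟨b, hab.symm⟩).elim
        · simp only [w, hb, Function.update_self, Function.update_of_ne ha] at hab
          exact (hi ⟨a, hab⟩).elim
        · simp only [w, Function.update_of_ne ha, Function.update_of_ne hb] at hab
          exact τ.injective hab
      let t : PlIdx n q := ⟨Finset.univ.image w, by rw [Finset.card_image_of_injective _ hw, Finset.card_fin]⟩
      have hmem : ∀ a, ∃ b, t.1.orderEmbOfFin t.2 b = w a := fun a => by
        have : w a ∈ Set.range (t.1.orderEmbOfFin t.2) := by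
          rw [Finset.range_orderEmbOfFin]
          exact Finset.mem_image_of_mem w (Finset.mem_univ a)
        exact this
      choose π hπ using hmem
      have hπi : Function.Injective π := fun a b hab => hw (by rw [← hπ a, ← hπ b, hab])
      let σ : Equiv.Perm (Fin q) := Equiv.ofBijective π (Finite.injective_iff_bijective.1 hπi)
      have hmat : (coordMat hU (tup R t)).submatrix σ id =
          (1 : Matrix (Fin q) (Fin q) C).updateRow l (coordsR hU (Pi.single i 1)) := by
        refine Matrix.ext fun a b => ?_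
        show coordsR hU (Pi.single (t.1.orderEmbOfFin t.2 (π a)) 1) b = _
        rw [hπ]
        by_cases ha : a = l
        · subst ha
          simp [w]
        · rw [Matrix.updateRow_ne ha]
          simp only [w, Function.update_of_ne ha]
          exact congrArg (fun m : Matrix (Fin q) (Fin q) C => m a b) (coordMat_self hU)
      have hdet := congrArg Matrix.det hmat
      rw [Matrix.det_permute] at hdet
      have h2 : ((1 : Matrix (Fin q) (Fin q) C).updateRow l (coordsR hU (Pi.single i 1))).det =
          coordsR hU (Pi.single i 1) l := by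
        conv_lhs => rw [pi_eq_sum_univ' (coordsR hU (Pi.single i 1))]
        have h3 := Matrix.det_updateRow_sum (1 : Matrix (Fin q) (Fin q) C) l (coordsR hU (Pi.single i 1))
        simp only [Matrix.det_one, smul_eq_mul, mul_one] at h3
        refine Eq.trans ?_ h3
        congr 2
        funext b
        simp [Finset.sum_apply, Matrix.one_apply, Pi.single_apply]
      rw [← h2, ← hdet, ← plk_num hq hU t]
      exact mul_mem (intCast_mem S _) (Algebra.subset_adjoin ⟨_, rfl⟩)
  have hall : ∀ (m : Fin n → R) (l : Fin q), coordsR hU m l ∈ S := fun m l => by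
    rw [pi_eq_sum_univ' m, map_sum, Finset.sum_apply]
    refine sum_mem fun i _ => ?_
    rw [map_smul, Pi.smul_apply]
    exact Subalgebra.smul_mem S (hbasic i l) _
  refine eq_top_iff.2 fun y hy => ?_
  clear hy
  obtain ⟨p, rfl⟩ := Ideal.Quotient.mk_surjective y
  induction p using MvPolynomial.induction_on with
  | C a => exact Subalgebra.algebraMap_mem S a
  | add a b ha hb => rw [map_add]; exact add_mem ha hb
  | mul_X a j ha =>
    rw [map_mul]
    refine mul_mem ha ?_
    have h4 := hall j.1 j.2
    rw [hcr] at h4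
    exact h4

/-- The projective point of a submodule in a chart. -/
def plPt {A : CommAlgCat.{u} R} {s : PlIdx n q} {N : Pt R (Fin n → R) q A} (h : IsIn (tup R s) N) :
    Spec (CommRingCat.of A) ⟶ PZ.{u} (n.choose q - 1) :=
  pt (fun j => (Scheme.ΓSpecIso (CommRingCat.of A)).inv (plk hq h j)) (plNum hq s)
    (by rw [plk_self, map_one]; exact isUnit_one)

theorem plPt_eq {A : CommAlgCat.{u} R} {s t : PlIdx n q} {N : Pt R (Fin n → R) q A} (h : IsIn (tup R s) N)
    (h' : IsIn (tup R t) N) : plPt hq h = plPt hq h' := by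
  refine ChowLib.pt_eq_of_prop _ _ _ _ _ _ (((isIn_iff_isUnit_plk hq h).1 h').map _) fun j => ?_
  rw [plk_self, map_one, mul_one, ← map_mul, ← plk_change hq h h' j]

theorem spHom_plPt {A B : CommAlgCat.{u} R} (f : A →ₐ[R] B) {s : PlIdx n q} {N : Pt R (Fin n → R) q A}
    (h : IsIn (tup R s) N) : spHom f ≫ plPt hq h = plPt hq (isIn_map f h) := by
  rw [plPt, ChowLib.comp_pt, plPt]
  congr 1
  funext j
  rw [plk_map hq f h j]
  exact (congr($(Scheme.ΓSpecIso_inv_naturality (CommRingCat.ofHom f.toRingHom)) (plk hq h j))).symm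

theorem plPt_congr {A : CommAlgCat.{u} R} {s : PlIdx n q} {N N' : Pt R (Fin n → R) q A} (e : N = N')
    (h : IsIn (tup R s) N) (h' : IsIn (tup R s) N') : plPt hq h = plPt hq h' := by
  subst e
  rfl

namespace RepPair

variable (P : RepPair R (Fin n → R) q)

theorem iSup_tup_chart : ⨆ s : PlIdx n q, P.chartOpen (tup R s) = ⊤ := by
  refine top_le_iff.1 fun t _ => ?_
  have ht : t ∈ (⊤ : P.X.left.Opens) := trivial
  rw [← P.iSup_std_chart] at ht
  obtain ⟨σ, hσ⟩ := Opens.mem_iSup.1 ht
  let s : PlIdx n q := ⟨Finset.univ.map σ, by rw [Finset.card_map, Finset.card_fin]⟩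
  refine Opens.mem_iSup.2 ⟨s, ?_⟩
  obtain ⟨A, a, p, hp, hle⟩ := hσ
  refine ⟨A, a, p, hp, fun h => hle (le_trans (le_of_eq ?_) h)⟩
  have hr : (psi (stdTuple R σ) (P.fam.val A a)).range = (psi (tup R s) (P.fam.val A a)).range := by
    rw [psi, psi, Fintype.range_linearCombination, Fintype.range_linearCombination]
    congr 1
    have h1 : ∀ (g : Fin n → ((A : Type u) ⊗[R] (Fin n → R)) ⧸ (P.fam.val A a).toSubmodule) (f : Fin q → Fin n),
        Set.range (fun j => g (f j)) = g '' Set.range f := fun g f => by rw [← Set.range_comp]; rfl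
    refine ((h1 (fun i => (P.fam.val A a).toSubmodule.mkQ ((1 : A) ⊗ₜ[R] Pi.single i 1)) σ).trans ?_).trans
      (h1 (fun i => (P.fam.val A a).toSubmodule.mkQ ((1 : A) ⊗ₜ[R] Pi.single i 1)) (s.1.orderEmbOfFin s.2)).symm
    congr 1
    rw [Finset.range_orderEmbOfFin]
    simp [s]
  rw [obstr, obstr, hr]

theorem exists_plucker_toPZ :
    ∃ c : P.X.left ⟶ PZ.{u} (n.choose q - 1), ∀ (A : CommAlgCat.{u} R) (a : APt P.fam.g A) (s : PlIdx n q)
      (h : IsIn (tup R s) (P.fam.val A a)), a.hom ≫ c = plPt hq h := by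
  choose i hig hif using fun s : PlIdx n q => P.exists_chart_iso (tup R s)
  let U : PlIdx n q → P.X.left.Opens := fun s => P.chartOpen (tup R s)
  let 𝒰 : P.X.left.OpenCover := P.X.left.openCoverOfIsOpenCover U P.iSup_tup_chart
  let cs : ∀ s, (U s).toScheme ⟶ PZ.{u} (n.choose q - 1) := fun s => (i s).hom ≫
    plPt hq (A := chartAlg R (tup R s)) (isIn_chartPt (normal_univCoord (R := R) (tup R s)))
  have key : ∀ (A : CommAlgCat.{u} R) (a : APt P.fam.g A) (s : PlIdx n q) (h : IsIn (tup R s) (P.fam.val A a))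
      (l : Spec (CommRingCat.of A) ⟶ (U s).toScheme), l ≫ (U s).ι = a.hom → l ≫ cs s = plPt hq h := by
    intro A a s h l hl
    have hov : (l ≫ (i s).hom) ≫ sp (chartAlg R (tup R s)) = sp A := by
      rw [Category.assoc, hig s, ← Category.assoc, hl]; exact a.over
    obtain ⟨f, hf⟩ := exists_spHom (l ≫ (i s).hom) hov
    have hval : Module.Grassmannian.map f (chartUniv R (tup R s)) = P.fam.val A a := by
      let b : APt (chartFam (R := R) (tup R s)).g A := ⟨l ≫ (i s).hom, hov⟩
      rw [← chartFam_val (tup R s) f b hf]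
      refine Fam.val_eq_of_map_eq b a ?_
      show (chartFam R (tup R s)).map (l ≫ (i s).hom) = P.fam.map a.hom
      rw [← Fam.map_map, hif s, Fam.map_map, hl]
    show l ≫ (i s).hom ≫ _ = _
    rw [← Category.assoc, ← hf, spHom_plPt]
    exact plPt_congr hq hval _ _
  let c : P.X.left ⟶ PZ.{u} (n.choose q - 1) := 𝒰.glueMorphisms cs fun s t => by
    refine (pullback (𝒰.f s) (𝒰.f t)).affineCover.hom_ext _ _ fun j => ?_
    obtain ⟨A, e, a, ha, -⟩ := exists_aPt_cover
      ((pullback.fst (𝒰.f s) (𝒰.f t) ≫ (U s).ι) ≫ P.X.hom) j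
    let b : APt P.fam.g A := ⟨a.hom ≫ pullback.fst (𝒰.f s) (𝒰.f t) ≫ (U s).ι, by
      rw [Category.assoc]; exact (congrArg (a.hom ≫ ·) (Category.assoc _ _ _)).trans a.over⟩
    have hb : b.hom = (a.hom ≫ pullback.snd (𝒰.f s) (𝒰.f t)) ≫ (U t).ι :=
      ((congrArg (a.hom ≫ ·) pullback.condition).trans (Category.assoc _ _ _).symm :)
    have hs : IsIn (tup R s) (P.fam.val A b) := (P.range_subset_chartOpen_iff _ b).1 (by
      show Set.range (a.hom ≫ pullback.fst (𝒰.f s) (𝒰.f t) ≫ (U s).ι) ⊆ _
      rintro _ ⟨p, rfl⟩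
      exact ((a.hom ≫ pullback.fst (𝒰.f s) (𝒰.f t)) p).2)
    have ht : IsIn (tup R t) (P.fam.val A b) := (P.range_subset_chartOpen_iff _ b).1 (by
      rw [hb]
      rintro _ ⟨p, rfl⟩
      exact ((a.hom ≫ pullback.snd (𝒰.f s) (𝒰.f t)) p).2)
    rw [← cancel_epi e.hom, ← Category.assoc, ← ha, ← Category.assoc e.hom, ← ha, ← Category.assoc, ← Category.assoc]
    exact ((key A b s hs _ (Category.assoc _ _ _)).trans (plPt_eq hq hs ht)).trans (key A b t ht _ hb.symm).symm
  refine ⟨c, fun A a s h => ?_⟩
  have hr : Set.range a.hom ⊆ Set.range (U s).ι := by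
    rw [Scheme.Opens.range_ι]
    exact (P.range_subset_chartOpen_iff _ a).2 h
  rw [← IsOpenImmersion.lift_fac (U s).ι a.hom hr, Category.assoc,
    show (U s).ι ≫ c = cs s from Scheme.Cover.ι_glueMorphisms 𝒰 _ _ s]
  exact key A a s h _ (IsOpenImmersion.lift_fac _ _ _)

end RepPair

end GrassLib

end
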