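import Groth.Agent.GrassLib.Chart
import Mathlib.AlgebraicGeometry.AffineScheme
import Mathlib.AlgebraicGeometry.PullbackCarrier
import Mathlib.AlgebraicGeometry.Cover.Open
import Mathlib.AlgebraicGeometry.ResidueField
import Mathlib.CategoryTheory.Comma.Over.Basic

/-!
# Points of schemes over an affine base with values in algebras
-/

set_option autoImplicit false
set_option linter.style.haveILetI false
set_option linter.unusedSectionVars false

universe u

open CategoryTheory CategoryTheory.Limits AlgebraicGeometry TopologicalSpace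

noncomputable section

namespace GrassLib

variable {R : Type u} [CommRing R]

variable (R) in
/-- The base. -/
abbrev base : Scheme.{u} := Spec (CommRingCat.of R)

/-- The structure morphism of an algebra. -/
abbrev sp (A : CommAlgCat.{u} R) : Spec (CommRingCat.of A) ⟶ base R :=
  Spec.map (CommRingCat.ofHom (algebraMap R A))

/-- The morphism of spectra of a homomorphism of algebras. -/
abbrev spHom {A B : CommAlgCat.{u} R} (f : A →ₐ[R] B) : Spec (CommRingCat.of B) ⟶ Spec (CommRingCat.of A) :=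
  Spec.map (CommRingCat.ofHom f.toRingHom)

theorem spHom_sp {A B : CommAlgCat.{u} R} (f : A →ₐ[R] B) : spHom f ≫ sp A = sp B := by
  rw [← Spec.map_comp, ← CommRingCat.ofHom_comp]
  exact congrArg (fun h => Spec.map (CommRingCat.ofHom h)) f.comp_algebraMap

theorem spHom_comp {A B C : CommAlgCat.{u} R} (g : B →ₐ[R] C) (f : A →ₐ[R] B) :
    spHom (g.comp f) = spHom g ≫ spHom f := by
  rw [← Spec.map_comp, ← CommRingCat.ofHom_comp]
  rfl

theorem spHom_injective {A B : CommAlgCat.{u} R} {f g : A →ₐ[R] B} (h : spHom f = spHom g) : f = g :=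
  AlgHom.ext fun a => congr($(Spec.map_injective h) a)

theorem exists_spHom {A B : CommAlgCat.{u} R} (m : Spec (CommRingCat.of B) ⟶ Spec (CommRingCat.of A))
    (hm : m ≫ sp A = sp B) : ∃ f : A →ₐ[R] B, spHom f = m := by
  obtain ⟨φ, rfl⟩ := Spec.map_surjective m
  have h : CommRingCat.ofHom (algebraMap R A) ≫ φ = CommRingCat.ofHom (algebraMap R B) :=
    Spec.map_injective (by rw [Spec.map_comp]; exact hm)
  exact ⟨{ φ.hom with commutes' := fun r => congr($h r) }, rfl⟩

/-- An algebra structure from a morphism to the base. -/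
theorem exists_alg {C : CommRingCat.{u}} (m : Spec C ⟶ base R) :
    ∃ (A : CommAlgCat.{u} R) (e : Spec (CommRingCat.of A) ≅ Spec C), e.hom ≫ m = sp A := by
  obtain ⟨φ, rfl⟩ := Spec.map_surjective m
  letI : Algebra R C := φ.hom.toAlgebra
  exact ⟨CommAlgCat.of R C, Iso.refl _, (Category.id_comp _).trans rfl⟩

variable {T : Scheme.{u}} (g : T ⟶ base R)

/-- Algebra valued points over `g`. -/
structure APt (A : CommAlgCat.{u} R) where
  hom : Spec (CommRingCat.of A) ⟶ T
  over : hom ≫ g = sp A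

variable {g}

/-- Restriction of a point. -/
def APt.res {A B : CommAlgCat.{u} R} (f : A →ₐ[R] B) (a : APt g A) : APt g B :=
  ⟨spHom f ≫ a.hom, by rw [Category.assoc, a.over, spHom_sp]⟩

theorem APt.ext' {A : CommAlgCat.{u} R} {a b : APt g A} (h : a.hom = b.hom) : a = b := by
  cases a; cases b; cases h; rfl

/-- Every map from an affine scheme is a point. -/
theorem exists_aPt {C : CommRingCat.{u}} (m : Spec C ⟶ T) :
    ∃ (A : CommAlgCat.{u} R) (e : Spec (CommRingCat.of A) ≅ Spec C) (a : APt g A), a.hom = e.hom ≫ m := by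
  obtain ⟨A, e, he⟩ := exists_alg (m ≫ g)
  exact ⟨A, e, ⟨e.hom ≫ m, by rw [Category.assoc, he]⟩, rfl⟩

/-- Refining a point by a standard cover which lifts to an open cover. -/
theorem exists_cover {A : CommAlgCat.{u} R} (a : APt g A) (𝒰 : T.OpenCover) :
    ∃ (ι : Type) (_ : Finite ι) (s : ι → A) (i : ι → 𝒰.I₀)
      (b : ∀ j, Spec (CommRingCat.of (CommAlgCat.of R (Localization.Away (s j)))) ⟶ 𝒰.X (i j)),
      Ideal.span (Set.range s) = ⊤ ∧
        ∀ j, b j ≫ 𝒰.f (i j) = spHom (B := CommAlgCat.of R (Localization.Away (s j)))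
          (IsScalarTower.toAlgHom R A (Localization.Away (s j))) ≫ a.hom := by
  classical
  have hs : ∀ p : PrimeSpectrum A, ∃ (f : A) (i : 𝒰.I₀), f ∉ p.asIdeal ∧
      (PrimeSpectrum.basicOpen f : Set (PrimeSpectrum A)) ⊆ a.hom ⁻¹' Set.range (𝒰.f i) := fun p => by
    obtain ⟨i, y, hy⟩ := 𝒰.exists_eq (a.hom p)
    obtain ⟨_, ⟨f, rfl⟩, hpf, hsub⟩ := PrimeSpectrum.isTopologicalBasis_basic_opens.exists_subset_of_mem_open
      (show p ∈ a.hom ⁻¹' Set.range (𝒰.f i) from ⟨y, hy⟩) ((𝒰.f i).isOpenEmbedding.isOpen_range.preimage a.hom.continuous)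
    exact ⟨f, i, hpf, hsub⟩
  choose f i hf hsub using hs
  have htop : Ideal.span (Set.range f) = ⊤ := by
    by_contra hne
    obtain ⟨m, hm, hle⟩ := Ideal.exists_le_maximal _ hne
    exact hf ⟨m, hm.isPrime⟩ (hle (Ideal.subset_span ⟨_, rfl⟩))
  obtain ⟨t, ht, htspan⟩ := (Ideal.span_eq_top_iff_finite _).1 htop
  have hp : ∀ j : Fin t.card, ∃ p, f p = (t.equivFin.symm j).1 := fun j => ht (t.equivFin.symm j).2
  choose p hp using hp
  have hr : ∀ j, Set.range (spHom (B := CommAlgCat.of R (Localization.Away (f (p j))))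
      (IsScalarTower.toAlgHom R A (Localization.Away (f (p j)))) ≫ a.hom) ⊆ Set.range (𝒰.f (i (p j))) := by
    rintro j _ ⟨q, rfl⟩
    refine hsub (p j) ?_
    rw [← PrimeSpectrum.localization_away_comap_range (Localization.Away (f (p j))) (f (p j))]
    exact ⟨q, rfl⟩
  refine ⟨Fin t.card, inferInstance, fun j => f (p j), fun j => i (p j),
    fun j => IsOpenImmersion.lift (𝒰.f (i (p j))) _ (hr j), ?_, fun j => IsOpenImmersion.lift_fac _ _ _⟩
  refine le_antisymm le_top (htspan.ge.trans (Ideal.span_mono ?_))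
  intro x hx
  exact ⟨t.equivFin ⟨x, hx⟩, by show f (p _) = x; rw [hp, Equiv.symm_apply_apply]⟩

/-- Two points over the same point of the scheme have a common field valued refinement. -/
theorem exists_common_field {A B : CommAlgCat.{u} R} (a : APt g A) (b : APt g B) {p : PrimeSpectrum A}
    {q : PrimeSpectrum B} (h : a.hom p = b.hom q) :
    ∃ (K : Type u) (_ : Field K) (_ : Algebra R K) (φ : A →ₐ[R] K) (ψ : B →ₐ[R] K),
      RingHom.ker φ.toRingHom = p.asIdeal ∧ RingHom.ker ψ.toRingHom = q.asIdeal ∧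
        a.res (B := CommAlgCat.of R K) φ = b.res (B := CommAlgCat.of R K) ψ := by
  obtain ⟨z, hz₁, hz₂⟩ := Scheme.Pullback.exists_preimage_pullback (f := a.hom) (g := b.hom) p q h
  let P := pullback a.hom b.hom
  let m : Spec (P.residueField z) ⟶ P := P.fromSpecResidueField z
  obtain ⟨φ₀, hφ₀⟩ := Spec.map_surjective (m ≫ pullback.fst a.hom b.hom)
  obtain ⟨ψ₀, hψ₀⟩ := Spec.map_surjective (m ≫ pullback.snd a.hom b.hom)
  letI : Algebra R (P.residueField z) := (φ₀.hom.comp (algebraMap R A)).toAlgebra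
  let φ : A →ₐ[R] (P.residueField z) := { φ₀.hom with commutes' := fun r => rfl }
  have hcond : Spec.map φ₀ ≫ a.hom = Spec.map ψ₀ ≫ b.hom := by
    rw [hφ₀, hψ₀, Category.assoc, Category.assoc, pullback.condition]
  have hψ : CommRingCat.ofHom (algebraMap R B) ≫ ψ₀ = CommRingCat.ofHom (algebraMap R A) ≫ φ₀ := by
    refine Spec.map_injective ?_
    rw [Spec.map_comp, Spec.map_comp]
    change Spec.map ψ₀ ≫ sp B = Spec.map φ₀ ≫ sp A
    rw [← a.over, ← b.over, ← Category.assoc, ← Category.assoc, hcond]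
  let ψ : B →ₐ[R] (P.residueField z) := { ψ₀.hom with commutes' := fun r => congr($hψ r) }
  have hker : ∀ {C : CommRingCat.{u}} (χ : C ⟶ P.residueField z) (s : P ⟶ Spec C), Spec.map χ = m ≫ s →
      RingHom.ker χ.hom = (show PrimeSpectrum C from s z).asIdeal := fun {C} χ s hs => by
    have h1 : Spec.map χ (⊥ : PrimeSpectrum (P.residueField z)) = s z := by
      rw [hs, Scheme.Hom.comp_apply, Scheme.fromSpecResidueField_apply]
    rw [← h1]
    show RingHom.ker χ.hom = Ideal.comap χ.hom (⊥ : Ideal (P.residueField z))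
    exact RingHom.ker_eq_comap_bot _
  refine ⟨P.residueField z, inferInstance, inferInstance, φ, ψ, ?_, ?_, APt.ext' ?_⟩
  · rw [← hz₁]
    exact hker φ₀ _ hφ₀
  · rw [← hz₂]
    exact hker ψ₀ _ hψ₀
  · exact hcond

/-- Natural transformations on points come from morphisms. -/
theorem existsUnique_hom_of_natural {Y : Scheme.{u}} (φ : ∀ A : CommAlgCat.{u} R, APt g A → (Spec (CommRingCat.of A) ⟶ Y))
    (hφ : ∀ (A B : CommAlgCat.{u} R) (f : A →ₐ[R] B) (a : APt g A), φ B (a.res f) = spHom f ≫ φ A a) :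
    ∃! b : T ⟶ Y, ∀ (A : CommAlgCat.{u} R) (a : APt g A), a.hom ≫ b = φ A a := by
  let 𝒰 := T.affineCover
  have hp : ∀ i, ∃ (A : CommAlgCat.{u} R) (e : Spec (CommRingCat.of A) ≅ 𝒰.X i) (a : APt g A), a.hom = e.hom ≫ 𝒰.f i :=
    fun i => exists_aPt (𝒰.f i)
  choose Ai ei ai hai using hp
  have hloc : ∀ (i j : 𝒰.I₀) (Z : Scheme.{u}) (p : Z ⟶ 𝒰.X i) (q : Z ⟶ 𝒰.X j), p ≫ 𝒰.f i = q ≫ 𝒰.f j →
      p ≫ (ei i).inv ≫ φ (Ai i) (ai i) = q ≫ (ei j).inv ≫ φ (Ai j) (ai j) := fun i j Z p q hpq => by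
    refine Z.affineCover.hom_ext _ _ fun l => ?_
    obtain ⟨B, e, b, hb⟩ := exists_aPt (g := g) (Z.affineCover.f l ≫ p ≫ 𝒰.f i)
    obtain ⟨f₁, hf₁⟩ := exists_spHom (A := Ai i) (B := B) (e.hom ≫ Z.affineCover.f l ≫ p ≫ (ei i).inv) (by
      rw [← (ai i).over, hai, ← b.over, hb]
      simp [Category.assoc])
    obtain ⟨f₂, hf₂⟩ := exists_spHom (A := Ai j) (B := B) (e.hom ≫ Z.affineCover.f l ≫ q ≫ (ei j).inv) (by
      rw [← (ai j).over, hai, ← b.over, hb]
      simp [Category.assoc, reassoc_of% hpq])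
    have h₁ : (ai i).res f₁ = b := APt.ext' (by
      show spHom f₁ ≫ (ai i).hom = b.hom
      rw [hf₁, hai, hb]; simp [Category.assoc])
    have h₂ : (ai j).res f₂ = b := APt.ext' (by
      show spHom f₂ ≫ (ai j).hom = b.hom
      rw [hf₂, hai, hb]; simp [Category.assoc, hpq])
    have e₁ := hφ _ _ f₁ (ai i)
    rw [h₁, ← h₂, hφ _ _ f₂ (ai j), hf₁, hf₂] at e₁
    simp only [Category.assoc] at e₁
    exact ((cancel_epi e.hom).1 e₁).symm
  let b : T ⟶ Y := 𝒰.glueMorphisms (fun i => (ei i).inv ≫ φ (Ai i) (ai i))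
    fun i j => hloc i j _ (pullback.fst _ _) (pullback.snd _ _) pullback.condition
  have hb : ∀ i, 𝒰.f i ≫ b = (ei i).inv ≫ φ (Ai i) (ai i) := fun i => Scheme.Cover.ι_glueMorphisms 𝒰 _ _ i
  refine ⟨b, fun A a => ?_, fun b' hb' => ?_⟩
  · refine Scheme.Cover.hom_ext (𝒰.pullback₁ a.hom) _ _ fun i => ?_
    refine (pullback a.hom (𝒰.f i)).affineCover.hom_ext _ _ fun l => ?_
    let W := pullback a.hom (𝒰.f i)
    let p := W.affineCover.f l ≫ pullback.fst a.hom (𝒰.f i)
    let q := W.affineCover.f l ≫ pullback.snd a.hom (𝒰.f i)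
    have hpq : p ≫ a.hom = q ≫ 𝒰.f i := by simp [p, q, pullback.condition]
    show W.affineCover.f l ≫ pullback.fst a.hom (𝒰.f i) ≫ a.hom ≫ b = W.affineCover.f l ≫ pullback.fst a.hom (𝒰.f i) ≫ φ A a
    rw [← Category.assoc, ← Category.assoc (f := W.affineCover.f l), ← Category.assoc p, hpq, Category.assoc, hb]
    obtain ⟨B, e, c, hc⟩ := exists_aPt (g := g) (p ≫ a.hom)
    obtain ⟨f₁, hf₁⟩ := exists_spHom (A := A) (B := B) (e.hom ≫ p) (by
      rw [← a.over, ← c.over, hc]; simp [Category.assoc])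
    obtain ⟨f₂, hf₂⟩ := exists_spHom (A := Ai i) (B := B) (e.hom ≫ q ≫ (ei i).inv) (by
      rw [← (ai i).over, hai, ← c.over, hc]; simp only [Category.assoc, Iso.inv_hom_id_assoc]
      exact congrArg (e.hom ≫ ·) ((Category.assoc _ _ _).symm.trans ((congrArg (· ≫ g) hpq.symm).trans (Category.assoc _ _ _))))
    have h₁ : a.res f₁ = c := APt.ext' (by
      show spHom f₁ ≫ a.hom = c.hom
      rw [hf₁, hc]; simp [Category.assoc])
    have h₂ : (ai i).res f₂ = c := APt.ext' (by
      show spHom f₂ ≫ (ai i).hom = c.hom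
      rw [hf₂, hai, hc]; simp only [Category.assoc, Iso.inv_hom_id_assoc]
      exact congrArg (e.hom ≫ ·) hpq.symm)
    have e₁ := hφ _ _ f₁ a
    rw [h₁, ← h₂, hφ _ _ f₂ (ai i), hf₁, hf₂] at e₁
    simp only [Category.assoc] at e₁
    exact (cancel_epi e.hom).1 e₁
  · refine 𝒰.hom_ext _ _ fun i => ?_
    rw [hb, ← hb', hai, Category.assoc, Iso.inv_hom_id_assoc]

end GrassLib

end
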