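import Groth.Agent.GrassLib.SchSec
import Groth.Agent.GrassLib.Chart

/-!
# The charts of the functor of locally free quotients
-/

set_option autoImplicit false
set_option linter.style.haveILetI false
set_option linter.unusedSectionVars false

universe u

open AlgebraicGeometry CategoryTheory CategoryTheory.Limits Opposite TopologicalSpace
open KFlatLib (pb puSec puSecLE)
open ProjFormLib (ger ger_map IsFrame)
open GrassLib (ChartRing univCoord normal_univCoord chartVar chartLift chartLift_var Normal)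

noncomputable section

namespace GrassSch

variable {X T T' : Scheme.{u}} {E : X.Modules} {r : ℕ} {U : X.Opens}

theorem appLE_of_fromSpec (hU : IsAffineOpen U) (m : T ⟶ Spec Γ(X, U)) {g : T ⟶ X} (hm : m ≫ hU.fromSpec = g)
    (hg : ⊤ ≤ g ⁻¹ᵁ U) : g.appLE U ⊤ hg = (Scheme.ΓSpecIso Γ(X, U)).inv ≫ m.appTop := by
  subst hm
  rw [Scheme.Hom.comp_appLE, hU.fromSpec_app_self, Category.assoc]
  refine congrArg (_ ≫ ·) ?_
  erw [Scheme.Hom.map_appLE]
  exact (Scheme.Hom.app_eq_appLE (f := m) (U := ⊤)).symm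

theorem toSpec_fromSpec (hU : IsAffineOpen U) (g : T ⟶ X) (hg : ⊤ ≤ g ⁻¹ᵁ U) :
    (T.toSpecΓ ≫ Spec.map (g.appLE U ⊤ hg)) ≫ hU.fromSpec = g := by
  let l : T ⟶ U.toScheme := IsOpenImmersion.lift U.ι g (by
    rw [Scheme.Opens.range_ι]
    rintro _ ⟨x, rfl⟩
    exact hg (Opens.mem_top x))
  let ρ : Γ(X, U) ⟶ Γ(T, ⊤) := U.topIso.inv ≫ l.appTop
  have h1 : (T.toSpecΓ ≫ Spec.map ρ) ≫ hU.fromSpec = g := by
    simp only [ρ, Spec.map_comp, Category.assoc]
    rw [← Category.assoc T.toSpecΓ, ← Scheme.toSpecΓ_naturality, Category.assoc]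
    show l ≫ U.toSpecΓ ≫ hU.fromSpec = g
    rw [hU.toSpecΓ_fromSpec]
    exact IsOpenImmersion.lift_fac _ _ _
  have h2 : g.appLE U ⊤ hg = ρ := by
    rw [appLE_of_fromSpec hU _ h1 hg, Scheme.Hom.comp_appTop, ← Category.assoc, ← Scheme.ΓSpecIso_inv_naturality,
      Category.assoc, Scheme.toSpecΓ_appTop, Iso.inv_hom_id, Category.comp_id]
  rw [h2]
  exact h1

theorem epi_of_isFrame {g : T ⟶ X} {hg : ⊤ ≤ g ⁻¹ᵁ U} {L : T.Modules} (t : pb g E ⟶ L) (x : Fin r → Γ(E, U))
    (hs : IsFrame L fun j => t.app ⊤ (puSecLE g E hg (x j))) : Epi t := by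
  refine ⟨fun {Z} a b hab => Scheme.Modules.hom_ext _ _ fun W => ConcreteCategory.hom_ext _ _ fun w =>
    ProjFormLib.section_ext _ _ fun y hy => ?_⟩
  rw [← ger_map, ← ger_map]
  have key : ((DerSch.stalkFunctor T y).map a).hom = ((DerSch.stalkFunctor T y).map b).hom := by
    have hspan : Submodule.span (T.presheaf.stalk y)
        (Set.range fun j => ger L y (U := ⊤) trivial (t.app ⊤ (puSecLE g E hg (x j)))) = ⊤ := by
      rw [← Fintype.range_linearCombination, LinearMap.range_eq_top]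
      exact (hs y trivial).2
    refine LinearMap.ext_on_range hspan fun j => ?_
    exact (ger_map a y (U := ⊤) trivial _).trans ((congrArg (ger Z y (U := ⊤) trivial)
      (congr($(hab).app ⊤ (puSecLE g E hg (x j))))).trans (ger_map b y (U := ⊤) trivial _).symm)
  rw [key]

section Coord

/-- The coordinates of a quotient in the basis given by chosen sections. -/
def QPt.crd (P : QPt E r T) {x : Fin r → Γ(E, U)} (h : ∀ z, P.InLoc x z) (hg : ⊤ ≤ P.g ⁻¹ᵁ U) (m : Γ(E, U)) :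
    Fin r → Γ(T, ⊤) := coords' (P.isFrame_secT h hg) (P.secT hg m)

theorem QPt.sum_crd (P : QPt E r T) {x : Fin r → Γ(E, U)} (h : ∀ z, P.InLoc x z) (hg : ⊤ ≤ P.g ⁻¹ᵁ U) (m : Γ(E, U)) :
    ∑ j, P.crd h hg m j • P.secT hg (x j) = P.secT hg m := sum_coords' (P.isFrame_secT h hg) _

theorem QPt.crd_unique (P : QPt E r T) {x : Fin r → Γ(E, U)} (h : ∀ z, P.InLoc x z) (hg : ⊤ ≤ P.g ⁻¹ᵁ U)
    {m : Γ(E, U)} {c : Fin r → Γ(T, ⊤)} (hc : P.secT hg m = ∑ j, c j • P.secT hg (x j)) : P.crd h hg m = c :=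
  (bijective_comb_top (P.isFrame_secT h hg)).1
    ((Fintype.linearCombination_apply _ _ _).trans ((P.sum_crd h hg m).trans (hc.trans (Fintype.linearCombination_apply _ _ _).symm)))

theorem QPt.crd_self (P : QPt E r T) {x : Fin r → Γ(E, U)} (h : ∀ z, P.InLoc x z) (hg : ⊤ ≤ P.g ⁻¹ᵁ U) (i : Fin r) :
    P.crd h hg (x i) = Pi.single i 1 :=
  P.crd_unique h hg (by
    classical
    rw [Finset.sum_eq_single i (fun j _ hj => by rw [Pi.single_eq_of_ne hj, zero_smul])
      (fun hi => absurd (Finset.mem_univ i) hi), Pi.single_eq_same, one_smul])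

theorem QPt.crd_rel {P Q : QPt E r T} (hPQ : P.Rel Q) {x : Fin r → Γ(E, U)} (h : ∀ z, P.InLoc x z)
    (h' : ∀ z, Q.InLoc x z) (hg : ⊤ ≤ P.g ⁻¹ᵁ U) (hg' : ⊤ ≤ Q.g ⁻¹ᵁ U) (m : Γ(E, U)) :
    P.crd h hg m = Q.crd h' hg' m := by
  obtain ⟨-, e, he⟩ := P.secT_rel (U := U) hPQ
  refine (Q.crd_unique h' hg' ?_).symm
  rw [← he hg hg', ← P.sum_crd h hg m, map_sum]
  exact Finset.sum_congr rfl fun j _ => (QCohLib.app_smul e.hom ⊤ _ _).trans (congrArg (P.crd h hg m j • ·) (he hg hg' (x j)))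

theorem QPt.crd_map (a : T' ⟶ T) (P : QPt E r T) {x : Fin r → Γ(E, U)} (h : ∀ z, P.InLoc x z)
    (h' : ∀ z, (P.map a).InLoc x z) (hg : ⊤ ≤ P.g ⁻¹ᵁ U) (hg' : ⊤ ≤ (P.map a).g ⁻¹ᵁ U) (m : Γ(E, U)) :
    (P.map a).crd h' hg' m = fun j => a.appTop (P.crd h hg m j) := by
  refine (P.map a).crd_unique h' hg' ?_
  rw [QPt.secT_map a P hg hg', ← P.sum_crd h hg m, map_sum]
  refine Finset.sum_congr rfl fun j _ => ?_
  rw [puTop_smul, QPt.secT_map a P hg hg']
  rfl

end Coord

section Chart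

variable (E) (x : Fin r → Γ(E, U))

/-- The chart of chosen sections over an affine open. -/
abbrev chSch : Scheme.{u} := Spec (CommRingCat.of (ChartRing Γ(X, U) Γ(E, U) x))

variable {E} (hU : IsAffineOpen U)

/-- The structure morphism of the chart. -/
def chStr : chSch E x ⟶ X :=
  Spec.map (CommRingCat.ofHom (algebraMap Γ(X, U) (ChartRing Γ(X, U) Γ(E, U) x))) ≫ hU.fromSpec

theorem chStr_le : ⊤ ≤ chStr x hU ⁻¹ᵁ U := fun z _ => by
  have h : chStr x hU z ∈ Set.range hU.fromSpec := ⟨_, rfl⟩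
  rwa [hU.range_fromSpec] at h

theorem chStr_appLE (c : Γ(X, U)) : (chStr x hU).appLE U ⊤ (chStr_le x hU) c =
    (Scheme.ΓSpecIso _).inv (algebraMap Γ(X, U) (ChartRing Γ(X, U) Γ(E, U) x) c) := by
  rw [appLE_of_fromSpec hU
    (Spec.map (CommRingCat.ofHom (algebraMap Γ(X, U) (ChartRing Γ(X, U) Γ(E, U) x)))) (g := chStr x hU) rfl
    (chStr_le x hU), ← Scheme.ΓSpecIso_inv_naturality]
  rfl

/-- The universal coordinates on a chart, as functions. -/
def chVal (m : Γ(E, U)) (j : Fin r) : Γ(chSch E x, ⊤) :=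
  (Scheme.ΓSpecIso (CommRingCat.of (ChartRing Γ(X, U) Γ(E, U) x))).inv (univCoord (R := Γ(X, U)) x m j)

/-- The values of the universal quotient on a chart. -/
def chSec : Γ(E, U) →+ Γ(FlatMod.freeMod (chSch E x) r, ⊤) :=
  AddMonoidHom.mk' (fun m => ∑ j, chVal x m j • FittLib.stdSec (chSch E x) r ⊤ j) fun a b => by
    simp only [chVal, map_add, Pi.add_apply, add_smul, Finset.sum_add_distrib]

theorem chSec_self (i : Fin r) : chSec x (x i) = FittLib.stdSec (chSch E x) r ⊤ i := by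
  classical
  show ∑ j, chVal x (x i) j • _ = _
  rw [Finset.sum_eq_single i (fun j _ hj => ?_) (fun hi => absurd (Finset.mem_univ i) hi)]
  · rw [chVal, normal_univCoord x i, Pi.single_eq_same, map_one, one_smul]
  · rw [chVal, normal_univCoord x i, Pi.single_eq_of_ne hj, map_zero, zero_smul]

variable [Coh.IsQCoh E]

theorem exists_chQuot : ∃ t : pb (chStr x hU) E ⟶ FlatMod.freeMod (chSch E x) r,
    ∀ m, t.app ⊤ (puSecLE (chStr x hU) E (chStr_le x hU) m) = chSec x m := by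
  refine exists_hom_top hU (chStr_le x hU) _ (chSec x) fun c m => ?_
  show ∑ j, chVal x (c • m) j • _ = _ • ∑ j, chVal x m j • _
  rw [Finset.smul_sum]
  refine Finset.sum_congr rfl fun j _ => ?_
  rw [smul_smul, chStr_appLE, chVal, chVal, ← map_mul, map_smul, Pi.smul_apply]
  exact congrArg (fun a => (Scheme.ΓSpecIso (CommRingCat.of (ChartRing Γ(X, U) Γ(E, U) x))).inv a •
    FittLib.stdSec (chSch E x) r ⊤ j) (Algebra.smul_def c (univCoord (R := Γ(X, U)) x m j))

/-- The quotient on a chart. -/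
def chPt : QPt E r (chSch E x) where
  g := chStr x hU
  L := FlatMod.freeMod (chSch E x) r
  inv := rank_of_frames fun y => ⟨⊤, _, trivial, isFrame_std _ r⟩
  s := (exists_chQuot x hU).choose
  epi := epi_of_isFrame (hg := chStr_le x hU) _ x (by
    simp only [(exists_chQuot x hU).choose_spec, chSec_self]
    exact isFrame_std _ r)

theorem chPt_le : ⊤ ≤ (chPt x hU).g ⁻¹ᵁ U := chStr_le x hU

theorem chPt_secT (m : Γ(E, U)) : (chPt x hU).secT (chPt_le x hU) m = chSec x m :=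
  (exists_chQuot x hU).choose_spec m

theorem chPt_inLoc (z : chSch E x) : (chPt x hU).InLoc x z := by
  refine ⟨chPt_le x hU (Opens.mem_top z), ?_⟩
  have h := isFrame_std (chSch E x) r z trivial
  simp only [← (chPt x hU).ger_secT (chPt_le x hU) _ z (chPt_le x hU (Opens.mem_top z)), chPt_secT, chSec_self]
  exact h

theorem chPt_crd (m : Γ(E, U)) : (chPt x hU).crd (chPt_inLoc x hU) (chPt_le x hU) m = chVal x m :=
  (chPt x hU).crd_unique (chPt_inLoc x hU) (chPt_le x hU) (c := chVal x m)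
    ((chPt_secT x hU m).trans
      ((show chSec x m = ∑ j, chVal x m j • FittLib.stdSec (chSch E x) r ⊤ j from rfl).trans
        (Finset.sum_congr rfl fun j _ =>
          congrArg (chVal x m j • ·) ((chPt_secT x hU (x j)).trans (chSec_self x j)).symm)))

theorem map_inLoc {Z : Scheme.{u}} (a : Z ⟶ chSch E x) (z : Z) : ((chPt x hU).map a).InLoc x z :=
  (QPt.inLoc_map_iff a _ x z).2 (chPt_inLoc x hU _)

theorem map_le {Z : Scheme.{u}} (a : Z ⟶ chSch E x) : ⊤ ≤ ((chPt x hU).map a).g ⁻¹ᵁ U :=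
  fun z _ => chPt_le x hU (Opens.mem_top (a z))

theorem map_crd {Z : Scheme.{u}} (a : Z ⟶ chSch E x) (m : Γ(E, U)) :
    ((chPt x hU).map a).crd (map_inLoc x hU a) (map_le x hU a) m = fun j => a.appTop (chVal x m j) := by
  rw [QPt.crd_map a _ (chPt_inLoc x hU) (map_inLoc x hU a) (chPt_le x hU), chPt_crd]

/-- A morphism to a chart is determined by the quotient. -/
theorem ch_ext {Z : Scheme.{u}} {a a' : Z ⟶ chSch E x} (h : ((chPt x hU).map a).Rel ((chPt x hU).map a')) :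
    a = a' := by
  have hb : a ≫ chStr x hU = a' ≫ chStr x hU := h.1
  have hv : ∀ m j, a.appTop (chVal x m j) = a'.appTop (chVal x m j) := fun m j => by
    have h1 := QPt.crd_rel h (map_inLoc x hU a) (map_inLoc x hU a') (map_le x hU a) (map_le x hU a') m
    rw [map_crd, map_crd] at h1
    exact congrFun h1 j
  let e := Scheme.ΓSpecIso (CommRingCat.of (ChartRing Γ(X, U) Γ(E, U) x))
  have hC : a ≫ Spec.map (CommRingCat.ofHom (algebraMap Γ(X, U) (ChartRing Γ(X, U) Γ(E, U) x))) =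
      a' ≫ Spec.map (CommRingCat.ofHom (algebraMap Γ(X, U) (ChartRing Γ(X, U) Γ(E, U) x))) := by
    rw [← cancel_mono hU.fromSpec, Category.assoc, Category.assoc]
    exact hb
  have key : e.inv ≫ a.appTop = e.inv ≫ a'.appTop := by
    refine CommRingCat.hom_ext (Ideal.Quotient.ringHom_ext (MvPolynomial.ringHom_ext (fun c => ?_) fun p => ?_))
    · have h2 := congr((Scheme.Hom.appTop $hC) ((Scheme.ΓSpecIso (Γ(X, U))).inv c))
      rw [Scheme.Hom.comp_appTop, Scheme.Hom.comp_appTop, CommRingCat.comp_apply, CommRingCat.comp_apply,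
        ← CommRingCat.comp_apply _ (Spec.map _).appTop, ← Scheme.ΓSpecIso_inv_naturality] at h2
      exact h2
    · exact hv p.1 p.2
  exact ext_of_isAffine (congrArg id ((cancel_epi e.inv).1 key))

/-- A quotient with the chosen sections as a basis comes from the chart. -/
theorem exists_ch (P : QPt E r T) (h : ∀ z, P.InLoc x z) :
    ∃ a : T ⟶ chSch E x, ((chPt x hU).map a).Rel P := by
  classical
  have hg : ⊤ ≤ P.g ⁻¹ᵁ U := fun z _ => (h z).1
  let ρ : Γ(X, U) →+* Γ(T, ⊤) := (P.g.appLE U ⊤ hg).hom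
  letI : Algebra Γ(X, U) Γ(T, ⊤) := ρ.toAlgebra
  let φ : Γ(E, U) →ₗ[Γ(X, U)] (Fin r → Γ(T, ⊤)) :=
    { toFun := P.crd h hg
      map_add' := fun a b => P.crd_unique h hg (by
        simp only [Pi.add_apply, add_smul, Finset.sum_add_distrib, P.sum_crd h hg, map_add])
      map_smul' := fun c m => P.crd_unique h hg (by
        rw [QPt.secT_smul, ← P.sum_crd h hg m, Finset.smul_sum]
        refine Finset.sum_congr rfl fun j _ => ?_
        rw [smul_smul]
        rfl) }
  have hφ : Normal x φ := fun i => P.crd_self h hg i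
  let ψ : CommRingCat.of (ChartRing Γ(X, U) Γ(E, U) x) ⟶ Γ(T, ⊤) := CommRingCat.ofHom (chartLift hφ).toRingHom
  let a : T ⟶ chSch E x := T.toSpecΓ ≫ Spec.map ψ
  have ha : a ≫ chStr x hU = P.g := by
    have h1 : CommRingCat.ofHom (algebraMap Γ(X, U) (ChartRing Γ(X, U) Γ(E, U) x)) ≫ ψ = P.g.appLE U ⊤ hg :=
      CommRingCat.hom_ext (chartLift hφ).comp_algebraMap
    rw [chStr, Category.assoc, ← Spec.map_comp_assoc, h1, ← Category.assoc]
    exact toSpec_fromSpec hU P.g hg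
  have hav : ∀ m j, a.appTop (chVal x m j) = P.crd h hg m j := fun m j => by
    show ((Spec.map ψ).appTop ≫ T.toSpecΓ.appTop) ((Scheme.ΓSpecIso _).inv (chartVar x m j)) = _
    rw [← CommRingCat.comp_apply, ← Category.assoc, ← Scheme.ΓSpecIso_inv_naturality, Category.assoc,
      Scheme.toSpecΓ_appTop, Iso.inv_hom_id, Category.comp_id]
    exact chartLift_var hφ m j
  refine ⟨a, ?_⟩
  have hf : IsFrame (pb a (FlatMod.freeMod (chSch E x) r)) fun j => puTop a _ (FittLib.stdSec (chSch E x) r ⊤ j) :=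
    isFrame_puTop a (isFrame_std _ r)
  let e : pb a (FlatMod.freeMod (chSch E x) r) ≅ P.L := (frameIso hf).symm ≪≫ frameIso (P.isFrame_secT h hg)
  have he : ∀ j, e.hom.app ⊤ (puTop a _ (FittLib.stdSec (chSch E x) r ⊤ j)) = P.secT hg (x j) := fun j => by
    rw [← frameIso_std hf j]
    refine Eq.trans ?_ (frameIso_std (P.isFrame_secT h hg) j)
    exact congrArg ((frameIso (P.isFrame_secT h hg)).hom.app ⊤)
      (congr($((frameIso hf).hom_inv_id).app ⊤ (FittLib.stdSec T r ⊤ j)))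
  refine QPt.rel_of_secT hU ha (map_le x hU a) hg e fun m => ?_
  rw [QPt.secT_map a _ (chPt_le x hU), chPt_secT, ← P.sum_crd h hg m]
  show e.hom.app ⊤ (puTop a _ (∑ j, chVal x m j • _)) = _
  rw [map_sum, map_sum]
  refine Finset.sum_congr rfl fun j _ => ?_
  rw [puTop_smul]
  refine (QCohLib.app_smul e.hom ⊤ _ _).trans ?_
  rw [he, hav]

/-- The chart as a morphism of presheaves. -/
def chMap : yoneda.obj (chSch E x) ⟶ quotF E r :=
  yonedaEquiv.symm (show (quotF E r).obj (op (chSch E x)) from (chPt x hU).mk')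

theorem chMap_app {Z : Scheme.{u}} (a : Z ⟶ chSch E x) : (chMap x hU).app (op Z) a = ((chPt x hU).map a).mk' :=
  (yonedaEquiv_symm_app_apply (F := quotF E r) _ (op Z) a).trans (clsMap_mk' a _)

theorem chMap_relative : IsOpenImmersion.presheaf (chMap x hU) := by
  refine MorphismProperty.relative.of_exists fun T g => ?_
  obtain ⟨P, hP⟩ := exists_mk' (show Shrink.{u} (Cls E r T) from yonedaEquiv g)
  let V := P.locOpen x
  obtain ⟨a, ha⟩ := exists_ch x hU (P.map V.ι) fun z => (QPt.inLoc_map_iff V.ι P x z).2 z.2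
  have hg : ∀ (Z : Scheme.{u}) (h : Z ⟶ T), g.app (op Z) h = (P.map h).mk' := fun Z h => by
    rw [← clsMap_mk', hP]
    exact (map_yonedaEquiv g h).symm
  refine ⟨V.toScheme, yoneda.map a, V.ι, ?_, inferInstanceAs (IsOpenImmersion V.ι)⟩
  refine IsPullback.of_forall_isPullback_app fun Z => ?_
  rw [Types.isPullback_iff]
  refine ⟨?_, ?_, ?_⟩
  · ext (h : Z.unop ⟶ V.toScheme)
    show (chMap x hU).app Z (h ≫ a) = g.app Z (h ≫ V.ι)
    refine (chMap_app x hU (h ≫ a)).trans (Eq.trans ?_ (hg Z.unop (h ≫ V.ι)).symm)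
    rw [← clsMap_mk', ← clsMap_mk', ← clsMap_comp, ← clsMap_comp, clsMap_mk' a, clsMap_mk' V.ι, QPt.mk'_eq_iff.2 ha]
  · rintro x₁ x₂ ⟨-, h2⟩
    exact (cancel_mono V.ι).1 (show x₁ ≫ V.ι = x₂ ≫ V.ι from h2)
  · intro (x₂ : Z.unop ⟶ chSch E x) (x₃ : Z.unop ⟶ T) hx
    have hrel : ((chPt x hU).map x₂).Rel (P.map x₃) :=
      QPt.mk'_eq_iff.1 ((chMap_app x hU x₂).symm.trans (hx.trans (hg Z.unop x₃)))
    have hr : Set.range x₃ ⊆ Set.range V.ι := by
      rw [Scheme.Opens.range_ι]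
      rintro _ ⟨z, rfl⟩
      exact (QPt.inLoc_map_iff x₃ P x z).1 (QPt.inLoc_of_rel hrel (map_inLoc x hU x₂ z))
    let l : Z.unop ⟶ V.toScheme := IsOpenImmersion.lift V.ι x₃ hr
    have hl : l ≫ V.ι = x₃ := IsOpenImmersion.lift_fac _ _ _
    refine ⟨l, ?_, hl⟩
    show l ≫ a = x₂
    refine ch_ext x hU ?_
    rw [← QPt.mk'_eq_iff, ← clsMap_mk', ← clsMap_comp, clsMap_mk' a, QPt.mk'_eq_iff.2 ha, ← clsMap_mk', clsMap_comp,
      hl, clsMap_mk', QPt.mk'_eq_iff]
    exact hrel.symm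

end Chart

end GrassSch

end
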