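import Groth.Agent.GrassLib.SchExists
import Groth.Agent.OmegaAffLib.StalkCrit
import Mathlib.AlgebraicGeometry.Morphisms.ClosedImmersion

/-!
# Grassmannians of quotient modules are closed subschemes
-/

set_option autoImplicit false
set_option linter.style.haveILetI false
set_option linter.unusedSectionVars false

universe u

open AlgebraicGeometry CategoryTheory CategoryTheory.Limits Opposite TopologicalSpace
open KFlatLib (pb puSec puSecLE)
open GrassLib (ChartRing chartVar)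

noncomputable section

namespace GrassSch

variable {X : Scheme.{u}} {E E₁ E₂ : X.Modules} {r : ℕ}

section Univ

variable {G : Scheme.{u}} {π : G ⟶ X} {Q : G.Modules} {q : pb π E ⟶ Q} (hG : Grass.IsGrass π E r Q q)

/-- The universal quotient. -/
def univPt : QPt E r G := ⟨π, Q, hG.rank, q, hG.epi⟩

theorem compQ_eq {T : Scheme.{u}} {g : T ⟶ X} {h : T ⟶ G} (hg : h ≫ π = g) {L : T.Modules} (i : pb h Q ⟶ L) :
    compQ q hg i = Grass.quotBC hg q ≫ i := by
  simp only [Grass.quotBC, compQ, Category.assoc]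

/-- Every quotient is pulled back from the universal one. -/
theorem exists_classify {T : Scheme.{u}} (P : QPt E r T) : ∃ h : T ⟶ G, ((univPt hG).map h).Rel P := by
  obtain ⟨h, ⟨hg, e, he⟩, -⟩ := hG.univ T P.g P.L P.inv P.s P.epi
  exact ⟨h, (QPt.rel_map_iff h (univPt hG) P).2 ⟨hg, e, (compQ_eq hg e.hom).trans he⟩⟩

/-- The classifying morphism is unique. -/
theorem classify_unique {T : Scheme.{u}} {h h' : T ⟶ G} (hh : ((univPt hG).map h).Rel ((univPt hG).map h')) :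
    h = h' := by
  let P := (univPt hG).map h'
  have key : ∀ k : T ⟶ G, ((univPt hG).map k).Rel P →
      ∃ (hg : k ≫ π = P.g) (e : pb k Q ≅ P.L), Grass.quotBC hg q ≫ e.hom = P.s := fun k hk => by
    obtain ⟨hg, e, he⟩ := (QPt.rel_map_iff k (univPt hG) P).1 hk
    exact ⟨hg, e, (compQ_eq hg e.hom).symm.trans he⟩
  exact (hG.univ T P.g P.L P.inv P.s P.epi).unique (key h hh) (key h' (QPt.Rel.refl P))

end Univ

section Push

theorem congr_inv_app {T : Scheme.{u}} (g : T ⟶ X) (h : g = g) (M : X.Modules) :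
    (Scheme.Modules.pullbackCongr h).inv.app M = 𝟙 _ := by
  simp [Scheme.Modules.pullbackCongr]

variable (v : E₁ ⟶ E₂) [Epi v] {T T' : Scheme.{u}}

/-- A quotient of the target as a quotient of the source. -/
def QPt.push (P : QPt E₂ r T) : QPt E₁ r T where
  g := P.g
  L := P.L
  inv := P.inv
  s := (Scheme.Modules.pullback P.g).map v ≫ P.s
  epi := haveI := P.epi; haveI := epi_map P.g v; epi_comp _ _

theorem QPt.push_rel {P Q : QPt E₂ r T} (h : P.Rel Q) : (P.push v).Rel (Q.push v) := by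
  obtain ⟨g, L, hL, s, hs⟩ := P
  obtain ⟨g', L', hL', s', hs'⟩ := Q
  obtain ⟨hg, e, he⟩ := h
  dsimp only at hg
  subst hg
  change L ≅ L' at e
  have he' : s ≫ e.hom = s' := by simpa [Scheme.Modules.pullbackCongr] using he
  refine ⟨rfl, e, ?_⟩
  subst he'
  show (Scheme.Modules.pullbackCongr rfl).inv.app E₁ ≫ ((Scheme.Modules.pullback g).map v ≫ s) ≫ e.hom =
    (Scheme.Modules.pullback g).map v ≫ s ≫ e.hom
  rw [congr_inv_app, Category.id_comp, Category.assoc]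

theorem QPt.push_map (h : T' ⟶ T) (P : QPt E₂ r T) : ((P.map h).push v).Rel ((P.push v).map h) := by
  refine ⟨rfl, Iso.refl _, ?_⟩
  show (Scheme.Modules.pullbackCongr rfl).inv.app E₁ ≫ ((Scheme.Modules.pullback (h ≫ P.g)).map v ≫
      (Scheme.Modules.pullbackComp h P.g).inv.app E₂ ≫ (Scheme.Modules.pullback h).map P.s) ≫ 𝟙 _ =
    (Scheme.Modules.pullbackComp h P.g).inv.app E₁ ≫
      (Scheme.Modules.pullback h).map ((Scheme.Modules.pullback P.g).map v ≫ P.s)
  rw [congr_inv_app, Category.id_comp, Category.comp_id, Functor.map_comp, ← Category.assoc, ← Category.assoc]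
  refine congrArg (· ≫ (Scheme.Modules.pullback h).map P.s) ?_
  exact (Scheme.Modules.pullbackComp h P.g).inv.naturality v

theorem QPt.push_sec0 {U : X.Opens} (P : QPt E₂ r T) (m : Γ(E₁, U)) :
    (P.push v).sec0 m = P.sec0 (v.app U m) :=
  congrArg (P.s.app (P.g ⁻¹ᵁ U)) (KFlatLib.puSec_natural P.g v m)

theorem QPt.push_inLoc {U : X.Opens} (P : QPt E₂ r T) (x : Fin r → Γ(E₁, U)) (z : T) :
    (P.push v).InLoc x z ↔ P.InLoc (fun j => v.app U (x j)) z := by
  refine exists_congr fun hz => ?_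
  simp only [QPt.push_sec0]
  rfl

theorem QPt.push_crd {U : X.Opens} (P : QPt E₂ r T) {x : Fin r → Γ(E₁, U)}
    (h : ∀ z, (P.push v).InLoc x z) (h' : ∀ z, P.InLoc (fun j => v.app U (x j)) z)
    (hg : ⊤ ≤ P.g ⁻¹ᵁ U) (m : Γ(E₁, U)) :
    (P.push v).crd h hg m = P.crd h' hg (v.app U m) := by
  have hs : ∀ n, (P.push v).secT hg n = P.secT hg (v.app U n) := fun n => by
    refine (QPt.secT_eq (P.push v) hg n).trans (Eq.trans ?_ (P.secT_eq hg _).symm)
    exact congrArg (P.L.presheaf.map (homOfLE hg).op) (QPt.push_sec0 v P n)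
  refine (P.push v).crd_unique h hg ?_
  rw [hs, ← P.sum_crd h' hg (v.app U m)]
  exact Finset.sum_congr rfl fun j _ => by rw [hs]; rfl

end Push

section Closed

variable [Coh.IsQCoh E₁] [Coh.IsQCoh E₂] (v : E₁ ⟶ E₂) [Epi v] {U : X.Opens} (hU : IsAffineOpen U)
  (x : Fin r → Γ(E₁, U))

/-- The map of charts of a quotient module. -/
theorem exists_chart_closed : ∃ K : chSch E₂ (fun j => v.app U (x j)) ⟶ chSch E₁ x,
    IsClosedImmersion K ∧ ((chPt x hU).map K).Rel ((chPt (fun j => v.app U (x j)) hU).push v) := by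
  let x₂ := fun j => v.app U (x j)
  let P := (chPt x₂ hU).push v
  have hP : ∀ z, P.InLoc x z := fun z => (QPt.push_inLoc v (chPt x₂ hU) x z).2 (chPt_inLoc x₂ hU z)
  obtain ⟨K, hK⟩ := exists_ch x hU P hP
  refine ⟨K, ?_, hK⟩
  have hval : ∀ m j, K.appTop (chVal x m j) = chVal x₂ (v.app U m) j := fun m j => by
    have h1 := QPt.crd_rel hK (map_inLoc x hU K) hP (map_le x hU K) (chPt_le x₂ hU) m
    rw [map_crd, QPt.push_crd v (chPt x₂ hU) hP (chPt_inLoc x₂ hU) (chPt_le x₂ hU), chPt_crd] at h1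
    exact congrFun h1 j
  have hb : K ≫ chStr x hU = chStr x₂ hU := hK.1
  obtain ⟨κ, hκ⟩ := Spec.map_surjective K
  subst hκ
  refine IsClosedImmersion.spec_of_surjective κ fun a => ?_
  have hv := OmegaAffLib.surjective_app_of_epi (φ := v) hU
  have hC : CommRingCat.ofHom (algebraMap Γ(X, U) (ChartRing Γ(X, U) Γ(E₁, U) x)) ≫ κ =
      CommRingCat.ofHom (algebraMap Γ(X, U) (ChartRing Γ(X, U) Γ(E₂, U) x₂)) := by
    refine Spec.map_injective ((cancel_mono hU.fromSpec).1 ?_)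
    rw [Spec.map_comp, Category.assoc]
    exact hb
  have hvar : ∀ m j, κ.hom (chartVar x m j) = chartVar x₂ (v.app U m) j := fun m j => by
    have h1 := hval m j
    rw [chVal, chVal, ← CommRingCat.comp_apply, ← Scheme.ΓSpecIso_inv_naturality, CommRingCat.comp_apply] at h1
    exact (ConcreteCategory.bijective_of_isIso
      (Scheme.ΓSpecIso (CommRingCat.of (ChartRing Γ(X, U) Γ(E₂, U) x₂))).inv).1 h1
  obtain ⟨p, rfl⟩ := Ideal.Quotient.mk_surjective a
  show Ideal.Quotient.mk _ p ∈ κ.hom.range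
  induction p using MvPolynomial.induction_on with
  | C c => exact ⟨algebraMap Γ(X, U) _ c, congr($hC c)⟩
  | add p q hp hq => rw [map_add]; exact add_mem hp hq
  | mul_X p i hp =>
    rw [map_mul]
    obtain ⟨m, j⟩ := i
    obtain ⟨m', rfl⟩ := hv m
    exact mul_mem hp ⟨chartVar x m' j, hvar m' j⟩

variable {G₁ G₂ : Scheme.{u}} {π₁ : G₁ ⟶ X} {π₂ : G₂ ⟶ X} {Q₁ : G₁.Modules} {Q₂ : G₂.Modules}
  {q₁ : pb π₁ E₁ ⟶ Q₁} {q₂ : pb π₂ E₂ ⟶ Q₂} (hG₁ : Grass.IsGrass π₁ E₁ r Q₁ q₁) (hG₂ : Grass.IsGrass π₂ E₂ r Q₂ q₂)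

omit [Epi v] in
theorem exists_locIso {G : Scheme.{u}} {π : G ⟶ X} {E : X.Modules} [Coh.IsQCoh E] {Q : G.Modules} {q : pb π E ⟶ Q}
    (hG : Grass.IsGrass π E r Q q) (x : Fin r → Γ(E, U)) :
    ∃ a : ((univPt hG).locOpen x).toScheme ≅ chSch E x,
      ((chPt x hU).map a.hom).Rel ((univPt hG).map ((univPt hG).locOpen x).ι) := by
  let D := (univPt hG).locOpen x
  obtain ⟨a, ha⟩ := exists_ch x hU ((univPt hG).map D.ι) fun z => (QPt.inLoc_map_iff D.ι (univPt hG) x z).2 z.2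
  obtain ⟨c, hc⟩ := exists_classify hG (chPt x hU)
  have hr : Set.range c ⊆ Set.range D.ι := by
    rw [Scheme.Opens.range_ι]
    rintro _ ⟨z, rfl⟩
    exact (QPt.inLoc_map_iff c (univPt hG) x z).1 (QPt.inLoc_of_rel hc.symm (chPt_inLoc x hU z))
  let c' : chSch E x ⟶ D.toScheme := IsOpenImmersion.lift D.ι c hr
  have hc' : c' ≫ D.ι = c := IsOpenImmersion.lift_fac _ _ _
  refine ⟨⟨a, c', ?_, ?_⟩, ha⟩
  · rw [← cancel_mono D.ι, Category.assoc, hc', Category.id_comp]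
    refine classify_unique hG (((QPt.map_comp_rel a c _).symm.trans (QPt.map_rel a hc)).trans ha)
  · refine ch_ext x hU ?_
    refine (QPt.map_comp_rel c' a _).symm.trans ((QPt.map_rel c' ha).trans ?_)
    refine (QPt.map_comp_rel c' D.ι _).trans ?_
    rw [hc']
    exact hc.trans (chPt x hU).map_id_rel.symm

include hG₂ in
theorem isClosedImmersion_mapOfEpi : IsClosedImmersion (hG₁.mapOfEpi hG₂ v) := by
  classical
  let f := hG₁.mapOfEpi hG₂ v
  have hf : ((univPt hG₁).map f).Rel ((univPt hG₂).push v) := by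
    have hsp := hG₁.lift_spec π₂ Q₂ hG₂.rank ((Scheme.Modules.pullback π₂).map v ≫ q₂)
      ((univPt hG₂).push v).epi
    obtain ⟨hg, e, he⟩ := hsp
    exact (QPt.rel_map_iff f (univPt hG₁) ((univPt hG₂).push v)).2 ⟨hg, e, (compQ_eq hg e.hom).trans he⟩
  let D : (Σ U : X.affineOpens, (Fin r → Γ(E₁, U.1))) → G₁.Opens := fun p => (univPt hG₁).locOpen p.2
  have hD : iSup D = ⊤ := top_le_iff.1 fun z _ => by
    obtain ⟨U, hU, hz, -⟩ := exists_isAffineOpen_mem_and_subset (X := X) (x := π₁ z) (U := ⊤) trivial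
    obtain ⟨x, hx⟩ := QPt.exists_inLoc hU (univPt hG₁) (z := z) hz
    exact TopologicalSpace.Opens.mem_iSup.2 ⟨⟨⟨U, hU⟩, x⟩, hx⟩
  show IsClosedImmersion f
  rw [IsZariskiLocalAtTarget.iff_of_iSup_eq_top (P := @IsClosedImmersion) D hD]
  rintro ⟨⟨U, hU⟩, x⟩
  let D₁ := (univPt hG₁).locOpen x
  let x₂ := fun j => v.app U (x j)
  show IsClosedImmersion (f ∣_ D₁)
  have hloc : ∀ z : G₂, f z ∈ D₁ ↔ (univPt hG₂).InLoc x₂ z := fun z =>
    (QPt.inLoc_map_iff f (univPt hG₁) x z).symm.trans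
      (Iff.trans ⟨QPt.inLoc_of_rel hf, QPt.inLoc_of_rel hf.symm⟩ (QPt.push_inLoc v (univPt hG₂) x z))
  have hpre : f ⁻¹ᵁ D₁ = (univPt hG₂).locOpen x₂ := Opens.ext (Set.ext hloc)
  obtain ⟨a₁, ha₁⟩ := exists_locIso hU hG₁ x
  obtain ⟨a₂, ha₂⟩ := exists_locIso hU hG₂ x₂
  obtain ⟨K, hK, hKrel⟩ := exists_chart_closed v hU x
  let b : (f ⁻¹ᵁ D₁).toScheme ≅ chSch E₂ x₂ := G₂.isoOfEq hpre ≪≫ a₂
  have hb : ((chPt x₂ hU).map b.hom).Rel ((univPt hG₂).map (f ⁻¹ᵁ D₁).ι) := by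
    refine (QPt.map_comp_rel (G₂.isoOfEq hpre).hom a₂.hom _).symm.trans ((QPt.map_rel _ ha₂).trans ?_)
    refine (QPt.map_comp_rel _ _ _).trans ?_
    rw [Scheme.isoOfEq_hom_ι]
    exact QPt.Rel.refl _
  have key : (f ∣_ D₁) ≫ a₁.hom = b.hom ≫ K := by
    refine ch_ext x hU ?_
    refine ((QPt.map_comp_rel _ _ _).symm.trans ((QPt.map_rel _ ha₁).trans (QPt.map_comp_rel _ _ _))).trans ?_
    rw [morphismRestrict_ι]
    refine (QPt.map_comp_rel _ _ _).symm.trans ((QPt.map_rel _ hf).trans ?_)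
    refine (QPt.push_map v _ (univPt hG₂)).symm.trans ((QPt.push_rel v hb.symm).trans ?_)
    exact (QPt.push_map v b.hom _).trans ((QPt.map_rel _ hKrel.symm).trans (QPt.map_comp_rel _ _ _))
  haveI : IsClosedImmersion (b.hom ≫ K) := inferInstance
  rw [show f ∣_ D₁ = (b.hom ≫ K) ≫ a₁.inv by rw [← key, Category.assoc, a₁.hom_inv_id, Category.comp_id]]
  infer_instance

end Closed

end GrassSch

end
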