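import Groth.Prelude.Def_GrassD
import Groth.Agent.GrassLib.SchChart
import Mathlib.AlgebraicGeometry.Sites.Representability

/-!
# Existence of the Grassmannian of a quasi-coherent module over any scheme
-/

set_option autoImplicit false
set_option linter.style.haveILetI false
set_option linter.unusedSectionVars false

universe u

open AlgebraicGeometry CategoryTheory CategoryTheory.Limits Opposite TopologicalSpace
open KFlatLib (pb puSec)

noncomputable section

namespace GrassSch

variable {X : Scheme.{u}} (E : X.Modules) (r : ℕ) [Coh.IsQCoh E]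

/-- The indices of the charts. -/
abbrev ChIdx : Type u := Σ U : X.affineOpens, (Fin r → Γ(E, U.1))

/-- The functor of rank `r` quotients of a quasi-coherent module is representable. -/
theorem nonempty_representableBy : ∃ G : Scheme.{u}, Nonempty ((quotF E r).RepresentableBy G) := by
  classical
  let Yc : ChIdx E r → Scheme.{u} := fun p => chSch E p.2
  let F : Sheaf Scheme.zariskiTopology.{u} (Type u) := ⟨quotF E r, isSheaf_quotF⟩
  let f : ∀ p : ChIdx E r, yoneda.obj (Yc p) ⟶ F.1 := fun p => chMap p.2 p.1.2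
  have hf : ∀ p, IsOpenImmersion.presheaf (f p) := fun p => chMap_relative p.2 p.1.2
  haveI : Presheaf.IsLocallySurjective Scheme.zariskiTopology (Sigma.desc f) := ⟨fun {T} e => by
    obtain ⟨P, hP⟩ := exists_mk' (show Shrink.{u} (Cls E r T) from e)
    have hk : ∀ z : T, ∃ p : ChIdx E r, P.InLoc p.2 z := fun z => by
      obtain ⟨U, hU, hz, -⟩ := exists_isAffineOpen_mem_and_subset (X := X) (x := P.g z) (U := ⊤) trivial
      obtain ⟨x, hx⟩ := QPt.exists_inLoc hU P hz
      exact ⟨⟨⟨U, hU⟩, x⟩, hx⟩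
    choose p hp using hk
    let V : T → T.Opens := fun z => P.locOpen (p z).2
    let 𝒰 : T.OpenCover := T.openCoverOfIsOpenCover V
      (top_le_iff.1 fun z _ => TopologicalSpace.Opens.mem_iSup.2 ⟨z, hp z⟩)
    refine GrothendieckTopology.superset_covering _ ?_ 𝒰.mem_grothendieckTopology
    rw [Sieve.generate_le_iff]
    rintro _ _ ⟨z⟩
    obtain ⟨a, ha⟩ := exists_ch (p z).2 (p z).1.2 (P.map (V z).ι)
      fun w => (QPt.inLoc_map_iff (V z).ι P (p z).2 w).2 w.2
    refine ⟨(Sigma.ι (fun p => yoneda.obj (Yc p)) (p z)).app _ a, ?_⟩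
    show ((Sigma.ι _ (p z)) ≫ Sigma.desc f).app _ a = _
    rw [Sigma.ι_desc]
    refine (chMap_app _ _ a).trans ((QPt.mk'_eq_iff.2 ha).trans ?_)
    rw [← clsMap_mk', hP]
    rfl⟩
  exact ⟨_, ⟨Scheme.LocalRepresentability.representableBy (F := F) hf⟩⟩

/-- The Grassmannian of a quasi-coherent module exists. -/
theorem exists_isGrass : ∃ (G : Scheme.{u}) (π : G ⟶ X) (Q : G.Modules) (q : pb π E ⟶ Q),
    Grass.IsGrass π E r Q q := by
  obtain ⟨G, ⟨R⟩⟩ := nonempty_representableBy E r
  obtain ⟨Q₀, hQ₀⟩ := exists_mk' (show Shrink.{u} (Cls E r G) from R.homEquiv (𝟙 G))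
  have hR : ∀ {T : Scheme.{u}} (h : T ⟶ G), (R.homEquiv h : Shrink.{u} (Cls E r T)) = (Q₀.map h).mk' := fun {T} h => by
    have h1 := R.homEquiv_comp h (𝟙 G)
    rw [Category.comp_id] at h1
    refine h1.trans ?_
    show clsMap h (R.homEquiv (𝟙 G)) = _
    rw [← clsMap_mk', hQ₀]
  refine ⟨G, Q₀.g, Q₀.L, Q₀.s, Q₀.inv, Q₀.epi, fun T g L hL s hs => ?_⟩
  let Q : QPt E r T := ⟨g, L, hL, s, hs⟩
  have hiff : ∀ h : T ⟶ G, (∃ (hg : h ≫ Q₀.g = g) (e : pb h Q₀.L ≅ L),
      Grass.quotBC hg Q₀.s ≫ e.hom = s) ↔ R.homEquiv h = Q.mk' := fun h => by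
    refine Iff.trans ?_ (QPt.mk'_eq_iff.symm.trans (Eq.congr_left (hR h).symm))
    refine Iff.trans ?_ (QPt.rel_map_iff h Q₀ Q).symm
    refine exists_congr fun hg => exists_congr fun e => ?_
    simp only [Grass.quotBC, compQ, Category.assoc]
    rfl
  obtain ⟨h, hh⟩ := R.homEquiv.surjective Q.mk'
  exact ⟨h, (hiff h).2 hh, fun h' hh' => R.homEquiv.injective (((hiff h').1 hh').trans hh.symm)⟩

end GrassSch

end
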