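import Groth.Agent.GrassLib.SchBase

/-!
# Gluing locally free quotients of a module
-/

set_option autoImplicit false
set_option linter.style.haveILetI false
set_option linter.unusedSectionVars false

universe u

open AlgebraicGeometry CategoryTheory CategoryTheory.Limits Opposite TopologicalSpace
open AmpleLib (res)
open KFlatLib (pb puSec)
open scoped TensorProduct

noncomputable section

namespace GrassSch

variable {T S : Scheme.{u}}

theorem bijective_one_tmul {A B N : Type u} [CommRing A] [CommRing B] [Algebra A B] [AddCommGroup N] [Module A N]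
    (h : Function.Bijective (algebraMap A B)) : Function.Bijective fun n : N => (1 : B) ⊗ₜ[A] n := by
  let σ : A ≃ₗ[A] B := LinearEquiv.ofBijective (Algebra.linearMap A B) h
  have h1 : (fun n : N => (1 : B) ⊗ₜ[A] n) = fun n => σ.rTensor N ((TensorProduct.lid A N).symm n) := by
    funext n
    have h1 : σ (1 : A) = 1 := map_one (algebraMap A B)
    rw [TensorProduct.lid_symm_apply, LinearEquiv.rTensor_tmul, h1]
  rw [h1]
  exact (σ.rTensor N).bijective.comp (TensorProduct.lid A N).symm.bijective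

/-- A frame of the restriction to an open is a frame. -/
theorem isFrame_of_puSec (j : S ⟶ T) [IsOpenImmersion j] {M : T.Modules} {n : ℕ} {W : T.Opens}
    (hW : W ≤ j.opensRange) (a : Fin n → Γ(M, W)) (ha : ProjFormLib.IsFrame (pb j M) fun i => puSec j (a i)) :
    ProjFormLib.IsFrame M a := by
  intro x hx
  obtain ⟨z, rfl⟩ := hW hx
  letI := (j.stalkMap z).hom.toAlgebra
  have hσ : Function.Bijective (j.stalkMap z) := ConcreteCategory.bijective_of_isIso _
  obtain ⟨e, he⟩ := CohCmpLib.exists_stalkPullEquiv j M z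
  let φ : CohCmpLib.stk M (j z) → CohCmpLib.stk (pb j M) z := fun v => e (1 ⊗ₜ v)
  have hφ : Function.Bijective φ := e.bijective.comp (bijective_one_tmul hσ)
  have key : φ ∘ (Fintype.linearCombination (T.presheaf.stalk (j z)) fun i => ProjFormLib.ger M (j z) hx (a i)) =
      (Fintype.linearCombination (S.presheaf.stalk z) fun i => ProjFormLib.ger (pb j M) z (U := j ⁻¹ᵁ W) hx (puSec j (a i))) ∘
        fun c i => j.stalkMap z (c i) := by
    funext c
    simp only [Function.comp_apply, Fintype.linearCombination_apply, φ, TensorProduct.tmul_sum, map_sum,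
      TensorProduct.tmul_smul]
    refine Finset.sum_congr rfl fun i _ => ?_
    rw [← he W hx (a i), algebra_compatible_smul (S.presheaf.stalk z) (c i), map_smul]
    rfl
  refine (Function.Bijective.of_comp_iff' hφ _).1 (key ▸ ?_)
  exact (ha z hx).comp ⟨fun c c' h => funext fun i => hσ.1 (congrFun h i),
    fun d => ⟨fun i => (hσ.2 (d i)).choose, funext fun i => (hσ.2 (d i)).choose_spec⟩⟩

/-- Being locally free of rank `r` is local. -/
theorem rank_of_openCover {r : ℕ} {M : T.Modules} {J : Type u} (V : J → T.Opens) (hV : ∀ x : T, ∃ j, x ∈ V j)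
    (h : ∀ j, FlatMod.IsFinLocFreeOfRank r (pb (V j).ι M)) : FlatMod.IsFinLocFreeOfRank r M := by
  refine rank_of_frames fun x => ?_
  obtain ⟨j, hj⟩ := hV x
  obtain ⟨U', b, hxU, hb⟩ := SeesawLib.rankSet_of_rank (h j) ⟨x, hj⟩
  let W := (V j).ι ''ᵁ U'
  have hW : W ≤ (V j).ι.opensRange := (V j).ι.image_le_opensRange U'
  have hU : (V j).ι ⁻¹ᵁ W ≤ U' := ((V j).ι.preimage_image_eq U').le
  choose a ha using fun i => (puSec_bijective (V j).ι M hW).2 (ProjFormLib.res _ hU (b i))
  refine ⟨W, a, ⟨⟨x, hj⟩, hxU, rfl⟩, isFrame_of_puSec (V j).ι hW a ?_⟩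
  simp only [ha]
  exact hb.res hU

/-- Quotients given on an open cover with the same kernels on overlaps glue. -/
theorem exists_glue_quot {r : ℕ} {M : T.Modules} {J : Type u} (V : J → T.Opens) (hV : ∀ x : T, ∃ j, x ∈ V j)
    (L : ∀ j, (V j).toScheme.Modules) (hL : ∀ j, FlatMod.IsFinLocFreeOfRank r (L j))
    (s : ∀ j, pb (V j).ι M ⟶ L j) (hs : ∀ j, Epi (s j))
    (compat : ∀ i j (W : T.Opens), W ≤ V i → W ≤ V j → ∀ m : Γ(M, W),
      (s i).app ((V i).ι ⁻¹ᵁ W) (puSec (V i).ι m) = 0 → (s j).app ((V j).ι ⁻¹ᵁ W) (puSec (V j).ι m) = 0) :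
    ∃ (L₀ : T.Modules) (s₀ : M ⟶ L₀), FlatMod.IsFinLocFreeOfRank r L₀ ∧ Epi s₀ ∧
      ∀ j, ∃ e : pb (V j).ι L₀ ≅ L j, (Scheme.Modules.pullback (V j).ι).map s₀ ≫ e.hom = s j := by
  classical
  let N : J → T.Modules := fun j => (Scheme.Modules.pushforward (V j).ι).obj (L j)
  let u : M ⟶ ∏ᶜ N := Pi.lift fun j => (Scheme.Modules.pullbackPushforwardAdjunction (V j).ι).homEquiv _ _ (s j)
  have hu : ∀ j (W : T.Opens) (m : Γ(M, W)),
      (Pi.π N j).app W (u.app W m) = (s j).app ((V j).ι ⁻¹ᵁ W) (puSec (V j).ι m) := fun j W m => by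
    refine (congr($(Pi.lift_π (fun j => (Scheme.Modules.pullbackPushforwardAdjunction (V j).ι).homEquiv _ _ (s j)) j).app W m)).trans ?_
    rw [Adjunction.homEquiv_unit]
    rfl
  have hu0 : ∀ (W : T.Opens) (m : Γ(M, W)),
      u.app W m = 0 ↔ ∀ j, (s j).app ((V j).ι ⁻¹ᵁ W) (puSec (V j).ι m) = 0 := fun W m => by
    refine ⟨fun h j => ?_, fun h => (DiscExtLib.pi_sections N W).1 (funext fun j => ?_)⟩
    · rw [← hu, h, map_zero]
      rfl
    · refine ((hu j W m).trans (h j)).trans ?_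
      exact (map_zero _).symm
  have hVu : ∀ j (W : T.Opens), W ≤ V j → ∀ m : Γ(M, W),
      (s j).app ((V j).ι ⁻¹ᵁ W) (puSec (V j).ι m) = 0 → u.app W m = 0 := fun j W hW m h => (hu0 W m).2 fun i => by
    have h1 : (s j).app ((V j).ι ⁻¹ᵁ (W ⊓ V i)) (puSec (V j).ι (res M (inf_le_left : W ⊓ V i ≤ W) m)) = 0 := by
      rw [TwistLib.puSec_res]
      refine (QCohLib.app_map (s j) (homOfLE ((V j).ι.preimage_mono inf_le_left)) _).trans ?_
      rw [h, map_zero]
    have h2 := compat j i (W ⊓ V i) (inf_le_left.trans hW) inf_le_right _ h1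
    rw [TwistLib.puSec_res] at h2
    have h3 := (QCohLib.app_map (s i) (homOfLE ((V i).ι.preimage_mono (inf_le_left : W ⊓ V i ≤ W))) _).symm.trans h2
    have hle : (V i).ι ⁻¹ᵁ W ≤ (V i).ι ⁻¹ᵁ (W ⊓ V i) := fun x hx => ⟨hx, x.2⟩
    have h4 := congrArg (res (L i) hle) h3
    rwa [show res (L i) hle 0 = 0 from map_zero _, show ∀ z : Γ(L i, (V i).ι ⁻¹ᵁ W), res (L i) hle ((L i).presheaf.map
      (homOfLE ((V i).ι.preimage_mono (inf_le_left : W ⊓ V i ≤ W))).op z) = z from fun z =>
        (AmpleLib.res_res (L i) _ _ z).trans (AmpleLib.res_refl _ _)] at h4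
  let s₀ : M ⟶ cokernel (kernel.ι u) := cokernel.π _
  haveI : Epi s₀ := inferInstanceAs (Epi (cokernel.π _))
  have hs₀ : ∀ (W : T.Opens) (m : Γ(M, W)), s₀.app W m = 0 ↔ u.app W m = 0 := fun W m => by
    constructor
    · intro h
      obtain ⟨k, hk⟩ := QCohLib.exists_of_app_eq_zero (S := ShortComplex.mk (kernel.ι u) s₀ (cokernel.condition _))
        (ShortComplex.exact_of_g_is_cokernel _ (cokernelIsCokernel (kernel.ι u))) inferInstance m h
      rw [← hk]
      exact congr($(kernel.condition u).app W k)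
    · intro h
      obtain ⟨k, hk⟩ := exists_lift_kernel u m h
      rw [← hk]
      exact congr($(cokernel.condition (kernel.ι u)).app W k)
  have hiso : ∀ j, ∃ e : pb (V j).ι (cokernel (kernel.ι u)) ≅ L j,
      (Scheme.Modules.pullback (V j).ι).map s₀ ≫ e.hom = s j := fun j => by
    haveI := hs j
    haveI := epi_map (V j).ι s₀
    refine exists_iso_of_kills _ _ fun W' m' => ?_
    obtain ⟨W, rfl⟩ : ∃ W, W' = (V j).ι ⁻¹ᵁ W := ⟨_, ((V j).ι.preimage_image_eq W').symm⟩
    have hW : W ⊓ V j ≤ (V j).ι.opensRange := by rw [Scheme.Opens.opensRange_ι]; exact inf_le_right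
    have hle : (V j).ι ⁻¹ᵁ W ≤ (V j).ι ⁻¹ᵁ (W ⊓ V j) := fun x hx => ⟨hx, x.2⟩
    have hge : (V j).ι ⁻¹ᵁ (W ⊓ V j) ≤ (V j).ι ⁻¹ᵁ W := (V j).ι.preimage_mono inf_le_left
    obtain ⟨m, hm⟩ := (puSec_bijective (V j).ι M hW).2 (res _ hge m')
    dsimp only at hm
    have key : ∀ {K : (V j).toScheme.Modules} (φ : pb (V j).ι M ⟶ K),
        φ.app _ m' = 0 ↔ φ.app _ (puSec (V j).ι m) = 0 := fun {K} φ => by
      rw [hm]
      refine ⟨fun h => (QCohLib.app_map φ (homOfLE hge) m').trans (by rw [h, map_zero]), fun h => ?_⟩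
      have h' := congrArg (res K hle) ((QCohLib.app_map φ (homOfLE hge) m').symm.trans h)
      rwa [show res K hle 0 = 0 from map_zero _, show res K hle (res K hge (φ.app _ m')) = φ.app _ m' from
        (AmpleLib.res_res K _ _ _).trans (AmpleLib.res_refl _ _)] at h'
    rw [key, key, KFlatLib.puSec_natural, puSec_eq_zero_iff _ _ hW, hs₀]
    exact ⟨fun h => (hu0 _ _).1 h j, hVu j _ inf_le_right m⟩
  refine ⟨_, s₀, ?_, inferInstance, hiso⟩
  refine rank_of_openCover V hV fun j => ?_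
  obtain ⟨e, -⟩ := hiso j
  exact rank_of_iso (hL j) e

end GrassSch

end
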