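import Mathlib
import Groth.Agent.GrassLib.SchGlue

/-!
# The functor of locally free quotients of given rank of a module, on all schemes
-/

set_option autoImplicit false
set_option linter.style.haveILetI false
set_option linter.unusedSectionVars false

universe u

open AlgebraicGeometry CategoryTheory CategoryTheory.Limits Opposite TopologicalSpace
open AmpleLib (res)
open KFlatLib (pb puSec)

noncomputable section

namespace GrassSch

variable {X : Scheme.{u}} (E : X.Modules)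

/-- A locally free quotient of rank `r` of the pullback of `E`. -/
structure QPt (r : ℕ) (T : Scheme.{u}) : Type (u + 1) where
  g : T ⟶ X
  L : T.Modules
  inv : FlatMod.IsFinLocFreeOfRank r L
  s : pb g E ⟶ L
  epi : Epi s

variable {E} {r : ℕ} {T T' T'' : Scheme.{u}}

/-- Isomorphism of quotients. -/
def QPt.Rel (P Q : QPt E r T) : Prop :=
  ∃ (hg : P.g = Q.g) (e : P.L ≅ Q.L), (Scheme.Modules.pullbackCongr hg).inv.app E ≫ P.s ≫ e.hom = Q.s

theorem QPt.Rel.refl (P : QPt E r T) : P.Rel P := ⟨rfl, Iso.refl _, by simp [Scheme.Modules.pullbackCongr]⟩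

theorem QPt.Rel.symm {P Q : QPt E r T} (h : P.Rel Q) : Q.Rel P := by
  obtain ⟨g, L, hL, s, hs⟩ := P
  obtain ⟨g', L', hL', s', hs'⟩ := Q
  obtain ⟨hg, e, he⟩ := h
  dsimp only at hg
  subst hg
  change L ≅ L' at e
  have he' : s ≫ e.hom = s' := by simpa [Scheme.Modules.pullbackCongr] using he
  refine ⟨rfl, e.symm, ?_⟩
  show (Scheme.Modules.pullbackCongr rfl).inv.app E ≫ s' ≫ e.inv = s
  subst he'
  rw [Category.assoc, e.hom_inv_id, Category.comp_id]
  simp [Scheme.Modules.pullbackCongr]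

theorem QPt.Rel.trans {P Q R : QPt E r T} (h : P.Rel Q) (h' : Q.Rel R) : P.Rel R := by
  obtain ⟨g, L, hL, s, hs⟩ := P
  obtain ⟨g', L', hL', s', hs'⟩ := Q
  obtain ⟨g'', L'', hL'', s'', hs''⟩ := R
  obtain ⟨hg, e, he⟩ := h
  obtain ⟨hg', e', he'⟩ := h'
  dsimp only at hg hg'
  subst hg hg'
  have h1 : s ≫ e.hom = s' := by simpa [Scheme.Modules.pullbackCongr] using he
  have h2 : s' ≫ e'.hom = s'' := by simpa [Scheme.Modules.pullbackCongr] using he'
  refine ⟨rfl, e ≪≫ e', ?_⟩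
  show (Scheme.Modules.pullbackCongr rfl).inv.app E ≫ s ≫ e.hom ≫ e'.hom = s''
  rw [← Category.assoc s, h1, h2]
  simp [Scheme.Modules.pullbackCongr]

/-- Pullback of a quotient. -/
def QPt.map (h : T' ⟶ T) (P : QPt E r T) : QPt E r T' where
  g := h ≫ P.g
  L := pb h P.L
  inv := SeesawLib.isFinLocFreeOfRank_pullback h P.inv
  s := (Scheme.Modules.pullbackComp h P.g).inv.app E ≫ (Scheme.Modules.pullback h).map P.s
  epi := haveI := P.epi; haveI := epi_map h P.s; inferInstance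

theorem QPt.map_rel (h : T' ⟶ T) {P Q : QPt E r T} (hPQ : P.Rel Q) : (P.map h).Rel (Q.map h) := by
  obtain ⟨g, L, hL, s, hs⟩ := P
  obtain ⟨g', L', hL', s', hs'⟩ := Q
  obtain ⟨hg, e, he⟩ := hPQ
  dsimp only at hg
  subst hg
  have h1 : s ≫ e.hom = s' := by simpa [Scheme.Modules.pullbackCongr] using he
  refine ⟨rfl, (Scheme.Modules.pullback h).mapIso e, ?_⟩
  show (Scheme.Modules.pullbackCongr rfl).inv.app E ≫ ((Scheme.Modules.pullbackComp h g).inv.app E ≫
    (Scheme.Modules.pullback h).map s) ≫ (Scheme.Modules.pullback h).map e.hom = _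
  rw [Category.assoc, ← Functor.map_comp, h1]
  simp [QPt.map, Scheme.Modules.pullbackCongr]

theorem QPt.map_s_puSec (h : T' ⟶ T) (P : QPt E r T) {W : X.Opens} (m : Γ(E, W)) :
    (P.map h).s.app ((h ≫ P.g) ⁻¹ᵁ W) (puSec (h ≫ P.g) m) = puSec h (P.s.app (P.g ⁻¹ᵁ W) (puSec P.g m)) := by
  show ((Scheme.Modules.pullback h).map P.s).app _
    (((Scheme.Modules.pullbackComp h P.g).inv.app E).app _ (puSec (h ≫ P.g) m)) = _
  rw [pullbackComp_inv_puSec]
  exact KFlatLib.puSec_natural h P.s (puSec P.g m)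

/-- Being isomorphic is read off from the universal expression. -/
theorem QPt.rel_map_iff (h : T' ⟶ T) (P : QPt E r T) (Q : QPt E r T') :
    (P.map h).Rel Q ↔ ∃ (hg : h ≫ P.g = Q.g) (e : pb h P.L ≅ Q.L), compQ P.s hg e.hom = Q.s := by
  refine ⟨fun ⟨hg, e, he⟩ => ⟨hg, e, ?_⟩, fun ⟨hg, e, he⟩ => ⟨hg, e, ?_⟩⟩
  · rw [← he]
    simp [compQ, QPt.map]
  · rw [← he]
    simp [compQ, QPt.map]

theorem QPt.map_id_rel (P : QPt E r T) : (P.map (𝟙 T)).Rel P := by
  rw [QPt.rel_map_iff]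
  refine ⟨Category.id_comp _, (Scheme.Modules.pullbackId T).app P.L, hom_ext_pu _ _ _ fun W m => ?_⟩
  rw [compQ, comp_apply_puSec]
  refine (congrArg (P.L.presheaf.map _) (pullbackId_puSec _)).trans ?_
  exact congr($(P.L.presheaf.map_id _) _)

theorem QPt.map_comp_rel (h' : T'' ⟶ T') (h : T' ⟶ T) (P : QPt E r T) : ((P.map h).map h').Rel (P.map (h' ≫ h)) := by
  rw [QPt.rel_map_iff]
  refine ⟨(Category.assoc _ _ _).symm, (Scheme.Modules.pullbackComp h' h).app P.L,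
    compQ_eq_of_sec _ _ _ _ fun W m => Eq.trans ?_ (QPt.map_s_puSec (h' ≫ h) P m).symm⟩
  refine (congr($((pb (h' ≫ h) P.L).presheaf.map_id _) _)).trans ?_
  exact (congrArg (fun z => ((Scheme.Modules.pullbackComp h' h).hom.app P.L).app (h' ⁻¹ᵁ (h ⁻¹ᵁ (P.g ⁻¹ᵁ W)))
    (puSec h' z)) (QPt.map_s_puSec h P m)).trans (CohCmpLib.pullbackComp_puSec h' h P.L _)

variable (E r)

instance setoidPt (T : Scheme.{u}) : Setoid (QPt E r T) := ⟨QPt.Rel, ⟨QPt.Rel.refl, QPt.Rel.symm, QPt.Rel.trans⟩⟩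

/-- Isomorphism classes of quotients. -/
abbrev Cls (T : Scheme.{u}) : Type (u + 1) := Quotient (setoidPt E r T)

variable {E r}

/-- The killed sections determine the class. -/
def QPt.kills (P : QPt E r T) : Σ g : T ⟶ X, ∀ W : T.Opens, Set Γ(pb g E, W) := ⟨P.g, fun W => {m | P.s.app W m = 0}⟩

theorem QPt.kills_congr {P Q : QPt E r T} (h : P.Rel Q) : P.kills = Q.kills := by
  obtain ⟨g, L, hL, s, hs⟩ := P
  obtain ⟨g', L', hL', s', hs'⟩ := Q
  obtain ⟨hg, e, he⟩ := h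
  dsimp only at hg
  subst hg
  have he' : s ≫ e.hom = s' := by simpa [Scheme.Modules.pullbackCongr] using he
  refine Sigma.ext rfl (heq_of_eq (funext fun W => Set.ext fun m => ?_))
  show s.app W m = 0 ↔ s'.app W m = 0
  rw [← he']
  refine ⟨fun h => ?_, fun h => ?_⟩
  · show e.hom.app W (s.app W m) = 0
    rw [h, map_zero]
  · have h' : e.inv.app W (e.hom.app W (s.app W m)) = 0 :=
      (congrArg (e.inv.app W) h).trans (map_zero _)
    rwa [show e.inv.app W (e.hom.app W (s.app W m)) = s.app W m from congr($(e.hom_inv_id).app W (s.app W m))] at h'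

theorem QPt.rel_of_kills {P Q : QPt E r T} (h : P.kills = Q.kills) : P.Rel Q := by
  obtain ⟨g, L, hL, s, hs⟩ := P
  obtain ⟨g', L', hL', s', hs'⟩ := Q
  obtain ⟨hg, hK⟩ := Sigma.mk.inj h
  dsimp only at hg
  subst hg
  obtain ⟨e, he⟩ := exists_iso_of_kills s s' fun W m => Set.ext_iff.1 (congrFun (eq_of_heq hK) W) m
  exact ⟨rfl, e, by simpa [Scheme.Modules.pullbackCongr] using he⟩

instance small_cls (T : Scheme.{u}) : Small.{u} (Cls E r T) :=
  small_of_injective (f := Quotient.lift QPt.kills fun _ _ h => QPt.kills_congr h)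
    fun a b => Quotient.inductionOn₂ a b fun _ _ h => Quotient.sound (QPt.rel_of_kills h)

/-- The class of a quotient, in the small model. -/
def QPt.mk' (P : QPt E r T) : Shrink.{u} (Cls E r T) := equivShrink _ (Quotient.mk _ P)

theorem QPt.mk'_eq_iff {P Q : QPt E r T} : P.mk' = Q.mk' ↔ P.Rel Q :=
  (equivShrink _).injective.eq_iff.trans Quotient.eq

theorem exists_mk' (x : Shrink.{u} (Cls E r T)) : ∃ P : QPt E r T, P.mk' = x := by
  obtain ⟨P, hP⟩ := Quotient.exists_rep ((equivShrink _).symm x)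
  exact ⟨P, by rw [QPt.mk', hP, Equiv.apply_symm_apply]⟩

/-- Pullback of classes. -/
def clsMap (h : T' ⟶ T) (x : Shrink.{u} (Cls E r T)) : Shrink.{u} (Cls E r T') :=
  equivShrink _ (Quotient.map (QPt.map h) (fun _ _ hPQ => QPt.map_rel h hPQ) ((equivShrink _).symm x))

theorem clsMap_mk' (h : T' ⟶ T) (P : QPt E r T) : clsMap h P.mk' = (P.map h).mk' := by
  rw [clsMap, QPt.mk', Equiv.symm_apply_apply]
  rfl

theorem clsMap_id (x : Shrink.{u} (Cls E r T)) : clsMap (𝟙 T) x = x := by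
  obtain ⟨P, rfl⟩ := exists_mk' x
  rw [clsMap_mk', QPt.mk'_eq_iff]
  exact P.map_id_rel

theorem clsMap_comp (h' : T'' ⟶ T') (h : T' ⟶ T) (x : Shrink.{u} (Cls E r T)) :
    clsMap h' (clsMap h x) = clsMap (h' ≫ h) x := by
  obtain ⟨P, rfl⟩ := exists_mk' x
  rw [clsMap_mk', clsMap_mk', clsMap_mk', QPt.mk'_eq_iff]
  exact P.map_comp_rel h' h

variable (E r)

/-- The functor of locally free quotients. -/
def quotF : Scheme.{u}ᵒᵖ ⥤ Type u where
  obj T := Shrink.{u} (Cls E r T.unop)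
  map h := TypeCat.ofHom (clsMap h.unop)
  map_id T := ConcreteCategory.hom_ext _ _ fun x => clsMap_id (T := T.unop) x
  map_comp h h' := ConcreteCategory.hom_ext _ _ fun x => (clsMap_comp h'.unop h.unop x).symm

variable {E r}

theorem quotF_map (h : T' ⟶ T) (x : (quotF E r).obj (op T)) : (quotF E r).map h.op x = clsMap h x := rfl

theorem exists_congr_g (x : Shrink.{u} (Cls E r T)) {P : QPt E r T} (hP : P.mk' = x) {g : T ⟶ X} (hg : P.g = g) :
    ∃ (L : T.Modules) (hL : FlatMod.IsFinLocFreeOfRank r L) (t : pb g E ⟶ L) (ht : Epi t), (⟨g, L, hL, t, ht⟩ : QPt E r T).mk' = x := by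
  subst hg
  exact ⟨P.L, P.inv, P.s, P.epi, hP⟩

/-- Quotients on an open cover with a common base map and equal restrictions glue. -/
theorem exists_glue_cls (g : T ⟶ X) {J : Type u} (V : J → T.Opens) (hV : ∀ x : T, ∃ j, x ∈ V j)
    (L : ∀ i, (V i).toScheme.Modules) (hL : ∀ i, FlatMod.IsFinLocFreeOfRank r (L i))
    (t : ∀ i, pb ((V i).ι ≫ g) E ⟶ L i) (ht : ∀ i, Epi (t i))
    (hc : ∀ i j (W : T.Opens) (hi : W ≤ V i) (hj : W ≤ V j),
      ((⟨(V i).ι ≫ g, L i, hL i, t i, ht i⟩ : QPt E r _).map (T.homOfLE hi)).Rel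
        ((⟨(V j).ι ≫ g, L j, hL j, t j, ht j⟩ : QPt E r _).map (T.homOfLE hj))) :
    ∃ Q : QPt E r T, ∀ i, (Q.map (V i).ι).Rel ⟨(V i).ι ≫ g, L i, hL i, t i, ht i⟩ := by
  have hse : ∀ i, Epi ((Scheme.Modules.pullbackComp (V i).ι g).hom.app E ≫ t i) := fun i =>
    haveI := ht i; epi_comp _ _
  have compat : ∀ i j (W : T.Opens), W ≤ V i → W ≤ V j → ∀ m : Γ(pb g E, W),
      ((Scheme.Modules.pullbackComp (V i).ι g).hom.app E ≫ t i).app ((V i).ι ⁻¹ᵁ W) (puSec (V i).ι m) = 0 →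
      ((Scheme.Modules.pullbackComp (V j).ι g).hom.app E ≫ t j).app ((V j).ι ⁻¹ᵁ W) (puSec (V j).ι m) = 0 := by
    intro i j W hi hj m hm
    obtain ⟨hgg, e, he⟩ := (QPt.rel_map_iff _ _ _).1 (hc i j W hi hj)
    have hΨ := compQ_pullbackComp (T.homOfLE_ι hi) (T.homOfLE_ι hj) (t i) (t j) hgg he
    have h2 := congr($(hΨ).app (W.ι ⁻¹ᵁ W) (puSec W.ι m))
    have h2' := (compQ_app (E := pb g E) _ (T.homOfLE_ι hi) e.hom m).symm.trans (h2.trans
      (compQ_app (E := pb g E) _ (T.homOfLE_ι hj) (𝟙 _) m))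
    rw [hm, puSec_zero, map_zero, map_zero] at h2'
    have h3 : puSec (T.homOfLE hj) (((Scheme.Modules.pullbackComp (V j).ι g).hom.app E ≫ t j).app
        ((V j).ι ⁻¹ᵁ W) (puSec (V j).ι m)) = 0 :=
      (ConcreteCategory.bijective_of_isIso ((pb (T.homOfLE hj) (L j)).presheaf.map _)).1
        (h2'.symm.trans (map_zero _).symm)
    exact (puSec_eq_zero_iff (T.homOfLE hj) (L j) (by
      intro x hx
      exact ⟨⟨(V j).ι x, hx⟩, (V j).ι.isOpenEmbedding.injective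
        (congr($(T.homOfLE_ι hj).base ⟨(V j).ι x, hx⟩))⟩) _).1 h3
  obtain ⟨L₀, s₀, hL₀, hs₀, hglue⟩ := exists_glue_quot V hV L hL _ hse compat
  refine ⟨⟨g, L₀, hL₀, s₀, hs₀⟩, fun i => ?_⟩
  obtain ⟨e, he⟩ := hglue i
  refine ⟨rfl, e, ?_⟩
  show (Scheme.Modules.pullbackCongr rfl).inv.app E ≫ ((Scheme.Modules.pullbackComp (V i).ι g).inv.app E ≫
    (Scheme.Modules.pullback (V i).ι).map s₀) ≫ e.hom = t i
  rw [Category.assoc, he]
  simp [Scheme.Modules.pullbackCongr]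

/-- Quotients agreeing on an open cover are isomorphic. -/
theorem rel_of_cover {J : Type u} (V : J → T.Opens) (hV : ∀ x : T, ∃ j, x ∈ V j) {P Q : QPt E r T}
    (h : ∀ i, (P.map (V i).ι).Rel (Q.map (V i).ι)) (hg : P.g = Q.g) : P.Rel Q := by
  obtain ⟨g, L', hL', s', hs'⟩ := P
  obtain ⟨g', L₀, hL₀, s₀, hs₀⟩ := Q
  dsimp only at hg
  subst hg
  refine QPt.rel_of_kills (Sigma.ext rfl (heq_of_eq (funext fun W => Set.ext fun m => ?_)))
  show s'.app W m = 0 ↔ s₀.app W m = 0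
  have key : ∀ (A B : T.Modules) (u : pb g E ⟶ A) (v : pb g E ⟶ B),
      (∀ i, ∃ e : pb (V i).ι A ≅ pb (V i).ι B,
        (Scheme.Modules.pullback (V i).ι).map u ≫ e.hom = (Scheme.Modules.pullback (V i).ι).map v) →
      u.app W m = 0 → v.app W m = 0 := by
    intro A B u v huv h
    refine TwistLib.mod_ext B fun x hx => ?_
    obtain ⟨i, hi⟩ := hV x
    obtain ⟨e, he⟩ := huv i
    have h1 : v.app (W ⊓ V i) (res _ (inf_le_left : W ⊓ V i ≤ W) m) = 0 := by
      refine (puSec_eq_zero_iff (V i).ι B (by rw [Scheme.Opens.opensRange_ι]; exact inf_le_right) _).1 ?_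
      rw [← KFlatLib.puSec_natural (V i).ι v, ← he,
        show ((Scheme.Modules.pullback (V i).ι).map u ≫ e.hom).app _ (puSec (V i).ι (res _ inf_le_left m)) =
          e.hom.app _ (((Scheme.Modules.pullback (V i).ι).map u).app _ (puSec (V i).ι (res _ inf_le_left m))) from rfl,
        KFlatLib.puSec_natural (V i).ι u,
        show u.app (W ⊓ V i) (res _ inf_le_left m) = 0 from
          (QCohLib.app_map u (homOfLE (inf_le_left : W ⊓ V i ≤ W)) m).trans (by rw [h, map_zero]),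
        puSec_zero, map_zero]
    rw [show v.app (W ⊓ V i) (res _ inf_le_left m) = res B inf_le_left (v.app W m) from
      QCohLib.app_map v (homOfLE (inf_le_left : W ⊓ V i ≤ W)) m] at h1
    have h2 := congrArg (B.presheaf.germ (W ⊓ V i) x ⟨hx, hi⟩) h1
    erw [TopCat.Presheaf.germ_res_apply, map_zero] at h2
    rw [h2, map_zero]
  have hiso : ∀ i, ∃ e : pb (V i).ι L' ≅ pb (V i).ι L₀,
      (Scheme.Modules.pullback (V i).ι).map s' ≫ e.hom = (Scheme.Modules.pullback (V i).ι).map s₀ := fun i => by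
    obtain ⟨h1, e, he⟩ := h i
    refine ⟨e, ?_⟩
    have he' : (Scheme.Modules.pullbackComp (V i).ι g).inv.app E ≫ (Scheme.Modules.pullback (V i).ι).map s' ≫ e.hom =
        (Scheme.Modules.pullbackComp (V i).ι g).inv.app E ≫ (Scheme.Modules.pullback (V i).ι).map s₀ := by
      refine Eq.trans ?_ he
      simp [QPt.map, Scheme.Modules.pullbackCongr]
      all_goals rfl
    exact (cancel_epi _).1 he'
  refine ⟨key _ _ s' s₀ hiso, key _ _ s₀ s' fun i => ?_⟩
  obtain ⟨e, he⟩ := hiso i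
  exact ⟨e.symm, by rw [← he, Category.assoc, Iso.symm_hom, e.hom_inv_id, Category.comp_id]⟩

/-- Gluing. -/
theorem isSheaf_quotF : Presheaf.IsSheaf Scheme.zariskiTopology (quotF E r) := by
  rw [isSheaf_iff_isSheaf_of_type, Precoverage.isSheaf_toGrothendieck_iff_of_isStableUnderBaseChange_of_small.{u}]
  intro T (𝒰 : T.OpenCover)
  refine (Presieve.isSheafFor_arrows_iff _ _).2 fun a₀ ha₀ => ?_
  let a : ∀ i, Shrink.{u} (Cls E r (𝒰.X i)) := a₀
  have ha : ∀ i j (Z : Scheme.{u}) (gi : Z ⟶ 𝒰.X i) (gj : Z ⟶ 𝒰.X j), gi ≫ 𝒰.f i = gj ≫ 𝒰.f j →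
      clsMap gi (a i) = clsMap gj (a j) := fun i j Z gi gj h => ha₀ i j Z gi gj h
  have hrep : ∀ i, ∃ P : QPt E r (𝒰.X i), P.mk' = a i := fun i => exists_mk' (a i)
  choose P hP using hrep
  let V : 𝒰.I₀ → T.Opens := fun i => (𝒰.f i).opensRange
  have hV : ∀ x : T, ∃ i, x ∈ V i := fun x => by obtain ⟨i, y, hy⟩ := 𝒰.exists_eq x; exact ⟨i, y, hy⟩
  let l : ∀ i, (V i).toScheme ⟶ 𝒰.X i := fun i =>
    IsOpenImmersion.lift (𝒰.f i) (V i).ι (Eq.subset (Scheme.Opens.range_ι _))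
  have hl : ∀ i, l i ≫ 𝒰.f i = (V i).ι := fun i => IsOpenImmersion.lift_fac _ _ _
  let g : T ⟶ X := 𝒰.glueMorphisms (fun i => (P i).g) fun i j => by
    have h := ha i j _ (pullback.fst _ _) (pullback.snd _ _) pullback.condition
    rw [← hP i, ← hP j, clsMap_mk', clsMap_mk', QPt.mk'_eq_iff] at h
    exact h.1
  have hg : ∀ i, 𝒰.f i ≫ g = (P i).g := fun i => Scheme.Cover.ι_glueMorphisms 𝒰 _ _ i
  have hb : ∀ i, ∃ (L : (V i).toScheme.Modules) (hL : FlatMod.IsFinLocFreeOfRank r L) (t : pb ((V i).ι ≫ g) E ⟶ L) (ht : Epi t),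
      (⟨(V i).ι ≫ g, L, hL, t, ht⟩ : QPt E r (V i).toScheme).mk' = clsMap (l i) (a i) := fun i =>
    exists_congr_g _ (P := (P i).map (l i)) (by rw [← hP i, clsMap_mk']) (by
      show l i ≫ (P i).g = _
      rw [← hg i, ← Category.assoc, hl])
  choose L hL t ht hb using hb
  have hc : ∀ i j (W : T.Opens) (hi : W ≤ V i) (hj : W ≤ V j),
      ((⟨(V i).ι ≫ g, L i, hL i, t i, ht i⟩ : QPt E r _).map (T.homOfLE hi)).Rel
        ((⟨(V j).ι ≫ g, L j, hL j, t j, ht j⟩ : QPt E r _).map (T.homOfLE hj)) := fun i j W hi hj => by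
    rw [← QPt.mk'_eq_iff, ← clsMap_mk', ← clsMap_mk', hb, hb, clsMap_comp, clsMap_comp]
    exact ha i j _ _ _ (by rw [Category.assoc, Category.assoc, hl, hl, T.homOfLE_ι, T.homOfLE_ι])
  obtain ⟨Q, hQ'⟩ := exists_glue_cls g V hV L hL t ht hc
  have hQ : ∀ i, clsMap (V i).ι Q.mk' = clsMap (l i) (a i) := fun i => by
    rw [clsMap_mk', ← hb i, QPt.mk'_eq_iff]
    exact hQ' i
  let l' : ∀ i, 𝒰.X i ⟶ (V i).toScheme := fun i =>
    IsOpenImmersion.lift (V i).ι (𝒰.f i) (Eq.superset (Scheme.Opens.range_ι _))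
  have hl' : ∀ i, l' i ≫ (V i).ι = 𝒰.f i := fun i => IsOpenImmersion.lift_fac _ _ _
  refine ⟨Q.mk', fun i => ?_, fun y hy => ?_⟩
  · have hll : l' i ≫ l i = 𝟙 _ := by rw [← cancel_mono (𝒰.f i), Category.assoc, hl, hl', Category.id_comp]
    show clsMap (𝒰.f i) Q.mk' = a i
    rw [← hl' i, ← clsMap_comp, hQ, clsMap_comp, hll, clsMap_id]
  · obtain ⟨R, rfl⟩ := exists_mk' y
    have hy' : ∀ i, clsMap (𝒰.f i) R.mk' = a i := hy
    have hres : ∀ i, (R.map (V i).ι).Rel (Q.map (V i).ι) := fun i => by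
      rw [← QPt.mk'_eq_iff, ← clsMap_mk', ← clsMap_mk', hQ, ← hy' i, clsMap_comp, hl]
    refine QPt.mk'_eq_iff.2 (rel_of_cover V hV hres (𝒰.hom_ext _ _ fun i => ?_))
    obtain ⟨h1, -⟩ := hres i
    show 𝒰.f i ≫ R.g = 𝒰.f i ≫ Q.g
    rw [← hl' i, Category.assoc, Category.assoc]
    exact congrArg (l' i ≫ ·) h1

end GrassSch

end
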